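import Cfsg.Agent.H25.BrauerSuzukiQ8
import Cfsg.Agent.Fusion.Frobenius
import Cfsg.Agent.Cores.ZStarMain
import Cfsg.Agent.S0016

/-!
# The Brauer–Suzuki theorem

A finite group with a generalised quaternion Sylow 2-subgroup and trivial odd core has a central
involution, and its centre has order two.
-/

set_option autoImplicit false
set_option linter.unusedSectionVars false

namespace Cfsg.Agent.H25

open Subgroup Cfsg.Agent.BlockBasic

universe u

/-- `x, y` generate the quaternion Sylow 2-subgroup `P`, with `y` of order `2 ^ (k + 1)`. -/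
structure QGens {G : Type u} [Group G] (P : Sylow 2 G) (x y : G) (k : ℕ) : Prop where
  one_le : 1 ≤ k
  memx : x ∈ (P : Subgroup G)
  memy : y ∈ (P : Subgroup G)
  orderOf_y : orderOf y = 2 ^ (k + 1)
  not_mem : x ∉ zpowers y
  conj_y : x * y * x⁻¹ = y⁻¹
  sq_x : x * x = y ^ 2 ^ k
  gen : ∀ q ∈ (P : Subgroup G), ∃ i : ℕ, q = y ^ i ∨ q = x * y ^ i

variable {G : Type u} [Group G]

namespace QGens

variable {P : Sylow 2 G} {x y : G} {k : ℕ}

theorem pow_eq_one_iff (h : QGens P x y k) (i : ℕ) : y ^ i = 1 ↔ 2 ^ (k + 1) ∣ i := by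
  rw [← orderOf_dvd_iff_pow_eq_one, h.orderOf_y]

theorem z_sq (h : QGens P x y k) : y ^ 2 ^ k * y ^ 2 ^ k = 1 := by
  rw [← pow_add, h.pow_eq_one_iff, pow_succ]
  exact ⟨1, by ring⟩

theorem z_ne_one (h : QGens P x y k) : y ^ 2 ^ k ≠ 1 := fun e => by
  have := Nat.le_of_dvd (by positivity) ((h.pow_eq_one_iff _).mp e)
  rw [pow_succ] at this
  have := Nat.one_le_two_pow (n := k)
  omega

theorem sq_outer (h : QGens P x y k) (i : ℕ) : (x * y ^ i) * (x * y ^ i) = y ^ 2 ^ k := by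
  have h1 : x * y ^ i * x⁻¹ = (y ^ i)⁻¹ := by rw [← conj_pow, h.conj_y, inv_pow]
  calc (x * y ^ i) * (x * y ^ i) = (x * y ^ i * x⁻¹) * (x * x) * y ^ i := by group
    _ = (y ^ i)⁻¹ * y ^ 2 ^ k * y ^ i := by rw [h1, h.sq_x]
    _ = y ^ 2 ^ k := by rw [mul_assoc, pow_mul_comm, inv_mul_cancel_left]

theorem eq_one_or_z (h : QGens P x y k) {q : G} (hq : q ∈ (P : Subgroup G)) (hqq : q * q = 1) :
    q = 1 ∨ q = y ^ 2 ^ k := by
  obtain ⟨i, rfl | rfl⟩ := h.gen q hq
  · rw [← pow_add, h.pow_eq_one_iff, pow_succ] at hqq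
    obtain ⟨j, hj⟩ := hqq
    have hi : i = 2 ^ k * j := by
      have : 2 * i = 2 * (2 ^ k * j) := by rw [← mul_assoc, mul_comm 2 (2 ^ k), ← hj]; ring
      omega
    rcases Nat.even_or_odd' j with ⟨l, rfl | rfl⟩
    · left; rw [h.pow_eq_one_iff, hi, pow_succ]; exact ⟨l, by ring⟩
    · right
      rw [hi, show 2 ^ k * (2 * l + 1) = 2 ^ (k + 1) * l + 2 ^ k by ring, pow_add, pow_mul,
        (h.pow_eq_one_iff _).mpr dvd_rfl, one_pow, one_mul]
  · exact absurd ((h.sq_outer i).symm.trans hqq) h.z_ne_one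

theorem eq_of_commute [Finite G] (h : QGens P x y k) {a b : G} (hab : Commute a b)
    (ha : a * a = 1) (ha1 : a ≠ 1) (hb : b * b = 1) (hb1 : b ≠ 1) : a = b := by
  have : Fact (Nat.Prime 2) := ⟨Nat.prime_two⟩
  obtain ⟨Q, hQ, haQ, hbQ⟩ := exists_isPGroup_of_commute hab
    ⟨1, by rw [pow_one]; exact orderOf_eq_prime (by rw [sq]; exact ha) ha1⟩
    ⟨1, by rw [pow_one]; exact orderOf_eq_prime (by rw [sq]; exact hb) hb1⟩
  obtain ⟨g, hg⟩ := exists_conj_into P hQ
  have key : ∀ c ∈ Q, c * c = 1 → c ≠ 1 → g * c * g⁻¹ = y ^ 2 ^ k := fun c hc hcc hc1 =>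
    (h.eq_one_or_z (hg c hc)
      (by rw [show g * c * g⁻¹ * (g * c * g⁻¹) = g * (c * c) * g⁻¹ by group, hcc]; group)).resolve_left
      (fun e => hc1 (conj_eq_one_iff.mp e))
  simpa using (key a haQ ha ha1).trans (key b hbQ hb hb1).symm

/-- The involution is central in `P`. -/
theorem commute_z (h : QGens P x y k) {q : G} (hq : q ∈ (P : Subgroup G)) :
    Commute q (y ^ 2 ^ k) := by
  obtain ⟨i, rfl | rfl⟩ := h.gen q hq
  · exact (Commute.refl y).pow_pow i (2 ^ k)
  · exact Commute.mul_left (h.sq_x ▸ (Commute.refl x).mul_right (Commute.refl x))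
      ((Commute.refl y).pow_pow i (2 ^ k))

/-- If the elements of order four are fused, or there is no normal 2-complement. -/
theorem q8Conf [Finite G] (h : QGens P x y 1) (hno : ¬ Cfsg.HasNormalPComplement 2 G) :
    Q8Conf x y := by
  have : Fact (Nat.Prime 2) := ⟨Nat.prime_two⟩
  have hy4 : orderOf y = 4 := by rw [h.orderOf_y]; norm_num
  have hy : ∀ i : ℕ, y ^ i = 1 ↔ 4 ∣ i := fun i => by
    rw [← orderOf_dvd_iff_pow_eq_one, hy4]
  refine ⟨hy4, h.conj_y, by simpa using h.sq_x, ⟨P, h.memx, h.memy, h.gen⟩, ?_⟩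
  rw [Fusion.frobenius_criterion P] at hno
  push Not at hno
  obtain ⟨U, hUP, g, hgN, hg2, hgC⟩ := hno
  have hodd : Odd (orderOf g) := Nat.coprime_two_right.mp hg2
  rw [mem_centralizer_iff] at hgC
  push Not at hgC
  obtain ⟨u₀, hu₀, hu₀g⟩ := hgC
  have hmove : g * u₀ * g⁻¹ ≠ u₀ := fun e => hu₀g (mul_inv_eq_iff_eq_mul.mp e).symm
  have hcU : ∀ w ∈ U, g * w * g⁻¹ ∈ U := fun w hw => (mem_normalizer_iff.mp hgN w).mp hw
  have horder : ∀ q ∈ (P : Subgroup G), q ≠ 1 → q ≠ y ^ 2 → orderOf q = 4 := by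
    intro q hq h1 h2
    have hq4 : q ^ 4 = 1 := by
      obtain ⟨i, rfl | rfl⟩ := h.gen q hq
      · rw [← pow_mul, hy]; exact dvd_mul_left 4 i
      · rw [show 4 = 2 * 2 by rfl, pow_mul, sq (x * y ^ i), h.sq_outer, sq]
        exact h.z_sq
    have hd := orderOf_dvd_of_pow_eq_one hq4
    have hle := Nat.le_of_dvd (by norm_num) hd
    have hne1 : orderOf q ≠ 1 := fun e => h1 (orderOf_eq_one_iff.mp e)
    have hne2 : orderOf q ≠ 2 := fun e => by
      have := h.eq_one_or_z hq (by rw [← sq, ← e, pow_orderOf_eq_one])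
      rw [pow_one] at this
      tauto
    have hne3 : orderOf q ≠ 3 := fun e => by rw [e] at hd; norm_num at hd
    have := orderOf_pos q
    omega
  have hconjz : ∀ w ∈ U, g * w * g⁻¹ = y ^ 2 → w = y ^ 2 := fun w hw e => by
    rcases h.eq_one_or_z (hUP hw) (by
      have h1 : g * (w * w) * g⁻¹ = 1 := by
        rw [show g * (w * w) * g⁻¹ = (g * w * g⁻¹) * (g * w * g⁻¹) by group, e]
        simpa using h.z_sq
      exact conj_eq_one_iff.mp h1) with r | r
    · rw [r] at e
      exact absurd (by simpa using e.symm) (by simpa using h.z_ne_one)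
    · simpa using r
  have hu4 : orderOf u₀ = 4 := by
    refine horder _ (hUP hu₀) (fun e => hmove (by rw [e]; group)) fun e => hmove ?_
    rcases h.eq_one_or_z (hUP (hcU _ hu₀)) (by
      rw [show g * u₀ * g⁻¹ * (g * u₀ * g⁻¹) = g * (u₀ * u₀) * g⁻¹ by group, e]
      simpa using h.z_sq) with r | r
    · rw [conj_eq_one_iff.mp r] at e
      exact absurd e.symm (by simpa using h.z_ne_one)
    · rw [r, e, pow_one]
  set w := g * u₀ * g⁻¹ with hw
  set w2 := g * w * g⁻¹ with hw2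
  have hw4 : orderOf w = 4 := (MulEquiv.orderOf_eq (MulAut.conj g) u₀).trans hu4
  have hw24 : orderOf w2 = 4 := (MulEquiv.orderOf_eq (MulAut.conj g) w).trans hw4
  have hnz : w ∉ zpowers u₀ := fun e =>
    hmove (conj_eq_of_zpowers hodd 2 (by rw [hu4]; norm_num) e)
  have hnz2 : w2 ∉ zpowers u₀ := fun e => by
    have hg2o : Odd (orderOf (g ^ 2)) := hodd.of_dvd_nat (orderOf_pow_dvd 2)
    have h1 := conj_eq_of_zpowers hg2o 2 (c := u₀) (by rw [hu4]; norm_num) (by
      convert e using 1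
      rw [hw2, hw, sq]; group)
    refine hmove (conj_eq_of_sq hodd ?_)
    calc g * (g * u₀ * g⁻¹) * g⁻¹ = g ^ 2 * u₀ * (g ^ 2)⁻¹ := by rw [sq]; group
      _ = u₀ := h1
  have hnz3 : w2 ∉ zpowers w := fun e => by
    have h1 := conj_eq_of_zpowers hodd 2 (by rw [hw4]; norm_num) e
    exact hmove (by rw [hw] at h1; exact mul_left_cancel (mul_right_cancel h1))
  classical
  let S6 : Finset G := {y, y ^ 3, x, x * y ^ 2, x * y, x * y ^ 3}
  have hS6 : ∀ q ∈ (P : Subgroup G), orderOf q = 4 → q ∈ S6 := by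
    intro q hq h4
    have hper : ∀ i : ℕ, y ^ i = y ^ (i % 4) := fun i => by
      rw [← hy4]; exact pow_eq_pow_mod i (pow_orderOf_eq_one y) |>.trans rfl
    obtain ⟨i, hi | hi⟩ := h.gen q hq
    · rw [hper] at hi
      have : i % 4 = 0 ∨ i % 4 = 1 ∨ i % 4 = 2 ∨ i % 4 = 3 := by omega
      rcases this with e | e | e | e <;> rw [e] at hi
      · rw [hi, pow_zero, orderOf_one] at h4; omega
      · simp [S6, hi]
      · rw [hi] at h4
        have h5 : (y ^ 2) ^ 2 = 1 := by rw [← pow_mul, hy]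
        have := Nat.le_of_dvd (by norm_num) (orderOf_dvd_of_pow_eq_one h5)
        omega
      · simp [S6, hi]
    · rw [hper] at hi
      have : i % 4 = 0 ∨ i % 4 = 1 ∨ i % 4 = 2 ∨ i % 4 = 3 := by omega
      rcases this with e | e | e | e <;> rw [e] at hi <;> simp [S6, hi]
  let T6 : Finset G := {u₀, u₀⁻¹, w, w⁻¹, w2, w2⁻¹}
  have hinv : ∀ a : G, orderOf a = 4 → a ≠ a⁻¹ := fun a ha e => by
    have h2 : a ^ 2 = 1 := by rw [sq]; exact mul_eq_one_iff_eq_inv.mpr e
    have := Nat.le_of_dvd (by norm_num) (orderOf_dvd_of_pow_eq_one h2)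
    omega
  have hT6 : T6.card = 6 := by
    have a1 : u₀ ≠ w := fun e => hnz (e ▸ mem_zpowers u₀)
    have a2 : u₀ ≠ w⁻¹ := fun e => hnz (by rw [← inv_inv w, ← e]; exact inv_mem (mem_zpowers u₀))
    have a3 : u₀ ≠ w2 := fun e => hnz2 (e ▸ mem_zpowers u₀)
    have a4 : u₀ ≠ w2⁻¹ := fun e => hnz2 (by rw [← inv_inv w2, ← e]; exact inv_mem (mem_zpowers u₀))
    have a5 : w ≠ w2 := fun e => hnz3 (e ▸ mem_zpowers w)
    have a6 : w ≠ w2⁻¹ := fun e => hnz3 (by rw [← inv_inv w2, ← e]; exact inv_mem (mem_zpowers w))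
    have b1 : u₀⁻¹ ≠ w := fun e => a2 (by rw [← e, inv_inv])
    have b2 : u₀⁻¹ ≠ w⁻¹ := fun e => a1 (inv_injective e)
    have b3 : u₀⁻¹ ≠ w2 := fun e => a4 (by rw [← e, inv_inv])
    have b4 : u₀⁻¹ ≠ w2⁻¹ := fun e => a3 (inv_injective e)
    have b5 : w⁻¹ ≠ w2 := fun e => a6 (by rw [← e, inv_inv])
    have b6 : w⁻¹ ≠ w2⁻¹ := fun e => a5 (inv_injective e)
    simp [T6, hinv u₀ hu4, hinv w hw4, hinv w2 hw24, a1, a2, a3, a4, a5, a6, b1, b2, b3, b4, b5, b6]
  have hsub : T6 ⊆ S6 := by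
    intro q hq
    simp only [T6, Finset.mem_insert, Finset.mem_singleton] at hq
    have hwU : w ∈ U := hcU _ hu₀
    have hw2U : w2 ∈ U := hcU _ hwU
    rcases hq with rfl | rfl | rfl | rfl | rfl | rfl
    · exact hS6 _ (hUP hu₀) hu4
    · exact hS6 _ (inv_mem (hUP hu₀)) (by rw [orderOf_inv]; exact hu4)
    · exact hS6 _ (hUP hwU) hw4
    · exact hS6 _ (inv_mem (hUP hwU)) (by rw [orderOf_inv]; exact hw4)
    · exact hS6 _ (hUP hw2U) hw24
    · exact hS6 _ (inv_mem (hUP hw2U)) (by rw [orderOf_inv]; exact hw24)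
  have heq : T6 = S6 := Finset.eq_of_subset_of_card_le hsub (by
    rw [hT6]; exact Finset.card_le_six)
  have hcase : ∀ q ∈ T6, IsConj u₀ q ∨ IsConj u₀⁻¹ q := by
    intro q hq
    have hw' : IsConj u₀ w := isConj_iff.mpr ⟨g, rfl⟩
    have hw2' : IsConj u₀ w2 := hw'.trans (isConj_iff.mpr ⟨g, rfl⟩)
    have hinvc : ∀ a b : G, IsConj a b → IsConj a⁻¹ b⁻¹ := fun a b e => by
      obtain ⟨c, rfl⟩ := isConj_iff.mp e
      exact isConj_iff.mpr ⟨c, by group⟩
    simp only [T6, Finset.mem_insert, Finset.mem_singleton] at hq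
    rcases hq with rfl | rfl | rfl | rfl | rfl | rfl
    · exact Or.inl (IsConj.refl _)
    · exact Or.inr (IsConj.refl _)
    · exact Or.inl hw'
    · exact Or.inr (hinvc _ _ hw')
    · exact Or.inl hw2'
    · exact Or.inr (hinvc _ _ hw2')
  have hyy : IsConj y y⁻¹ := isConj_iff.mpr ⟨x, h.conj_y⟩
  have hyT : y ∈ T6 := by rw [heq]; simp [S6]
  have hinvc : ∀ a b : G, IsConj a b → IsConj a⁻¹ b⁻¹ := fun a b e => by
    obtain ⟨c, rfl⟩ := isConj_iff.mp e
    exact isConj_iff.mpr ⟨c, by group⟩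
  have hu : IsConj u₀ u₀⁻¹ := by
    rcases hcase y hyT with e | e
    · exact e.trans (hyy.trans (hinvc _ _ e).symm)
    · have e' := hinvc _ _ e
      rw [inv_inv] at e'
      exact e'.trans (hyy.symm.trans e.symm)
  have hall : ∀ q ∈ (P : Subgroup G), orderOf q = 4 → IsConj y q := by
    intro q hq h4
    have hqT : q ∈ T6 := heq ▸ hS6 q hq h4
    have key : ∀ a ∈ T6, IsConj u₀ a := fun a ha => (hcase a ha).elim id hu.trans
    exact (key y hyT).symm.trans (key q hqT)
  intro a ha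
  obtain ⟨Q, hQ, haQ, -⟩ := exists_isPGroup_of_commute (Commute.refl a)
    ⟨2, ha.trans (by norm_num)⟩ ⟨2, ha.trans (by norm_num)⟩
  obtain ⟨c, hc⟩ := exists_conj_into P hQ
  exact (hall _ (hc a haQ) ((MulEquiv.orderOf_eq (MulAut.conj c) a).trans ha)).trans
    (isConj_iff.mpr ⟨c, rfl⟩).symm

end QGens

/-- Generators from an isomorphism with a quaternion group. -/
theorem exists_qgens [Finite G] (P : Sylow 2 G) {n : ℕ}
    (e : (P : Subgroup G) ≃* QuaternionGroup (2 ^ (n + 1))) :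
    ∃ x y : G, QGens P x y (n + 1) := by
  have : NeZero (2 ^ (n + 1)) := ⟨by positivity⟩
  have : NeZero (2 * 2 ^ (n + 1)) := ⟨by positivity⟩
  set A : QuaternionGroup (2 ^ (n + 1)) := QuaternionGroup.a 1
  set B : QuaternionGroup (2 ^ (n + 1)) := QuaternionGroup.xa 0
  let ι : QuaternionGroup (2 ^ (n + 1)) →* G :=
    (P : Subgroup G).subtype.comp e.symm.toMonoidHom
  have hι : Function.Injective ι := Subtype.val_injective.comp e.symm.injective
  refine ⟨ι B, ι A, by omega, (e.symm B).2, (e.symm A).2, ?_, ?_, ?_, ?_, ?_⟩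
  · rw [orderOf_injective ι hι, QuaternionGroup.orderOf_a_one, pow_succ' 2 (n + 1)]
  · rintro ⟨j, hj⟩
    have hj' : ι (A ^ j) = ι B := by rw [map_zpow]; exact hj
    have hmem : B ∈ zpowers A := ⟨j, hι hj'⟩
    rw [← mem_powers_iff_mem_zpowers] at hmem
    obtain ⟨m, hm⟩ := hmem
    simp [A, B, QuaternionGroup.a_one_pow] at hm
  · rw [← map_mul, ← map_inv, ← map_mul, ← map_inv]
    congr 1
    rw [mul_inv_eq_iff_eq_mul, eq_inv_mul_iff_mul_eq]
    simp [A, B]
  · rw [← map_mul, ← map_pow]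
    congr 1
    simp [A, B, QuaternionGroup.a_one_pow]
  · intro q hq
    obtain ⟨w, hw⟩ : ∃ w, ι w = q := ⟨e ⟨q, hq⟩, by simp [ι]⟩
    subst hw
    rcases w with i | i
    · exact ⟨i.val, Or.inl (by rw [← map_pow]; congr 1; simp [A, QuaternionGroup.a_one_pow])⟩
    · exact ⟨i.val, Or.inr (by
        rw [← map_pow, ← map_mul]; congr 1; simp [A, B, QuaternionGroup.a_one_pow])⟩

/-- Brauer–Suzuki: the involution of a quaternion Sylow 2-subgroup is central when the odd core
is trivial. -/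
theorem brauerSuzuki_mem_center [Finite G] (P : Sylow 2 G) {x y : G} {k : ℕ}
    (h : QGens P x y k) (hO : Cfsg.oddCore G = ⊥) : y ^ 2 ^ k ∈ center G := by
  suffices H : ∀ (N : ℕ) (G : Type u) [Group G] [Finite G] (P : Sylow 2 G) (x y : G) (k : ℕ),
      Nat.card G = N → QGens P x y k → Cfsg.oddCore G = ⊥ → y ^ 2 ^ k ∈ center G from
    H _ G P x y k rfl h hO
  clear h hO P x y k
  intro N
  induction N using Nat.strong_induction_on with
  | _ N ih =>
  intro G _ _ P x y k hN h hO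
  classical
  haveI := Fintype.ofFinite G
  have : Fact (Nat.Prime 2) := ⟨Nat.prime_two⟩
  set z := y ^ 2 ^ k with hz
  have hz2 : z * z = 1 := h.z_sq
  have hzP : z ∈ (P : Subgroup G) := pow_mem h.memy _
  by_cases hN2 : Cfsg.HasNormalPComplement 2 G
  · have hM := Cores.exists_normal_isComplement'_sylow hN2 P
    have hMbot : Cfsg.pPrimeCore 2 G = ⊥ := hO
    have htop : (P : Subgroup G) = ⊤ := by
      rw [← Subgroup.index_eq_one, hM.index_eq_card, hMbot, Subgroup.card_bot]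
    exact mem_center_iff.mpr fun g => (h.commute_z (htop ▸ mem_top g)).eq
  obtain ⟨A, hA1, hAz⟩ : ∃ A : Cfsg.IrrCharacter G, (A : G → ℂ) ≠ (fun _ => 1) ∧
      (A : G → ℂ) z = (A : G → ℂ) 1 := by
    rcases Nat.lt_or_ge k 2 with hk | hk
    · obtain rfl : k = 1 := by have := h.one_le; omega
      simpa [hz] using exists_kernel_q8 (h.q8Conf hN2)
    · exact exists_kernel_quaternion_large P x y k hk h.memy h.memx h.orderOf_y h.not_mem h.conj_y
        h.sq_x h.gen
  obtain ⟨K, hKn, hK, -⟩ := CharBasic.IsChar.exists_kernel (CharBasic.IsIrr.isCharacter A.2)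
  have hzK : z ∈ K := (hK z).mpr hAz
  have hKlt : Nat.card K < N := by
    rw [← hN]
    refine lt_of_le_of_ne (Subgroup.card_le_card_group K) fun e => ?_
    have htop := Subgroup.eq_top_of_card_eq K e
    have h0 := CharBasic.classInner_irr_of_ne A.2 CharBasic.isIrrCharacter_one hA1
    rw [CharBasic.classInner_def, Finset.sum_congr rfl (g := fun _ => (A : G → ℂ) 1)
      (fun g _ => by rw [map_one, mul_one, (hK g).mp (htop ▸ mem_top g)]), Finset.sum_const,
      Finset.card_univ, nsmul_eq_mul, ← Nat.card_eq_fintype_card, ← mul_assoc,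
      inv_mul_cancel₀ (CharInduce.card_ne_zero_complex G), one_mul] at h0
    exact CharBasic.IsIrr.one_ne_zero A.2 h0
  have hOK : Cfsg.oddCore K = ⊥ := by
    have h1 : (Cfsg.oddCore K).map K.subtype ≤ Cfsg.oddCore G := by
      haveI : (Cfsg.oddCore K).Characteristic := Cores.pPrimeCore_characteristic
      haveI : ((Cfsg.oddCore K).map K.subtype).Normal := ConjAct.normal_of_characteristic_of_normal
      refine Cores.le_oddCore ?_
      rw [Nat.card_congr (Subgroup.equivMapOfInjective _ _ K.subtype_injective).toEquiv.symm]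
      exact Cores.odd_card_oddCore
    rw [hO, le_bot_iff] at h1
    exact (Subgroup.map_eq_bot_iff_of_injective _ K.subtype_injective).mp h1
  let zK : K := ⟨z, hzK⟩
  have hzK2 : 2 ∣ Nat.card K := by
    have h1 : orderOf zK = 2 :=
      orderOf_eq_prime (by rw [sq]; exact Subtype.ext hz2) fun e => h.z_ne_one (congrArg Subtype.val e)
    exact h1 ▸ orderOf_dvd_natCard zK
  obtain ⟨S⟩ : Nonempty (Sylow 2 K) := inferInstance
  have hinvG : ∀ a : K, a * a = 1 → a ≠ 1 → ∀ b : K, b * b = 1 → b ≠ 1 → Commute a b → a = b :=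
    fun a ha ha1 b hb hb1 hab => Subtype.ext (h.eq_of_commute (congrArg Subtype.val hab.eq)
      (congrArg Subtype.val ha) (fun e => ha1 (Subtype.ext e))
      (congrArg Subtype.val hb) (fun e => hb1 (Subtype.ext e)))
  have huniq : ∀ H₁ H₂ : Subgroup (S : Subgroup K), Nat.card H₁ = 2 → Nat.card H₂ = 2 → H₁ = H₂ := by
    -- an involution in the centre of `S` absorbs all others
    have key : ∀ a b : (S : Subgroup K), orderOf a = 2 → orderOf b = 2 → a = b := by
      intro a b ha hb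
      haveI : Nontrivial (S : Subgroup K) := ⟨a, 1, fun e => by simp [e] at ha⟩
      haveI := S.isPGroup'.center_nontrivial
      obtain ⟨c, hc⟩ := exists_prime_orderOf_dvd_card' (G := center (S : Subgroup K)) 2 (by
        obtain ⟨m, hm0, hm⟩ := IsPGroup.iff_card.mp (S.isPGroup'.to_subgroup (center (S : Subgroup K))) |>
          fun ⟨m, hm⟩ => (⟨m, by
            rcases m with _ | m
            · rw [pow_zero] at hm
              exact absurd hm (Finite.one_lt_card (α := center (S : Subgroup K))).ne'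
            · exact Nat.succ_pos m, hm⟩ : ∃ m, 0 < m ∧ Nat.card (center (S : Subgroup K)) = 2 ^ m)
        rw [hm]
        exact dvd_pow_self 2 hm0.ne')
      have key1 : ∀ d : (S : Subgroup K), orderOf d = 2 → d = c := by
        intro d hd
        have hsq : ∀ e : (S : Subgroup K), orderOf e = 2 → (e : K) * (e : K) = 1 ∧ (e : K) ≠ 1 := by
          intro e he
          refine ⟨?_, fun h1 => ?_⟩
          · rw [← Subgroup.coe_mul, ← sq, orderOf_dvd_iff_pow_eq_one.mp he.dvd, OneMemClass.coe_one]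
          · rw [Subtype.ext h1 (a2 := (1 : (S : Subgroup K))), orderOf_one] at he
            omega
        have hc' : orderOf (c : (S : Subgroup K)) = 2 := by rw [Subgroup.orderOf_coe, hc]
        exact Subtype.ext (hinvG _ (hsq d hd).1 (hsq d hd).2 _ (hsq _ hc').1 (hsq _ hc').2
          (congrArg Subtype.val (mem_center_iff.mp c.2 d)))
      exact (key1 a ha).trans (key1 b hb).symm
    intro H₁ H₂ h1 h2
    obtain ⟨a, ha⟩ := exists_prime_orderOf_dvd_card' (G := H₁) 2 (by rw [h1])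
    obtain ⟨b, hb⟩ := exists_prime_orderOf_dvd_card' (G := H₂) 2 (by rw [h2])
    have hab := key a b (by rw [Subgroup.orderOf_coe, ha]) (by rw [Subgroup.orderOf_coe, hb])
    have e1 : zpowers (a : (S : Subgroup K)) = H₁ := eq_of_le_of_card_ge (zpowers_le.mpr a.2)
      (by rw [Nat.card_zpowers, Subgroup.orderOf_coe, ha, h1])
    have e2 : zpowers (b : (S : Subgroup K)) = H₂ := eq_of_le_of_card_ge (zpowers_le.mpr b.2)
      (by rw [Nat.card_zpowers, Subgroup.orderOf_coe, hb, h2])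
    rw [← e1, ← e2, hab]
  -- `z` is central in `K`
  have hzKc : zK ∈ center K := by
    rcases Cfsg.Agent.S0016.result 2 S.isPGroup' huniq with hc | ⟨-, l, ⟨e⟩⟩
    · exact Cores.mem_center_of_isCyclic_sylow S hc hOK hzK2
    rcases l with _ | l
    · haveI : IsCyclic (QuaternionGroup (2 ^ 0)) := by
        rw [pow_zero]; exact QuaternionGroup.quaternionGroup_one_isCyclic
      exact Cores.mem_center_of_isCyclic_sylow S
        (isCyclic_of_surjective e.symm.toMonoidHom e.symm.surjective) hOK hzK2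
    obtain ⟨x', y', h'⟩ := exists_qgens S e
    have hc := ih _ hKlt K S x' y' (l + 1) rfl h' hOK
    have : zK = y' ^ 2 ^ (l + 1) := hinvG _ (Subtype.ext hz2)
      (fun e => h.z_ne_one (congrArg Subtype.val e)) _ h'.z_sq h'.z_ne_one
      (mem_center_iff.mp hc zK)
    rwa [this]
  refine mem_center_iff.mpr fun g => ?_
  have hgK : g * z * g⁻¹ ∈ K := hKn.conj_mem z hzK g
  have hcomm : Commute z (g * z * g⁻¹) :=
    (congrArg Subtype.val (mem_center_iff.mp hzKc ⟨_, hgK⟩) :
      g * z * g⁻¹ * z = z * (g * z * g⁻¹)).symm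
  have := h.eq_of_commute hcomm hz2 h.z_ne_one
    (by rw [show g * z * g⁻¹ * (g * z * g⁻¹) = g * (z * z) * g⁻¹ by group, hz2]; group)
    (fun e => h.z_ne_one (conj_eq_one_iff.mp e))
  exact mul_inv_eq_iff_eq_mul.mp this.symm

/-- The centre has order two. -/
theorem brauerSuzuki_card_center [Finite G] (P : Sylow 2 G) {n : ℕ}
    (e : (P : Subgroup G) ≃* QuaternionGroup (2 ^ (n + 1)))
    (hO : Cfsg.oddCore G = ⊥) : Nat.card (center G) = 2 := by
  have : Fact (Nat.Prime 2) := ⟨Nat.prime_two⟩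
  obtain ⟨x, y, h⟩ := exists_qgens P e
  have hz := brauerSuzuki_mem_center P h hO
  set z := y ^ 2 ^ (n + 1) with hzdef
  suffices hcen : center G = zpowers z by
    rw [hcen, Nat.card_zpowers]
    exact orderOf_eq_prime (by rw [sq]; exact h.z_sq) h.z_ne_one
  refine le_antisymm (fun c hc => ?_) (zpowers_le.mpr hz)
  have hodd : pReg (p := 2) c = 1 := by
    have hm : pReg (p := 2) c ∈ center G := mul_mem (inv_mem (mem_center_iff.mpr fun g => by
      have h1 : Commute g c := mem_center_iff.mp hc g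
      exact (Q8Conf.commute_pPart_of_commute h1).eq)) hc
    haveI : (zpowers (pReg (p := 2) c)).Normal := ⟨fun w hw g => by
      obtain ⟨j, rfl⟩ := hw
      rw [mem_center_iff.mp (zpow_mem hm j) g, mul_inv_cancel_right]
      exact ⟨j, rfl⟩⟩
    have h1 := Cores.le_oddCore (N := zpowers (pReg (p := 2) c)) (by
      rw [Nat.card_zpowers, ← Nat.not_even_iff_odd, even_iff_two_dvd]
      exact not_dvd_orderOf_pReg c)
    rw [hO, le_bot_iff, zpowers_eq_bot] at h1
    exact h1
  have hcP : c ∈ (P : Subgroup G) := by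
    obtain ⟨j, hj⟩ := exists_orderOf_pPart (p := 2) c
    have hc2 : c = pPart (p := 2) c := by
      conv_lhs => rw [← pPart_mul_pReg (p := 2) c, hodd, mul_one]
    haveI : (zpowers c).Normal := ⟨fun w hw g => by
      obtain ⟨i, rfl⟩ := hw
      rw [mem_center_iff.mp (zpow_mem hc i) g, mul_inv_cancel_right]
      exact ⟨i, rfl⟩⟩
    have hp : IsPGroup 2 (zpowers c) :=
      IsPGroup.of_card (n := j) (by rw [Nat.card_zpowers, hc2, hj])
    exact ((Cores.le_pCore hp).trans (Cores.pCore_le_sylow P)) (mem_zpowers c)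
  obtain ⟨i, rfl | rfl⟩ := h.gen c hcP
  · have h1 : x * y ^ i * x⁻¹ = y ^ i := by rw [mem_center_iff.mp hc x, mul_inv_cancel_right]
    rw [← conj_pow, h.conj_y, inv_pow, inv_eq_iff_mul_eq_one] at h1
    rcases h.eq_one_or_z hcP h1 with e | e
    · rw [e]; exact one_mem _
    · rw [e]; exact mem_zpowers z
  · exfalso
    have h1 := mem_center_iff.mp hc y
    have h2 : x * y * x⁻¹ = y := by
      rw [mul_inv_eq_iff_eq_mul]
      have h3 : x * y * y ^ i = y * x * y ^ i := by
        rw [mul_assoc, ← pow_succ', pow_succ, ← mul_assoc, ← h1, ← mul_assoc]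
      exact mul_right_cancel h3
    rw [h.conj_y, inv_eq_iff_mul_eq_one, ← sq, h.pow_eq_one_iff] at h2
    have := Nat.le_of_dvd (by norm_num) h2
    have : 2 ^ 2 ≤ 2 ^ (n + 1 + 1) := Nat.pow_le_pow_right (by norm_num) (by omega)
    omega

end Cfsg.Agent.H25
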