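import Mathlib.GroupTheory.Sylow
import Mathlib.GroupTheory.Perm.Sign
import Mathlib.GroupTheory.Perm.Cycle.Type
import Mathlib.GroupTheory.GroupAction.Quotient

/-!
# Thompson's transfer lemma, by the sign of a coset action
-/

set_option autoImplicit false

namespace Cfsg.Agent.H25

open Subgroup

universe u

/-- An involution outside a subgroup `Q` of index two in a Sylow 2-subgroup is conjugate into `Q`,
unless it lies outside a normal subgroup of index 2. -/
theorem thompson_transfer {G : Type u} [Group G] [Finite G] (P : Sylow 2 G) (Q : Subgroup G)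
    (hQP : Q ≤ (P : Subgroup G)) (hQi : Q.relIndex (P : Subgroup G) = 2) (u : G)
    (hu : orderOf u = 2) (huP : u ∈ (P : Subgroup G)) (huQ : u ∉ Q) :
    (∃ M : Subgroup G, M.Normal ∧ M.index = 2 ∧ u ∉ M) ∨ ∃ g : G, g * u * g⁻¹ ∈ Q := by
  classical
  refine or_iff_not_imp_right.mpr fun hno => ?_
  push Not at hno
  have := Fintype.ofFinite (G ⧸ Q)
  let f : G →* ℤˣ := Equiv.Perm.sign.comp (MulAction.toPermHom G (G ⧸ Q))
  have hfix : ∀ q : G ⧸ Q, u • q ≠ q := by
    intro q
    induction q using QuotientGroup.induction_on with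
    | H g =>
      intro he
      rw [MulAction.Quotient.smul_mk, QuotientGroup.eq] at he
      have := Q.inv_mem he
      exact hno g⁻¹ (by simpa [smul_eq_mul, mul_assoc] using this)
  have hm : ¬ 2 ∣ (P : Subgroup G).index := P.not_dvd_index
  have hcard : Nat.card (G ⧸ Q) = 2 * (P : Subgroup G).index := by
    rw [← index_eq_card, ← relIndex_mul_index hQP, hQi]
  have hsupp : (MulAction.toPermHom G (G ⧸ Q) u).support = Finset.univ := by
    ext q; simp [hfix q]
  have hct : ∀ c ∈ (MulAction.toPermHom G (G ⧸ Q) u).cycleType, c = 2 := by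
    intro c hc
    have h1 := Equiv.Perm.dvd_of_mem_cycleType hc
    have h2 := h1.trans (orderOf_map_dvd (MulAction.toPermHom G (G ⧸ Q)) u)
    rw [hu] at h2
    exact ((Nat.dvd_prime Nat.prime_two).mp h2).resolve_left
      (Equiv.Perm.one_lt_of_mem_cycleType hc).ne'
  have hrep := Multiset.eq_replicate_card.mpr hct
  set k := Multiset.card (MulAction.toPermHom G (G ⧸ Q) u).cycleType with hk
  have hkm : k = (P : Subgroup G).index := by
    have h1 := Equiv.Perm.sum_cycleType (MulAction.toPermHom G (G ⧸ Q) u)
    rw [hrep, Multiset.sum_replicate, smul_eq_mul, hsupp, Finset.card_univ,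
      ← Nat.card_eq_fintype_card, hcard] at h1
    omega
  have hfu : f u = -1 := by
    change Equiv.Perm.sign (MulAction.toPermHom G (G ⧸ Q) u) = -1
    rw [Equiv.Perm.sign_of_cycleType, hrep, Multiset.sum_replicate, Multiset.card_replicate,
      hkm, smul_eq_mul, pow_add, pow_mul']
    norm_num [Odd.neg_one_pow (Nat.odd_iff.mpr (by omega : (P : Subgroup G).index % 2 = 1))]
  refine ⟨f.ker, inferInstance, ?_, ?_⟩
  · rw [index_ker, MonoidHom.range_eq_top.mpr, card_top, Nat.card_eq_fintype_card,
      Fintype.card_units_int]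
    intro z
    rcases Int.units_eq_one_or z with rfl | rfl
    · exact ⟨1, map_one f⟩
    · exact ⟨u, hfu⟩
  · rw [MonoidHom.mem_ker, hfu]
    decide

end Cfsg.Agent.H25
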