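import Mathlib.GroupTheory.Focal
import Mathlib.GroupTheory.Nilpotent

/-!
# Transfer into abelian Hall subgroups, and normal complements of Hall subgroups
-/

set_option autoImplicit false

namespace Cfsg.Agent.H25

open Subgroup
open scoped commutatorElement IsMulCommutative Pointwise

universe u

variable {G : Type u} [Group G]

/-- Elements of coprime order in a nilpotent group commute. -/
theorem commute_of_coprime_orderOf [Finite G] [Group.IsNilpotent G] :
    ∀ a x : G, Nat.Coprime (orderOf a) (orderOf x) → a * x = x * a := by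
  refine Group.nilpotent_center_quotient_ind
    (P := fun G _ _ => ∀ a x : G, Nat.Coprime (orderOf a) (orderOf x) → a * x = x * a) G ?_ ?_
  · intro G _ _ a x _; exact Subsingleton.elim _ _
  · intro G _ _ ih a x h
    have hq := ih (QuotientGroup.mk' _ a) (QuotientGroup.mk' _ x)
      ((h.coprime_dvd_left (orderOf_map_dvd _ a)).coprime_dvd_right (orderOf_map_dvd _ x))
    have hc : ⁅a, x⁆ ∈ center G := by
      rw [← QuotientGroup.eq_one_iff, ← QuotientGroup.mk'_apply, map_commutatorElement]
      exact commutatorElement_eq_one_iff_mul_comm.mpr hq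
    have hcc := mem_center_iff.mp hc
    set z := ⁅a, x⁆ with hz
    have h1 : a * x * a⁻¹ = z * x := by rw [hz]; group
    have h2 : x * a⁻¹ * x⁻¹ = a⁻¹ * z := by rw [hz]; group
    have e1 : z ^ orderOf x = 1 := by
      have h3 : (a * x * a⁻¹) ^ orderOf x = 1 := by rw [conj_pow, pow_orderOf_eq_one]; group
      rw [h1, Commute.mul_pow (hcc x).symm, pow_orderOf_eq_one, mul_one] at h3
      exact h3
    have e2 : z ^ orderOf a = 1 := by
      have h3 : (x * a⁻¹ * x⁻¹) ^ orderOf a = 1 := by
        rw [conj_pow, inv_pow, pow_orderOf_eq_one]; group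
      rw [h2, Commute.mul_pow (hcc a⁻¹), inv_pow, pow_orderOf_eq_one, inv_one, one_mul] at h3
      exact h3
    apply commutatorElement_eq_one_iff_mul_comm.mp
    exact orderOf_eq_one_iff.mp (Nat.eq_one_of_dvd_coprimes h
      (orderOf_dvd_of_pow_eq_one e2) (orderOf_dvd_of_pow_eq_one e1))

/-- Transfer onto `H` modulo its focal subgroup, when the index of `H` is prime to `|H : H'|`. -/
theorem transferFocal_ker [Finite G] (H : Subgroup G)
    (h : Nat.Coprime H.index (⁅H, H⁆.relIndex H)) :
    H.transferFocal.ker ⊓ H = H.focalSubgroup ∧ H.transferFocal.ker ⊔ H = ⊤ := by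
  have hd : Nat.card (H ⧸ H.focalSubgroupOf) ∣ ⁅H, H⁆.relIndex H := by
    rw [← index_eq_card]
    exact relIndex_dvd_of_le_left H H.commutator_le_focalSubgroup
  have hc : (Nat.card (H ⧸ H.focalSubgroupOf)).Coprime H.index :=
    (h.coprime_dvd_right hd).symm
  have hbij := (powCoprime hc).bijective
  constructor
  · refine le_antisymm (fun x hx => ?_) (le_inf ?_ H.focalSubgroup_le)
    · obtain ⟨hxk, hxH⟩ := hx
      have h1 : ((⟨x, hxH⟩ : H) : H ⧸ H.focalSubgroupOf) ^ H.index = 1 ^ H.index := by
        rw [one_pow, ← H.transferFocal_eq_pow ⟨x, hxH⟩]; exact hxk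
      exact mem_subgroupOf.mp
        ((QuotientGroup.eq_one_iff (N := H.focalSubgroupOf) ⟨x, hxH⟩).mp (hbij.1 h1))
    · exact H.focalSubgroup_le_commutator.trans (Abelianization.commutator_subset_ker _)
  · rw [eq_top_iff]
    intro g _
    obtain ⟨y, hy⟩ := hbij.2 (H.transferFocal g)
    obtain ⟨x, rfl⟩ := QuotientGroup.mk'_surjective _ y
    have hx : H.transferFocal x = H.transferFocal g := (H.transferFocal_eq_pow x).trans hy
    have hm : g * (x : G)⁻¹ ∈ H.transferFocal.ker := by simp [MonoidHom.mem_ker, hx]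
    have := mul_mem (mem_sup_left (T := H) hm) (mem_sup_right x.2)
    rwa [inv_mul_cancel_right] at this

/-- A Hall subgroup has a normal complement as soon as there is, for each of its prime divisors,
a normal subgroup of index a power of that prime and of order prime to it. -/
theorem exists_normal_complement_of_forall_prime [Finite G] (H : Subgroup G)
    (hHall : Nat.Coprime (Nat.card H) H.index)
    (h : ∀ p : ℕ, p.Prime → p ∣ Nat.card H →
      ∃ M : Subgroup G, M.Normal ∧ ¬ p ∣ Nat.card M ∧ ∃ n : ℕ, M.index = p ^ n) :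
    ∃ N : Subgroup G, N.Normal ∧ N.IsComplement' H := by
  choose M hMn hMc n hMi using h
  let N : Subgroup G := ⨅ (p : ℕ) (hp : p.Prime) (hd : p ∣ Nat.card H), M p hp hd
  have hN : N.Normal := normal_iInf_normal fun p => normal_iInf_normal fun hp =>
    normal_iInf_normal fun hd => hMn p hp hd
  have := hN
  have h1 : Nat.Coprime (Nat.card N) (Nat.card H) := by
    refine Nat.coprime_of_dvd fun p hp hpN hpH => hMc p hp hpH (hpN.trans (card_dvd_of_le ?_))
    exact iInf_le_of_le p (iInf_le_of_le hp (iInf_le _ hpH))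
  have h2 : Nat.Coprime N.index H.index := by
    refine Nat.coprime_of_dvd fun r hr hrN hrH => ?_
    have := Fact.mk hr
    have R : Sylow r G := default
    refine R.not_dvd_index (hrN.trans (index_dvd_of_le fun x hx => ?_))
    refine mem_iInf.mpr fun p => mem_iInf.mpr fun hp => mem_iInf.mpr fun hd => ?_
    have := hMn p hp hd
    obtain ⟨k, hk⟩ := IsPGroup.iff_orderOf.mp R.isPGroup' ⟨x, hx⟩
    rw [orderOf_mk] at hk
    have hpr : p ≠ r := by
      rintro rfl
      exact hr.not_dvd_one ((Nat.Coprime.gcd_eq_one hHall) ▸ Nat.dvd_gcd hd hrH)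
    have hd1 : orderOf (QuotientGroup.mk' (M p hp hd) x) ∣ r ^ k := hk ▸ orderOf_map_dvd _ x
    have hd2 : orderOf (QuotientGroup.mk' (M p hp hd) x) ∣ p ^ n p hp hd := by
      rw [← hMi p hp hd, index_eq_card]; exact _root_.orderOf_dvd_natCard _
    have := Nat.eq_one_of_dvd_coprimes
      (((Nat.coprime_primes hr hp).mpr hpr.symm).pow k (n p hp hd)) hd1 hd2
    exact (QuotientGroup.eq_one_iff x).mp (orderOf_eq_one_iff.mp this)
  have h3 : N.index ∣ Nat.card H := by
    refine h2.dvd_of_dvd_mul_right ?_
    rw [card_mul_index]; exact index_dvd_card N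
  have h4 : Nat.card N ∣ H.index := by
    refine h1.dvd_of_dvd_mul_left ?_
    rw [card_mul_index]; exact card_subgroup_dvd_card N
  refine ⟨N, hN, isComplement'_of_coprime ?_ h1⟩
  refine le_antisymm ?_ ?_
  · calc Nat.card N * Nat.card H ≤ H.index * Nat.card H :=
          Nat.mul_le_mul_right _ (Nat.le_of_dvd (Nat.pos_of_ne_zero H.index_ne_zero_of_finite) h4)
      _ = Nat.card G := H.index_mul_card
  · calc Nat.card G = Nat.card N * N.index := (card_mul_index N).symm
      _ ≤ Nat.card N * Nat.card H :=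
          Nat.mul_le_mul_left _ (Nat.le_of_dvd Nat.card_pos h3)

/-- The transfer into an abelian Hall subgroup separates it from `G' ∩ Z(G)`. -/
theorem eq_one_of_mem_commutator_of_mem_center [Finite G] (H : Subgroup G)
    (hc : IsMulCommutative H) (hHall : Nat.Coprime (Nat.card H) H.index) {z : G} (hz : z ∈ H)
    (hzc : z ∈ center G) (hzd : z ∈ commutator G) : z = 1 := by
  have hfoc : H.focalSubgroup ≤ H := H.focalSubgroup_le
  have key : ∀ (k : ℕ) (g₀ : G), g₀⁻¹ * z ^ k * g₀ ∈ H → g₀⁻¹ * z ^ k * g₀ = z ^ k := by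
    intro k g₀ _
    rw [mul_assoc, ← mem_center_iff.mp (pow_mem hzc k) g₀, inv_mul_cancel_left]
  have h1 := MonoidHom.transfer_eq_pow (MonoidHom.id H) z key
  have h2 : MonoidHom.transfer (MonoidHom.id H) z = 1 :=
    Abelianization.commutator_subset_ker _ hzd
  rw [h2, MonoidHom.id_apply] at h1
  have h3 : z ^ H.index = 1 := by
    have := congrArg (Subtype.val : H → G) h1
    simpa using this.symm
  have h4 : z ^ Nat.card H = 1 := orderOf_dvd_iff_pow_eq_one.mp (H.orderOf_dvd_natCard hz)
  have h5 := (pow_gcd_eq_one (a := z) (m := Nat.card H) (n := H.index)).mpr ⟨h4, h3⟩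
  rwa [hHall.gcd_eq_one, pow_one] at h5

end Cfsg.Agent.H25
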