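import Mathlib.GroupTheory.SpecificGroups.Quaternion
import Mathlib.GroupTheory.SemidirectProduct
import Mathlib.LinearAlgebra.Matrix.SpecialLinearGroup
import Cfsg.Agent.PGroups.TwoGroups

/-!
# Recognising `SL(2,3)` as the extension of the quaternion group by an automorphism of order 3
-/

set_option autoImplicit false

namespace Cfsg.Agent.H25

open Subgroup

universe u

variable {Γ : Type u} [Group Γ]

/-- Relations saying that `g` permutes `c`, `y = g c g⁻¹`, `c y` cyclically, in a quaternion group. -/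
structure SL23Rel (c g : Γ) : Prop where
  g3 : g ^ 3 = 1
  c4 : c ^ 4 = 1
  ysq : (g * c * g⁻¹) ^ 2 = c ^ 2
  inv : g * c * g⁻¹ * c * (g * c * g⁻¹)⁻¹ = c⁻¹
  shift : g * (g * c * g⁻¹) * g⁻¹ = c * (g * c * g⁻¹)

/-- The homomorphism from the quaternion group given by two generators. -/
def quaternionHom (c y : Γ) (h4 : c ^ 4 = 1) (h2 : y ^ 2 = c ^ 2) (hc : y * c * y⁻¹ = c⁻¹) :
    QuaternionGroup 2 →* Γ :=
  MonoidHom.mk'
    (fun q => match q with
      | QuaternionGroup.a i => c ^ i.val
      | QuaternionGroup.xa i => y * c ^ i.val) (by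
    have hv : ∀ (i : ZMod (2 * 2)) (z : ℤ), (z : ZMod (2 * 2)) = i → c ^ i.val = c ^ z := by
      intro i z h
      have hd : ((2 * 2 : ℕ) : ℤ) ∣ z - (i.val : ℤ) := by
        rw [← ZMod.intCast_eq_intCast_iff_dvd_sub]; simp [h]
      obtain ⟨t, ht⟩ := hd
      rw [show z = (i.val : ℤ) + 4 * t by push_cast at ht; linarith, zpow_add, zpow_natCast,
        zpow_mul, show (c : Γ) ^ (4 : ℤ) = 1 from (zpow_natCast c 4).trans h4, one_zpow, mul_one]
    rintro (i | i) (j | j)
    · rw [QuaternionGroup.a_mul_a]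
      show c ^ (i + j).val = c ^ i.val * c ^ j.val
      rw [hv _ ((i.val : ℤ) + j.val) (by simp), zpow_add, zpow_natCast, zpow_natCast]
    · rw [QuaternionGroup.a_mul_xa]
      show y * c ^ (j - i).val = c ^ i.val * (y * c ^ j.val)
      rw [hv _ (-(i.val : ℤ) + j.val) (by simp; ring), zpow_add, ← mul_assoc (c ^ i.val),
        ← zpow_natCast c i.val, PGroups.zpow_mul_of_conj_eq_inv hc, zpow_natCast c j.val, mul_assoc]
    · rw [QuaternionGroup.xa_mul_a]
      show y * c ^ (i + j).val = y * c ^ i.val * c ^ j.val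
      rw [hv _ ((i.val : ℤ) + j.val) (by simp), zpow_add, zpow_natCast, zpow_natCast, mul_assoc]
    · rw [QuaternionGroup.xa_mul_xa]
      show c ^ ((2 : ZMod (2 * 2)) + j - i).val = y * c ^ i.val * (y * c ^ j.val)
      rw [hv _ ((2 : ℤ) + (-(i.val : ℤ) + j.val)) (by simp; ring), zpow_add, zpow_add,
        ← zpow_natCast c i.val, mul_assoc y, ← mul_assoc _ y, PGroups.zpow_mul_of_conj_eq_inv hc,
        zpow_natCast c j.val, ← mul_assoc y, ← mul_assoc y, ← sq y, h2,
        show (c : Γ) ^ (2 : ℤ) = c ^ 2 from zpow_natCast c 2, mul_assoc])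

theorem quaternion_hom_ext {f f' : QuaternionGroup 2 →* Γ}
    (ha : f (QuaternionGroup.a 1) = f' (QuaternionGroup.a 1))
    (hx : f (QuaternionGroup.xa 0) = f' (QuaternionGroup.xa 0)) : f = f' := by
  have h1 : ∀ i : ZMod (2 * 2), f (QuaternionGroup.a i) = f' (QuaternionGroup.a i) := fun i => by
    rw [← ZMod.natCast_zmod_val i, ← QuaternionGroup.a_one_pow, map_pow, map_pow, ha]
  refine MonoidHom.ext fun q => ?_
  rcases q with i | i
  · exact h1 i
  · have h2 : (QuaternionGroup.xa i : QuaternionGroup 2) =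
        QuaternionGroup.xa 0 * QuaternionGroup.a i := by
      rw [QuaternionGroup.xa_mul_a, zero_add]
    rw [h2, map_mul, map_mul, hx, h1 i]

/-- The endomorphism `a ↦ x`, `x ↦ a x` of the quaternion group. -/
def rotHom : QuaternionGroup 2 →* QuaternionGroup 2 :=
  quaternionHom (QuaternionGroup.xa 0) (QuaternionGroup.a 1 * QuaternionGroup.xa 0)
    (by decide) (by decide) (by decide)

/-- `rotHom` as an automorphism. -/
noncomputable def rotate : MulAut (QuaternionGroup 2) :=
  MulEquiv.ofBijective rotHom (by decide)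

theorem rotate_apply (x : QuaternionGroup 2) : rotate x = rotHom x :=
  MulEquiv.ofBijective_apply rotHom _ x

theorem rotate_a : rotate (QuaternionGroup.a 1) = QuaternionGroup.xa 0 := by
  rw [rotate_apply]
  decide

theorem rotate_xa : rotate (QuaternionGroup.xa 0) = QuaternionGroup.a 1 * QuaternionGroup.xa 0 := by
  rw [rotate_apply]
  decide

theorem rotate_cube : rotate ^ 3 = 1 := by
  refine MulEquiv.ext fun q => ?_
  show rotate (rotate (rotate q)) = q
  have h : ∀ q : QuaternionGroup 2, rotHom (rotHom (rotHom q)) = q := by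
    decide
  exact h q

/-- The action of the cyclic group of order 3. -/
noncomputable def rotAction : Multiplicative (ZMod 3) →* MulAut (QuaternionGroup 2) :=
  MonoidHom.mk' (fun i => rotate ^ (Multiplicative.toAdd i).val) (fun i j => by
    rw [← pow_add, toAdd_mul, ZMod.val_add]
    exact (pow_eq_pow_mod _ rotate_cube).symm)

/-- The model group. -/
abbrev Model : Type := QuaternionGroup 2 ⋊[rotAction] Multiplicative (ZMod 3)

/-- Elements satisfying the relations span a copy of the model. -/
theorem exists_model_hom {c g : Γ} (h : SL23Rel c g) (hc : c ^ 2 ≠ 1)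
    (hg : g ∉ closure ({c, g * c * g⁻¹} : Set Γ)) :
    ∃ f : Model →* Γ, Function.Injective f ∧ c ∈ f.range ∧ g ∈ f.range := by
  let q := quaternionHom c (g * c * g⁻¹) h.c4 h.ysq h.inv
  have hq1 : q (QuaternionGroup.a 1) = c := by
    show c ^ (1 : ZMod (2 * 2)).val = c
    rw [show (1 : ZMod (2 * 2)).val = 1 from rfl, pow_one]
  have hq2 : q (QuaternionGroup.xa 0) = g * c * g⁻¹ := by
    show g * c * g⁻¹ * c ^ (0 : ZMod (2 * 2)).val = _
    rw [ZMod.val_zero, pow_zero, mul_one]
  have hbase : ∀ x, q (rotate x) = g * q x * g⁻¹ := by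
    have h' : q.comp rotate.toMonoidHom = (MulAut.conj g).toMonoidHom.comp q := by
      refine quaternion_hom_ext ?_ ?_
      · show q (rotate (QuaternionGroup.a 1)) = g * q (QuaternionGroup.a 1) * g⁻¹
        rw [rotate_a, hq2, hq1]
      · show q (rotate (QuaternionGroup.xa 0)) = g * q (QuaternionGroup.xa 0) * g⁻¹
        rw [rotate_xa, map_mul, hq1, hq2, h.shift]
    exact fun x => DFunLike.congr_fun h' x
  have hpow : ∀ (n : ℕ) x, q ((rotate ^ n) x) = g ^ n * q x * (g ^ n)⁻¹ := by
    intro n
    induction n with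
    | zero => simp
    | succ n ih =>
      intro x
      rw [pow_succ', MulAut.mul_apply, hbase, ih, pow_succ']
      group
  let t : Multiplicative (ZMod 3) →* Γ :=
    MonoidHom.mk' (fun i => g ^ (Multiplicative.toAdd i).val) (fun i j => by
      rw [← pow_add, toAdd_mul, ZMod.val_add]
      exact (pow_eq_pow_mod _ h.g3).symm)
  let f : Model →* Γ := SemidirectProduct.lift q t (fun i => MonoidHom.ext fun x => hpow _ x)
  have hqr : q.range ≤ closure ({c, g * c * g⁻¹} : Set Γ) := by
    rintro _ ⟨x, rfl⟩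
    rcases x with i | i
    · exact pow_mem (subset_closure (Set.mem_insert _ _)) _
    · exact mul_mem (subset_closure (Set.mem_insert_of_mem _ rfl))
        (pow_mem (subset_closure (Set.mem_insert _ _)) _)
  refine ⟨f, ?_, ?_, ?_⟩
  · rw [← MonoidHom.ker_eq_bot_iff, eq_bot_iff]
    rintro ⟨x, i⟩ hx
    have hx' : q x * g ^ (Multiplicative.toAdd i).val = 1 := hx
    have hi : i = 1 := by
      by_contra hi
      have hcases : ∀ i : Multiplicative (ZMod 3), i ≠ 1 →
          (Multiplicative.toAdd i).val = 1 ∨ (Multiplicative.toAdd i).val = 2 := by decide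
      have hm : g ^ (Multiplicative.toAdd i).val ∈ closure ({c, g * c * g⁻¹} : Set Γ) := by
        rw [eq_inv_of_mul_eq_one_right hx']
        exact inv_mem (hqr ⟨x, rfl⟩)
      rcases hcases i hi with hv | hv <;> rw [hv] at hm
      · rw [pow_one] at hm; exact hg hm
      · refine hg ?_
        have := pow_mem hm 2
        rw [← pow_mul, show 2 * 2 = 3 + 1 from rfl, pow_succ, h.g3, one_mul] at this
        exact this
    subst hi
    simp only [toAdd_one, ZMod.val_zero, pow_zero, mul_one] at hx'
    have hx1 : x = 1 := by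
      by_contra hx1
      have hz : ∀ x : QuaternionGroup 2, x ≠ 1 →
          x = QuaternionGroup.a 2 ∨ x * x = QuaternionGroup.a 2 := by decide
      apply hc
      have e : q (QuaternionGroup.a 2) = c ^ 2 := rfl
      rcases hz x hx1 with h2 | h2
      · rw [← e, ← h2, hx']
      · rw [← e, ← h2, map_mul, hx', one_mul]
    subst hx1
    exact Subgroup.mem_bot.mpr rfl
  · exact ⟨SemidirectProduct.inl (QuaternionGroup.a 1), by
      rw [SemidirectProduct.lift_inl]; exact hq1⟩
  · exact ⟨SemidirectProduct.inr (Multiplicative.ofAdd 1), by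
      rw [SemidirectProduct.lift_inr]
      show g ^ (1 : ZMod 3).val = g
      rw [show (1 : ZMod 3).val = 1 from rfl, pow_one]⟩

/-- A matrix of order 4. -/
def slC : Matrix.SpecialLinearGroup (Fin 2) (ZMod 3) := ⟨!![0, 2; 1, 0], by decide⟩

/-- A matrix of order 3. -/
def slG : Matrix.SpecialLinearGroup (Fin 2) (ZMod 3) := ⟨!![1, 1; 0, 1], by decide⟩

theorem slRel : SL23Rel slC slG := ⟨by decide, by decide, by decide, by decide, by decide⟩

theorem slG_notMem (x : QuaternionGroup 2) :
    quaternionHom slC (slG * slC * slG⁻¹) slRel.c4 slRel.ysq slRel.inv x ≠ slG := by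
  revert x
  decide

/-- The model is `SL(2,3)`. -/
theorem nonempty_model_equiv_SL : Nonempty (Model ≃* Matrix.SpecialLinearGroup (Fin 2) (ZMod 3)) := by
  have hg : slG ∉ Subgroup.closure ({slC, slG * slC * slG⁻¹} : Set _) := by
    intro hm
    have hle : Subgroup.closure ({slC, slG * slC * slG⁻¹} : Set _) ≤
        (quaternionHom slC (slG * slC * slG⁻¹) slRel.c4 slRel.ysq slRel.inv).range := by
      rw [Subgroup.closure_le]
      rintro w (rfl | rfl)
      · exact ⟨QuaternionGroup.a 1, by decide⟩
      · exact ⟨QuaternionGroup.xa 0, by decide⟩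
    obtain ⟨x, hx⟩ := hle hm
    exact slG_notMem x hx
  obtain ⟨f, hf, -, -⟩ := exists_model_hom slRel (by decide) hg
  refine ⟨MulEquiv.ofBijective f (hf.bijective_of_nat_card_le ?_)⟩
  rw [SemidirectProduct.card, Nat.card_eq_fintype_card, Nat.card_eq_fintype_card,
    Nat.card_eq_fintype_card]
  decide

end Cfsg.Agent.H25
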