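import Cfsg.Agent.Fusion.Frobenius
import Cfsg.Agent.Coprime.Abelian
import Cfsg.Agent.H25.SL23
import Mathlib.GroupTheory.SpecificGroups.Cyclic

/-!
# Groups with generalised quaternion Sylow 2-subgroups
-/

set_option autoImplicit false

namespace Cfsg.Agent.H25

open Subgroup

universe u

variable {G : Type u} [Group G]

theorem conj_fixed_of_iterate {g w d : G} (hd : g * w * g⁻¹ = w * d) (hfix : g * d * g⁻¹ = d)
    (n : ℕ) : g ^ n * w * (g ^ n)⁻¹ = w * d ^ n := by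
  induction n with
  | zero => simp
  | succ n ih =>
    calc g ^ (n + 1) * w * (g ^ (n + 1))⁻¹ = g * (g ^ n * w * (g ^ n)⁻¹) * g⁻¹ := by
          rw [pow_succ']; group
      _ = (g * w * g⁻¹) * (g * d ^ n * g⁻¹) := by rw [ih]; group
      _ = w * d * d ^ n := by rw [hd, ← conj_pow, hfix]
      _ = w * d ^ (n + 1) := by rw [pow_succ', mul_assoc]

/-- An element of odd order fixed by `g ^ 2` under conjugation is fixed by `g`. -/
theorem conj_eq_of_sq [Finite G] {g x : G} (hodd : Odd (orderOf g))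
    (h : g * (g * x * g⁻¹) * g⁻¹ = x) : g * x * g⁻¹ = x := by
  obtain ⟨k, hk⟩ := hodd
  have hev : ∀ j : ℕ, (g ^ 2) ^ j * x * ((g ^ 2) ^ j)⁻¹ = x := by
    intro j
    induction j with
    | zero => simp
    | succ j ih =>
      calc (g ^ 2) ^ (j + 1) * x * ((g ^ 2) ^ (j + 1))⁻¹
          = g * (g * ((g ^ 2) ^ j * x * ((g ^ 2) ^ j)⁻¹) * g⁻¹) * g⁻¹ := by
            rw [pow_succ']
            generalize (g ^ 2) ^ j = b
            rw [sq]; group
        _ = x := by rw [ih, h]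
  have h1 : (g ^ 2) ^ (k + 1) = g := by
    rw [← pow_mul, show 2 * (k + 1) = orderOf g + 1 by omega, pow_succ, pow_orderOf_eq_one, one_mul]
  have := hev (k + 1)
  rwa [h1] at this

/-- An element of odd order normalising a cyclic 2-subgroup centralises it. -/
theorem conj_eq_of_zpowers [Finite G] {g c : G} (hodd : Odd (orderOf g)) (k : ℕ)
    (hc : orderOf c = 2 ^ k) (hmem : g * c * g⁻¹ ∈ zpowers c) : g * c * g⁻¹ = c := by
  have hn : g ∈ normalizer (zpowers c : Set G) := by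
    rw [mem_normalizer_iff_map_conj_eq, MonoidHom.map_zpowers]
    refine eq_of_le_of_card_ge (zpowers_le.mpr hmem) ?_
    rw [Nat.card_zpowers, Nat.card_zpowers]
    exact (MulEquiv.orderOf_eq (MulAut.conj g) c).ge
  let φ := Coprime.conjOn (zpowers_le.mpr hn : zpowers g ≤ normalizer (zpowers c : Set G))
  let a := φ ⟨g, mem_zpowers g⟩
  have hC : IsCyclic (zpowers c) := isCyclic_zpowers c
  have h2 : orderOf a ∣ orderOf g := by
    refine (orderOf_map_dvd φ _).trans ?_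
    rw [orderOf_mk]
  have h3 : orderOf a ∣ Nat.card (MulAut (zpowers c)) := orderOf_dvd_natCard a
  rw [IsCyclic.card_mulAut, Nat.card_zpowers, hc] at h3
  have h5 : orderOf a ∣ 2 ^ k := by
    rcases k with _ | j
    · simpa using h3
    · refine h3.trans ?_
      rw [Nat.totient_prime_pow_succ Nat.prime_two]
      simp [pow_succ]
  have h6 : orderOf a = 1 := Nat.eq_one_of_dvd_coprimes
    ((Nat.coprime_two_right.mpr hodd).pow_right k) h2 h5
  have h7 := orderOf_eq_one_iff.mp h6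
  have h8 := congrArg Subtype.val (DFunLike.congr_fun h7 ⟨c, mem_zpowers c⟩)
  exact h8

theorem sec_iso {K H : Subgroup G} {M : Type} [Group M] [hK : (K.subgroupOf H).Normal]
    (f : M →* H ⧸ K.subgroupOf H) (hf : Function.Injective f) (htop : f.range = ⊤)
    (e : M ≃* Matrix.SpecialLinearGroup (Fin 2) (ZMod 3)) :
    Nonempty ((H ⧸ K.subgroupOf H) ≃* Matrix.SpecialLinearGroup (Fin 2) (ZMod 3)) :=
  ⟨(MulEquiv.ofBijective f ⟨hf, MonoidHom.range_eq_top.mp htop⟩).symm.trans e⟩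

/-- A quaternion configuration with an element of odd order gives a section `SL(2,3)`. -/
theorem exists_section [Finite G] {c g : G} (hodd : Odd (orderOf g)) (h4 : orderOf c = 4)
    (hsq : (g * c * g⁻¹) ^ 2 = c ^ 2)
    (hinv : g * c * g⁻¹ * c * (g * c * g⁻¹)⁻¹ = c⁻¹)
    (hshift : g * (g * c * g⁻¹) * g⁻¹ = c * (g * c * g⁻¹))
    (hy : g * c * g⁻¹ ∉ zpowers c) :
    ∃ (H K : Subgroup G) (_hK : (K.subgroupOf H).Normal),
      Nonempty ((H ⧸ K.subgroupOf H) ≃* Matrix.SpecialLinearGroup (Fin 2) (ZMod 3)) := by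
  set y := g * c * g⁻¹ with hydef
  have hc4 : c ^ 4 = 1 := by rw [← h4]; exact pow_orderOf_eq_one c
  have h3c : g ^ 3 * c = c * g ^ 3 := by
    refine mul_inv_eq_iff_eq_mul.mp ?_
    calc g ^ 3 * c * (g ^ 3)⁻¹ = g * (g * y * g⁻¹) * g⁻¹ := by
          simp [hydef, pow_succ, mul_assoc, mul_inv_rev]
      _ = g * (c * y) * g⁻¹ := by rw [hshift]
      _ = (g * c * g⁻¹) * (g * y * g⁻¹) := by group
      _ = y * (c * y) := by rw [hshift]
      _ = (y * c * y⁻¹) * y ^ 2 := by simp [sq, mul_assoc]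
      _ = c := by rw [hinv, hsq, sq, inv_mul_cancel_left]
  let H : Subgroup G := Subgroup.closure {c, g}
  let K : Subgroup G := zpowers (g ^ 3)
  have hcH : c ∈ H := subset_closure (Set.mem_insert _ _)
  have hgH : g ∈ H := subset_closure (Set.mem_insert_of_mem _ rfl)
  have hHN : H ≤ centralizer ({g ^ 3} : Set G) := by
    rw [closure_le]
    rintro w (rfl | rfl)
    · exact mem_centralizer_singleton_iff.mpr h3c.symm
    · exact mem_centralizer_singleton_iff.mpr ((Commute.refl w).pow_right 3).eq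
  have hKH : K ≤ H := zpowers_le.mpr (pow_mem hgH 3)
  have hKn : (K.subgroupOf H).Normal := ⟨fun k hk x => by
    rw [mem_subgroupOf] at hk ⊢
    obtain ⟨j, hj⟩ := mem_zpowers_iff.mp hk
    have hx : (x : G) * (g ^ 3) ^ j = (g ^ 3) ^ j * x :=
      ((show Commute (x : G) (g ^ 3) from mem_centralizer_singleton_iff.mp (hHN x.2)).zpow_right j).eq
    rw [Subgroup.coe_mul, Subgroup.coe_mul, Subgroup.coe_inv, ← hj, hx, mul_inv_cancel_right]
    exact ⟨j, rfl⟩⟩
  refine ⟨H, K, hKn, ?_⟩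
  let π := QuotientGroup.mk' (K.subgroupOf H)
  let cb := π ⟨c, hcH⟩
  let gb := π ⟨g, hgH⟩
  have hπ : ∀ (x : G) (hx : x ∈ H), π ⟨x, hx⟩ = 1 ↔ x ∈ K := fun x hx => by
    rw [QuotientGroup.mk'_apply, QuotientGroup.eq_one_iff, mem_subgroupOf]
  have hy' : gb * cb * gb⁻¹ = π ⟨y, mul_mem (mul_mem hgH hcH) (inv_mem hgH)⟩ := rfl
  have hrel : SL23Rel cb gb := by
    refine ⟨?_, ?_, ?_, ?_, ?_⟩
    · rw [← map_pow]; exact (hπ _ (pow_mem hgH 3)).mpr (mem_zpowers _)
    · rw [← map_pow, ← map_one π]; exact congrArg π (Subtype.ext hc4)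
    · rw [hy', ← map_pow, ← map_pow]; exact congrArg π (Subtype.ext hsq)
    · rw [hy', ← map_inv, ← map_inv, ← map_mul, ← map_mul]; exact congrArg π (Subtype.ext hinv)
    · rw [hy', ← map_mul, ← map_inv, ← map_mul, ← map_mul]
      exact congrArg π (Subtype.ext hshift)
  have hKodd : ∀ x ∈ K, Odd (orderOf x) := fun x hx => by
    have h1 := K.orderOf_dvd_natCard hx
    rw [Nat.card_zpowers] at h1
    exact Odd.of_dvd_nat hodd (h1.trans (orderOf_pow_dvd 3))
  have hc2 : cb ^ 2 ≠ 1 := by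
    intro h
    rw [← map_pow] at h
    have h2 : c ^ 2 ∈ K := (hπ _ (pow_mem hcH 2)).mp h
    have h3 : orderOf (c ^ 2) = 2 := by
      rw [orderOf_pow' c two_ne_zero, h4]
      rfl
    have := hKodd _ h2
    rw [h3] at this
    exact absurd this (by decide)
  let q := quaternionHom c y hc4 hsq hinv
  have hgb : gb ∉ Subgroup.closure ({cb, gb * cb * gb⁻¹} : Set _) := by
    intro hm
    have hle : Subgroup.closure ({cb, gb * cb * gb⁻¹} : Set _) ≤
        (q.range.subgroupOf H).map π := by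
      rw [closure_le]
      rintro w (rfl | rfl)
      · exact ⟨⟨c, hcH⟩, ⟨QuaternionGroup.a 1, by
          show c ^ (1 : ZMod (2 * 2)).val = c
          rw [show (1 : ZMod (2 * 2)).val = 1 from rfl, pow_one]⟩, rfl⟩
      · exact ⟨⟨y, mul_mem (mul_mem hgH hcH) (inv_mem hgH)⟩, ⟨QuaternionGroup.xa 0, by
          show y * c ^ (0 : ZMod (2 * 2)).val = y
          rw [ZMod.val_zero, pow_zero, mul_one]⟩, rfl⟩
    obtain ⟨⟨v, hvH⟩, ⟨x, hx⟩, hv⟩ := hle hm
    have hk : v⁻¹ * g ∈ K := by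
      refine (hπ _ (mul_mem (inv_mem hvH) hgH)).mp ?_
      have : (⟨v⁻¹ * g, mul_mem (inv_mem hvH) hgH⟩ : H) = (⟨v, hvH⟩ : H)⁻¹ * ⟨g, hgH⟩ := rfl
      rw [this, map_mul, map_inv, hv]
      exact inv_mul_cancel gb
    obtain ⟨j, hj⟩ := mem_zpowers_iff.mp hk
    have hvg : v ∈ zpowers g := by
      have e : v = g * ((g ^ 3) ^ j)⁻¹ := by rw [hj]; group
      rw [e]
      exact mul_mem (mem_zpowers g) (inv_mem (zpow_mem (pow_mem (mem_zpowers g) 3) j))
    have hv1 : v = 1 := by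
      have h1 : orderOf v ∣ orderOf g := by
        have := (zpowers g).orderOf_dvd_natCard hvg
        rwa [Nat.card_zpowers] at this
      have h2 : orderOf v ∣ 2 ^ 3 := by
        have h9 : q x = v := hx
        rw [← h9]
        refine (orderOf_map_dvd q x).trans ((_root_.orderOf_dvd_natCard x).trans ?_)
        rw [Nat.card_eq_fintype_card, QuaternionGroup.card]
        norm_num
      exact orderOf_eq_one_iff.mp (Nat.eq_one_of_dvd_coprimes
        ((Nat.coprime_two_right.mpr hodd).pow_right 3) h1 h2)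
    rw [hv1, inv_one, one_mul] at hk
    refine hy ?_
    have h5 : g * c = c * g := by
      obtain ⟨i, hi⟩ := mem_zpowers_iff.mp hk
      have h6 := ((show Commute (g ^ 3) c from h3c).zpow_left i).eq
      rwa [hi] at h6
    rw [hydef, h5, mul_inv_cancel_right]
    exact mem_zpowers c
  obtain ⟨f, hf, hcf, hgf⟩ := exists_model_hom hrel hc2 hgb
  obtain ⟨e⟩ := nonempty_model_equiv_SL
  refine sec_iso f hf ?_ e
  rw [eq_top_iff]
  intro w hw
  clear hw
  obtain ⟨⟨x, hx⟩, rfl⟩ := QuotientGroup.mk'_surjective _ w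
  induction hx using closure_induction with
  | mem z hz =>
    rcases hz with rfl | rfl
    · exact hcf
    · exact hgf
  | one => exact one_mem f.range
  | mul a b ha hb iha ihb => exact mul_mem iha ihb
  | inv a ha iha => exact inv_mem iha

/-- A finite cyclic group has one subgroup of each order. -/
theorem eq_of_card_eq_of_isCyclic {A : Type*} [Group A] [Finite A] [IsCyclic A] (H K : Subgroup A)
    (h : Nat.card H = Nat.card K) : H = K := by
  classical
  have := Fintype.ofFinite A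
  have hmem : ∀ (L : Subgroup A), Nat.card L = Nat.card H →
      (Finset.univ.filter fun x : A => x ∈ L) =
        (Finset.univ.filter fun x : A => x ^ Nat.card H = 1) := by
    intro L hL
    refine Finset.eq_of_subset_of_card_le (fun x hx => ?_) ?_
    · simp only [Finset.mem_filter, Finset.mem_univ, true_and] at hx ⊢
      rw [← hL]
      exact orderOf_dvd_iff_pow_eq_one.mp (L.orderOf_dvd_natCard hx)
    · refine (IsCyclic.card_pow_eq_one_le Nat.card_pos).trans (le_of_eq ?_)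
      rw [← hL, Nat.card_eq_fintype_card, Fintype.card_subtype]
  have h1 := (hmem H rfl).trans (hmem K h.symm).symm
  ext x
  simpa using Finset.ext_iff.mp h1 x

/-- The structure of generalised quaternion groups used below. -/
theorem quaternion_facts {T : Type*} [Group T] {n : ℕ} (e : T ≃* QuaternionGroup (2 ^ n)) :
    ∃ (A : Subgroup T) (z : T), IsCyclic A ∧ z ≠ 1 ∧ z ∈ A ∧ z * z = 1 ∧
      (∀ x ∉ A, x * x = z) ∧ (∀ x ∉ A, ∀ a ∈ A, x * a * x⁻¹ = a⁻¹) ∧
      (∀ x y, x ∉ A → y ∉ A → x * y ∈ A) ∧ ∀ x : T, ∃ k, orderOf x = 2 ^ k := by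
  have : NeZero (2 ^ n) := ⟨by positivity⟩
  have : NeZero (2 * 2 ^ n) := ⟨by positivity⟩
  let ι : QuaternionGroup (2 ^ n) →* T := e.symm.toMonoidHom
  let A := (zpowers (QuaternionGroup.a 1 : QuaternionGroup (2 ^ n))).map ι
  have hA : ∀ x, x ∈ A ↔ ∃ i, e x = QuaternionGroup.a i := by
    intro x
    constructor
    · rintro ⟨w, hw, rfl⟩
      obtain ⟨j, hj⟩ := mem_zpowers_iff.mp hw
      refine ⟨(j : ZMod (2 * 2 ^ n)), ?_⟩
      show e (e.symm w) = _
      rw [e.apply_symm_apply, ← hj]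
      obtain ⟨m, rfl | rfl⟩ := j.eq_nat_or_neg
      · rw [zpow_natCast, QuaternionGroup.a_one_pow]; simp
      · rw [zpow_neg, zpow_natCast, QuaternionGroup.a_one_pow]
        push_cast
        rfl
    · rintro ⟨i, hi⟩
      refine ⟨QuaternionGroup.a i, ?_, ?_⟩
      · rw [← ZMod.natCast_zmod_val i, ← QuaternionGroup.a_one_pow]
        exact pow_mem (mem_zpowers _) _
      · show e.symm _ = x
        rw [← hi, e.symm_apply_apply]
  have hnA : ∀ x ∉ A, ∃ i, e x = QuaternionGroup.xa i := by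
    intro x hx
    rcases h : e x with i | i
    · exact absurd ((hA x).mpr ⟨i, h⟩) hx
    · exact ⟨i, rfl⟩
  refine ⟨A, e.symm (QuaternionGroup.a (2 ^ n : ℕ)), ?_, ?_, ?_, ?_, ?_, ?_, ?_, ?_⟩
  · exact isCyclic_of_surjective (ι.subgroupMap _) (ι.subgroupMap_surjective _)
  · intro h
    have h1 : (QuaternionGroup.a ((2 ^ n : ℕ) : ZMod (2 * 2 ^ n))) = 1 := by
      rw [← e.apply_symm_apply (QuaternionGroup.a ((2 ^ n : ℕ) : ZMod (2 * 2 ^ n))), h, map_one]
    rw [← QuaternionGroup.a_one_pow] at h1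
    have h2 := orderOf_dvd_of_pow_eq_one h1
    rw [QuaternionGroup.orderOf_a_one] at h2
    have := Nat.le_of_dvd (by positivity) h2
    have : 0 < 2 ^ n := by positivity
    omega
  · exact (hA _).mpr ⟨_, e.apply_symm_apply _⟩
  · rw [← map_mul, QuaternionGroup.a_mul_a, ← Nat.cast_add, ← two_mul, ZMod.natCast_self,
      QuaternionGroup.a_zero, map_one]
  · intro x hx
    obtain ⟨i, hi⟩ := hnA x hx
    apply e.injective
    rw [map_mul, hi, e.apply_symm_apply, ← sq, QuaternionGroup.xa_sq]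
  · intro x hx a ha
    obtain ⟨i, hi⟩ := hnA x hx
    obtain ⟨j, hj⟩ := (hA a).mp ha
    apply e.injective
    rw [map_mul, map_mul, map_inv, map_inv, hi, hj, mul_inv_eq_iff_eq_mul,
      QuaternionGroup.xa_mul_a]
    show _ = QuaternionGroup.a (-j) * QuaternionGroup.xa i
    rw [QuaternionGroup.a_mul_xa, sub_neg_eq_add]
  · intro x y hx hy
    obtain ⟨i, hi⟩ := hnA x hx
    obtain ⟨j, hj⟩ := hnA y hy
    refine (hA _).mpr ⟨_, by rw [map_mul, hi, hj, QuaternionGroup.xa_mul_xa]⟩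
  · intro x
    have h1 := _root_.orderOf_dvd_natCard (e x)
    rw [Nat.card_eq_fintype_card, QuaternionGroup.card, MulEquiv.orderOf_eq,
      show 4 * 2 ^ n = 2 ^ (n + 2) by ring] at h1
    obtain ⟨k, -, hk⟩ := (Nat.dvd_prime_pow Nat.prime_two).mp h1
    exact ⟨k, hk⟩

/-- If the Sylow 2-subgroups are generalised quaternion, there is a normal 2-complement or a
section isomorphic to `SL(2,3)`. -/
theorem quaternion_sylow [Finite G] (T : Sylow 2 G) (n : ℕ) (_hn : 1 ≤ n)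
    (hT : Nonempty ((T : Subgroup G) ≃* QuaternionGroup (2 ^ n))) :
    Cfsg.HasNormalPComplement 2 G ∨ ∃ (H K : Subgroup G) (_hK : (K.subgroupOf H).Normal),
      Nonempty ((H ⧸ K.subgroupOf H) ≃* Matrix.SpecialLinearGroup (Fin 2) (ZMod 3)) := by
  obtain ⟨e⟩ := hT
  obtain ⟨A₀, z₀, hA₀c, hz1, hzA, hzz, hsq, hinv, hmul, hord⟩ := quaternion_facts e
  refine or_iff_not_imp_left.mpr fun hno => ?_
  rw [Fusion.frobenius_criterion T] at hno
  push Not at hno
  obtain ⟨U, hUT, g, hgN, hg2, hgC⟩ := hno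
  have hodd : Odd (orderOf g) := Nat.coprime_two_right.mp hg2
  rw [mem_centralizer_iff] at hgC
  push Not at hgC
  obtain ⟨u₀, hu₀, hu₀g⟩ := hgC
  let A : Subgroup G := A₀.map (T : Subgroup G).subtype
  let z : G := z₀
  have hA : ∀ (x : G) (hx : x ∈ (T : Subgroup G)), x ∈ A ↔ (⟨x, hx⟩ : (T : Subgroup G)) ∈ A₀ :=
    fun x hx => ⟨fun ⟨w, hw, e⟩ => by
      have : w = ⟨x, hx⟩ := Subtype.ext e
      rwa [← this], fun h => ⟨_, h, rfl⟩⟩
  have hU : ∀ x ∈ U, x ∈ (T : Subgroup G) := fun x hx => hUT hx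
  have hcU : ∀ x ∈ U, g * x * g⁻¹ ∈ U := fun x hx => (mem_normalizer_iff.mp hgN x).mp hx
  have hsq' : ∀ x ∈ U, x ∉ A → x * x = z := fun x hx hxA =>
    congrArg Subtype.val (hsq ⟨x, hU x hx⟩ (fun h => hxA ((hA x _).mpr h)))
  have hinv' : ∀ x ∈ U, x ∉ A → ∀ a ∈ U, a ∈ A → x * a * x⁻¹ = a⁻¹ := fun x hx hxA a ha haA =>
    congrArg Subtype.val (hinv ⟨x, hU x hx⟩ (fun h => hxA ((hA x _).mpr h)) ⟨a, hU a ha⟩
      ((hA a _).mp haA))
  have hmul' : ∀ x ∈ U, ∀ y ∈ U, x ∉ A → y ∉ A → x * y ∈ A := fun x hx y hy hxA hyA =>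
    (hA _ (mul_mem (hU x hx) (hU y hy))).mpr (hmul ⟨x, hU x hx⟩ ⟨y, hU y hy⟩
      (fun h => hxA ((hA x _).mpr h)) (fun h => hyA ((hA y _).mpr h)))
  have hord' : ∀ x ∈ U, ∃ k, orderOf x = 2 ^ k := fun x hx => by
    obtain ⟨k, hk⟩ := hord ⟨x, hU x hx⟩
    exact ⟨k, by rw [← hk, Subgroup.orderOf_mk]⟩
  have hAc : IsCyclic A :=
    isCyclic_of_surjective ((T : Subgroup G).subtype.subgroupMap A₀)
      ((T : Subgroup G).subtype.subgroupMap_surjective _)
  have hsub : ∀ x y : G, x ∈ A → y ∈ A → orderOf x = orderOf y → y ∈ zpowers x := by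
    intro x y hx hy he
    classical
    have := Fintype.ofFinite A
    have h1 : zpowers (⟨x, hx⟩ : A) = zpowers ⟨y, hy⟩ :=
      eq_of_card_eq_of_isCyclic _ _ (by rw [Nat.card_zpowers, Nat.card_zpowers, orderOf_mk, orderOf_mk, he])
    obtain ⟨j, hj⟩ := mem_zpowers_iff.mp (h1.ge (mem_zpowers (⟨y, hy⟩ : A)))
    exact ⟨j, congrArg Subtype.val hj⟩
  -- some element of `U ∩ A` is moved
  obtain ⟨c, hcUm, hcA, hcg⟩ : ∃ c ∈ U, c ∈ A ∧ g * c * g⁻¹ ≠ c := by
    by_contra hall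
    push Not at hall
    apply hu₀g
    suffices h : g * u₀ * g⁻¹ = u₀ from (mul_inv_eq_iff_eq_mul.mp h).symm
    by_cases hu : u₀ ∈ A
    · exact hall u₀ hu₀ hu
    set y := g * u₀ * g⁻¹ with hy
    have hyU : y ∈ U := hcU _ hu₀
    have hyA : y ∉ A := fun h => hu <| by
      have h1 : g * y * g⁻¹ = g * u₀ * g⁻¹ := by rw [hall y hyU h]
      have := mul_left_cancel (mul_right_cancel h1)
      rwa [← this]
    have hui : u₀⁻¹ ∉ A := fun h => hu (inv_inv u₀ ▸ inv_mem h)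
    set d := u₀⁻¹ * y with hd
    have hdU : d ∈ U := mul_mem (inv_mem hu₀) hyU
    have hdA : d ∈ A := hmul' _ (inv_mem hu₀) _ hyU hui hyA
    have h1 := conj_fixed_of_iterate (g := g) (w := u₀) (d := d) (by rw [hd, ← hy]; group)
      (hall d hdU hdA) (orderOf g)
    rw [pow_orderOf_eq_one, one_mul, inv_one, mul_one, eq_comm, mul_eq_left] at h1
    obtain ⟨k, hk⟩ := hord' d hdU
    have h2 : d = 1 := orderOf_eq_one_iff.mp (Nat.eq_one_of_dvd_coprimes (hg2.pow_right k)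
      (orderOf_dvd_of_pow_eq_one h1) hk.dvd)
    rw [hd, inv_mul_eq_one] at h2
    exact h2.symm
  -- all elements of `U ∩ A` have order at most 4
  have hbig : ∀ a ∈ U, a ∈ A → a ^ 4 ≠ 1 → g * a * g⁻¹ = a := by
    intro a ha haA h4
    obtain ⟨k, hk⟩ := hord' a ha
    refine conj_eq_of_zpowers hodd k hk (hsub a _ haA ?_ (MulEquiv.orderOf_eq (MulAut.conj g) a).symm)
    by_contra hno
    apply h4
    have h5 := hsq' _ (hcU a ha) hno
    have h6 : (g * a * g⁻¹) ^ 4 = 1 := by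
      have h44 : ∀ b : G, b ^ 4 = (b * b) * (b * b) := fun b => by simp [pow_succ, mul_assoc]
      rw [h44, h5]
      exact congrArg Subtype.val hzz
    rw [conj_pow] at h6
    exact mul_left_cancel (a := g) (mul_right_cancel (b := g⁻¹) (h6.trans (by group)))
  have hsmall : ∀ a ∈ U, a ∈ A → a ^ 4 = 1 := by
    intro a ha haA
    by_contra h4
    apply hcg
    have hcomm : c * a = a * c :=
      congrArg Subtype.val (mul_comm' (⟨c, hcA⟩ : A) ⟨a, haA⟩)
    by_cases h : c ^ 4 = 1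
    · have h1 : (c * a) ^ 4 ≠ 1 := by
        rw [Commute.mul_pow hcomm, h, one_mul]; exact h4
      have h2 := hbig _ (mul_mem hcUm ha) (mul_mem hcA haA) h1
      rw [← conj_mul, hbig a ha haA h4] at h2
      exact mul_right_cancel h2
    · exact hbig c hcUm hcA h
  have hc4 : orderOf c = 4 := by
    obtain ⟨k, hk⟩ := hord' c hcUm
    have h1 : 2 ^ k ∣ 2 ^ 2 := hk ▸ orderOf_dvd_of_pow_eq_one (hsmall c hcUm hcA)
    have h2 := (Nat.pow_dvd_pow_iff_le_right one_lt_two).mp h1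
    rcases h2.lt_or_eq with h3 | rfl
    swap; · exact hk
    exfalso
    apply hcg
    refine conj_eq_of_zpowers hodd k hk ?_
    by_contra hno
    by_cases hgcA : g * c * g⁻¹ ∈ A
    · exact hno (hsub c _ hcA hgcA (MulEquiv.orderOf_eq (MulAut.conj g) c).symm)
    · have h5 := hsq' _ (hcU c hcUm) hgcA
      have h6 : c ^ 2 = 1 := orderOf_dvd_iff_pow_eq_one.mp (hk ▸ (by
        interval_cases k <;> norm_num))
      rw [conj_mul, ← sq, h6, mul_one, mul_inv_cancel] at h5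
      exact hz1 (Subtype.ext h5.symm)
  have hUA : ∀ a ∈ U, a ∈ A → a ∈ zpowers c := by
    intro a ha haA
    classical
    have := Fintype.ofFinite A
    have h1 : zpowers (⟨a, haA⟩ : A) ≤ zpowers ⟨c, hcA⟩ := by
      obtain ⟨k, hk⟩ := hord' a ha
      have h2 : 2 ^ k ∣ orderOf c := hc4 ▸ hk ▸ orderOf_dvd_of_pow_eq_one (hsmall a ha haA)
      have h2' : 2 ^ k ∣ orderOf (⟨c, hcA⟩ : A) := by rw [orderOf_mk]; exact h2
      have h3 : zpowers (⟨a, haA⟩ : A) =
          zpowers ((⟨c, hcA⟩ : A) ^ (orderOf (⟨c, hcA⟩ : A) / 2 ^ k)) := by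
        refine eq_of_card_eq_of_isCyclic _ _ ?_
        rw [Nat.card_zpowers, Nat.card_zpowers,
          orderOf_pow_orderOf_div (orderOf_pos _).ne' h2', orderOf_mk, hk]
      rw [h3]
      exact zpowers_le.mpr (pow_mem (mem_zpowers _) _)
    obtain ⟨j, hj⟩ := mem_zpowers_iff.mp (h1 (mem_zpowers _))
    exact ⟨j, congrArg Subtype.val hj⟩
  set y := g * c * g⁻¹ with hydef
  have hyU : y ∈ U := hcU c hcUm
  have hy : y ∉ zpowers c := fun h => hcg (conj_eq_of_zpowers hodd 2 hc4 h)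
  have hyA : y ∉ A := fun h => hy (hUA y hyU h)
  have hinvol : ∀ a ∈ A, orderOf a = 2 → a = z := by
    intro a ha h2
    have hzo : orderOf z = 2 := by
      refine orderOf_eq_prime ?_ fun h => hz1 (Subtype.ext h)
      rw [sq]; exact congrArg Subtype.val hzz
    have h1 := hsub a z ha ((hA z _).mpr hzA) (h2.trans hzo.symm)
    obtain ⟨j, hj⟩ := mem_zpowers_iff.mp h1
    rcases Int.even_or_odd' j with ⟨i, rfl | rfl⟩
    · exfalso
      rw [zpow_mul, show a ^ (2 : ℤ) = 1 from (zpow_natCast a 2).trans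
        (orderOf_dvd_iff_pow_eq_one.mp h2.dvd), one_zpow] at hj
      exact hz1 (Subtype.ext hj.symm)
    · rw [zpow_add, zpow_mul, show a ^ (2 : ℤ) = 1 from (zpow_natCast a 2).trans
        (orderOf_dvd_iff_pow_eq_one.mp h2.dvd), one_zpow, one_mul, zpow_one] at hj
      exact hj
  have hcz : c ^ 2 = z := hinvol _ (pow_mem hcA 2) (by
    rw [orderOf_pow' c two_ne_zero, hc4]; rfl)
  have hy2 : y ^ 2 = c ^ 2 := by rw [sq, hsq' y hyU hyA, hcz]
  have hyc : y * c * y⁻¹ = c⁻¹ := hinv' y hyU hyA c hcUm hcA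
  have hc4' : c ^ 4 = 1 := by rw [← hc4]; exact pow_orderOf_eq_one c
  set w := g * y * g⁻¹ with hwdef
  have hwU : w ∈ U := hcU y hyU
  have hwc : w ∉ zpowers c := by
    intro h
    have h2 : g * w * g⁻¹ ∈ zpowers y := by
      obtain ⟨j, hj⟩ := mem_zpowers_iff.mp h
      rw [← hj, ← conj_zpow]
      exact ⟨j, rfl⟩
    obtain ⟨j, hj⟩ := mem_zpowers_iff.mp h
    have e1 : g ^ 2 * c * (g ^ 2)⁻¹ = c ^ j := by
      rw [hj, hwdef, hydef]; simp [sq, mul_assoc, mul_inv_rev]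
    have hsq2 : Odd (orderOf (g ^ 2)) := Odd.of_dvd_nat hodd (orderOf_pow_dvd 2)
    have h3 := conj_eq_of_zpowers hsq2 2 hc4 (e1 ▸ ⟨j, rfl⟩)
    refine hcg (conj_eq_of_sq hodd ?_)
    calc g * (g * c * g⁻¹) * g⁻¹ = g ^ 2 * c * (g ^ 2)⁻¹ := by
          simp [sq, mul_assoc, mul_inv_rev]
      _ = c := h3
  have hwA : w ∉ A := fun h => hwc (hUA w hwU h)
  have hyi : y⁻¹ ∉ A := fun h => hyA (inv_inv y ▸ inv_mem h)
  obtain ⟨i, hi⟩ := mem_zpowers_iff.mp
    (hUA _ (mul_mem (inv_mem hyU) hwU) (hmul' _ (inv_mem hyU) _ hwU hyi hwA))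
  have hwi : w = y * c ^ i := by rw [hi]; group
  have hyne : w ∉ zpowers y := fun h => by
    refine hcg ?_
    have h1 : g * y * g⁻¹ = y :=
      conj_eq_of_zpowers hodd 2 ((MulEquiv.orderOf_eq (MulAut.conj g) c).trans hc4) h
    have h2 : g * (g * c * g⁻¹) * g⁻¹ = g * c * g⁻¹ := h1
    exact mul_left_cancel (mul_right_cancel h2)
  have hc44 : c ^ (4 : ℤ) = 1 := (zpow_natCast c 4).trans hc4'
  obtain ⟨t, ht⟩ : ∃ t : ℤ, i = 4 * t ∨ i = 4 * t + 1 ∨ i = 4 * t + 2 ∨ i = 4 * t + 3 :=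
    ⟨i / 4, by omega⟩
  rcases ht with rfl | rfl | rfl | rfl
  · exfalso; refine hyne ?_
    rw [hwi, zpow_mul, hc44, one_zpow, mul_one]
    exact mem_zpowers y
  · -- `w = y c`: use `g⁻¹`
    have hw1 : w = y * c := by rw [hwi, zpow_add, zpow_mul, hc44, one_zpow, one_mul, zpow_one]
    have hgw : g * w * g⁻¹ = c := by
      calc g * w * g⁻¹ = (g * y * g⁻¹) * (g * c * g⁻¹) := by rw [hw1]; group
        _ = (y * c * y⁻¹) * y ^ 2 := by rw [← hwdef, hw1, ← hydef]; group
        _ = c := by rw [hyc, hy2, sq, inv_mul_cancel_left]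
    have hgi : g⁻¹ * c * g⁻¹⁻¹ = w := by rw [← hgw]; group
    refine exists_section (g := g⁻¹) (c := c) (by rwa [orderOf_inv]) hc4 ?_ ?_ ?_ ?_
    · rw [hgi, sq, hsq' w hwU hwA, hcz]
    · rw [hgi]; exact hinv' w hwU hwA c hcUm hcA
    · rw [hgi, hwdef]
      calc g⁻¹ * (g * y * g⁻¹) * g⁻¹⁻¹ = c * (c⁻¹ * y) := by group
        _ = c * (y * c) := by rw [← hyc]; group
        _ = c * w := by rw [← hw1]
    · rw [hgi]; exact hwc
  · exfalso; refine hyne ?_
    rw [hwi, zpow_add, zpow_mul, hc44, one_zpow, one_mul,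
      show c ^ (2 : ℤ) = y ^ 2 from (zpow_natCast c 2).trans hy2.symm]
    exact mul_mem (mem_zpowers y) (pow_mem (mem_zpowers y) 2)
  · -- `w = c y`
    have hw3 : w = c * y := by
      have h3 : c ^ (3 : ℤ) = c⁻¹ := by
        rw [eq_inv_iff_mul_eq_one, ← zpow_add_one]; exact hc44
      rw [hwi, zpow_add, zpow_mul, hc44, one_zpow, one_mul, h3]
      calc y * c⁻¹ = (y * c * y⁻¹)⁻¹ * y := by group
        _ = c * y := by rw [hyc, inv_inv]
    refine exists_section (g := g) (c := c) hodd hc4 ?_ hyc ?_ hy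
    · exact hy2
    · exact hw3

end Cfsg.Agent.H25
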