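import Cfsg.Agent.CharInduce.Induce
import Cfsg.Agent.CharBasic.Virtual
import Cfsg.Agent.CharBasic.Kernel
import Cfsg.Agent.H83.ClassConst
import Cfsg.Agent.H25.QuaternionSylow
import Cfsg.Agent.Fusion.PComplement
import Mathlib.GroupTheory.Transfer
import Mathlib.GroupTheory.SpecificGroups.Cyclic

/-!
# The Brauer–Suzuki theorem: quaternion Sylow subgroups of order at least sixteen

If an involution `z` is such that products of two of its conjugates have odd order, a generalised
character of norm three, vanishing on all elements of order not divisible by four, gives a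
non-principal irreducible character with `z` in its kernel.
-/

set_option autoImplicit false
set_option linter.unusedSectionVars false

namespace Cfsg.Agent.H25

open Finset Cfsg.Agent.CharBasic Cfsg.Agent.CharInduce
open scoped ComplexConjugate

universe u

variable {G : Type u} [Group G] [Fintype G]

/-- Products of two conjugates of `z` avoid `y`: a relation between character values. -/
theorem sum_sq_apply_eq_zero (z y : G) (h : ∀ a : G, IsConj z a → ¬ IsConj z (a⁻¹ * y)) :
    ∑ χ : Cfsg.IrrCharacter G,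
      conj ((χ : G → ℂ) z) * conj ((χ : G → ℂ) z) * (χ : G → ℂ) y / (χ : G → ℂ) 1 = 0 := by
  have hk := H83.card_pairs_mul_card z z y
  have : IsEmpty {a : G // IsConj z a ∧ IsConj z (a⁻¹ * y)} := ⟨fun a => h a.1 a.2.1 a.2.2⟩
  rw [Nat.card_of_isEmpty (α := {a : G // IsConj z a ∧ IsConj z (a⁻¹ * y)}), Nat.cast_zero,
    mul_zero] at hk
  have hi : ((Subgroup.centralizer ({z} : Set G)).index : ℂ) ≠ 0 :=
    Nat.cast_ne_zero.mpr Subgroup.index_ne_zero_of_finite
  exact (mul_eq_zero.mp hk.symm).resolve_left (mul_ne_zero hi hi)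

/-- A class function `θ` supported where products of two conjugates of `z` never lie. -/
theorem sum_coeff_sq_eq_zero (z : G) (θ : G → ℂ) (m : Cfsg.IrrCharacter G → ℤ)
    (hm : ∀ χ : Cfsg.IrrCharacter G, Cfsg.classInner θ (χ : G → ℂ) = m χ)
    (hsupp : ∀ y : G, θ y ≠ 0 → ∀ a : G, IsConj z a → ¬ IsConj z (a⁻¹ * y)) (hz : z * z = 1) :
    ∑ χ : Cfsg.IrrCharacter G, (m χ : ℂ) * ((χ : G → ℂ) z ^ 2 / (χ : G → ℂ) 1) = 0 := by
  have hinv : z⁻¹ = z := inv_eq_of_mul_eq_one_right hz
  have hreal : ∀ χ : Cfsg.IrrCharacter G, conj ((χ : G → ℂ) z) = (χ : G → ℂ) z := fun χ => by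
    rw [H83.irr_conj_apply χ.2, hinv]
  have hreal1 : ∀ χ : Cfsg.IrrCharacter G, conj ((χ : G → ℂ) 1) = (χ : G → ℂ) 1 := fun χ => by
    rw [H83.irr_conj_apply χ.2, inv_one]
  have key : ∀ y : G, θ y * conj (∑ χ : Cfsg.IrrCharacter G,
      (χ : G → ℂ) z ^ 2 / (χ : G → ℂ) 1 * (χ : G → ℂ) y) = 0 := by
    intro y
    by_cases hy : θ y = 0
    · rw [hy, zero_mul]
    have h := sum_sq_apply_eq_zero z y (hsupp y hy)
    simp only [hreal] at h
    rw [show (∑ χ : Cfsg.IrrCharacter G,
      (χ : G → ℂ) z ^ 2 / (χ : G → ℂ) 1 * (χ : G → ℂ) y) = 0 by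
        rw [← h]; exact sum_congr rfl fun χ _ => by ring, map_zero, mul_zero]
  have hterm : ∀ χ : Cfsg.IrrCharacter G, (m χ : ℂ) * ((χ : G → ℂ) z ^ 2 / (χ : G → ℂ) 1) =
      (Nat.card G : ℂ)⁻¹ * ∑ y : G,
        θ y * conj ((χ : G → ℂ) z ^ 2 / (χ : G → ℂ) 1 * (χ : G → ℂ) y) := by
    intro χ
    rw [← hm χ, classInner_def, mul_assoc, Finset.sum_mul]
    congr 1
    refine sum_congr rfl fun y _ => ?_
    rw [map_mul, map_div₀, map_pow, hreal, hreal1]
    ring
  simp only [hterm]
  rw [← Finset.mul_sum, Finset.sum_comm]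
  simp only [← Finset.mul_sum, ← map_sum, key, sum_const_zero, mul_zero]

/-- A generalised character `θ = 1 ± A ± B` vanishing at `1`, at `z` and avoiding the products of
two conjugates of `z` makes `z` act trivially in `A`. -/
theorem exists_kernel_of_norm_three (z : G) (hz : z * z = 1) (θ : G → ℂ)
    (hgen : Cfsg.IsGeneralizedCharacter G θ) (hone : Cfsg.classInner θ (fun _ => 1) = 1)
    (hnorm : Cfsg.classInner θ θ = 3) (h1 : θ 1 = 0) (hθz : θ z = 0)
    (hsupp : ∀ y : G, θ y ≠ 0 → ∀ a : G, IsConj z a → ¬ IsConj z (a⁻¹ * y)) :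
    ∃ A : Cfsg.IrrCharacter G, (A : G → ℂ) ≠ (fun _ => 1) ∧ (A : G → ℂ) z = (A : G → ℂ) 1 := by
  classical
  obtain ⟨m, hm, hθ⟩ := IsGen.exists_int_mult hgen
  let T : Cfsg.IrrCharacter G := ⟨fun _ => 1, isIrrCharacter_one⟩
  have hmT : m T = 1 := by
    have := (hm T).symm.trans hone
    exact_mod_cast this
  have hsq : ∑ χ : Cfsg.IrrCharacter G, m χ * m χ = 3 := by
    have h := classInner_eq_sum (ψ := θ) (CharBasic.IsGen.isClassFunction hgen)
    simp only [hm, map_intCast, hnorm] at h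
    exact_mod_cast h.symm
  set S := (univ : Finset (Cfsg.IrrCharacter G)).filter (fun χ => χ ≠ T ∧ m χ ≠ 0) with hS
  have hsplit : ∀ f : Cfsg.IrrCharacter G → ℂ,
      ∑ χ : Cfsg.IrrCharacter G, (m χ : ℂ) * f χ = f T + ∑ χ ∈ S, (m χ : ℂ) * f χ := by
    intro f
    rw [← Finset.add_sum_erase univ _ (mem_univ T), hmT, Int.cast_one, one_mul]
    congr 1
    refine (Finset.sum_subset (fun χ hχ => ?_) fun χ hχ hχS => ?_).symm
    · simp only [hS, mem_filter] at hχ
      exact mem_erase.mpr ⟨hχ.2.1, mem_univ _⟩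
    · have : m χ = 0 := by
        by_contra hne
        exact hχS (by simp [hS, (mem_erase.mp hχ).1, hne])
      simp [this]
  have hS2 : ∑ χ ∈ S, m χ * m χ = 2 := by
    have h := hsplit (fun χ => (m χ : ℂ))
    rw [hmT] at h
    have h' : (3 : ℂ) = ((1 + ∑ χ ∈ S, m χ * m χ : ℤ) : ℂ) := by
      rw [Int.cast_add, Int.cast_one, Int.cast_sum]
      push_cast
      rw [show ((1 : ℤ) : ℂ) = 1 from Int.cast_one] at h
      rw [← h]
      exact_mod_cast hsq.symm
    have h'' : (3 : ℤ) = 1 + ∑ χ ∈ S, m χ * m χ := by exact_mod_cast h'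
    omega
  have hunit : ∀ χ ∈ S, m χ = 1 ∨ m χ = -1 := by
    intro χ hχ
    have hle : m χ * m χ ≤ 2 :=
      hS2 ▸ Finset.single_le_sum (f := fun χ => m χ * m χ) (fun ψ _ => mul_self_nonneg _) hχ
    have hne : m χ ≠ 0 := (by simpa [hS] using hχ : χ ≠ T ∧ m χ ≠ 0).2
    have : m χ ≤ 1 ∧ -1 ≤ m χ := ⟨by nlinarith, by nlinarith⟩
    omega
  have hcard : #S = 2 := by
    have h : ∑ χ ∈ S, m χ * m χ = ∑ _χ ∈ S, (1 : ℤ) :=
      sum_congr rfl fun χ hχ => by rcases hunit χ hχ with e | e <;> simp [e]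
    rw [hS2, sum_const, nsmul_eq_mul, mul_one] at h
    exact_mod_cast h.symm
  obtain ⟨A, B, hAB, hSAB⟩ := Finset.card_eq_two.mp hcard
  refine ⟨A, ?_, ?_⟩
  · intro hA
    have : A ∈ S := by rw [hSAB]; simp
    exact (by simpa [hS] using this : A ≠ T ∧ m A ≠ 0).1 (Subtype.ext hA)
  have hval : ∀ y : G,
      θ y = 1 + ((m A : ℂ) * (A : G → ℂ) y + (m B : ℂ) * (B : G → ℂ) y) := by
    intro y
    conv_lhs => rw [hθ]
    rw [Finset.sum_apply]
    simp only [Pi.smul_apply, smul_eq_mul]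
    rw [hsplit (fun χ => (χ : G → ℂ) y), hSAB, Finset.sum_pair hAB]
  have e1 := hval 1
  have ez := hval z
  have es := sum_coeff_sq_eq_zero z θ m hm hsupp hz
  rw [hsplit, hSAB, Finset.sum_pair hAB, show ((T : G → ℂ) z) = 1 from rfl, one_pow,
    div_one] at es
  rw [h1] at e1
  rw [hθz] at ez
  have ha : (m A : ℂ) * (m A : ℂ) = 1 := by
    rcases hunit A (by rw [hSAB]; simp) with e | e <;> simp [e]
  have hb : (m B : ℂ) * (m B : ℂ) = 1 := by
    rcases hunit B (by rw [hSAB]; simp) with e | e <;> simp [e]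
  have hA1 := IsIrr.one_ne_zero A.2
  have hB1 := IsIrr.one_ne_zero B.2
  generalize (A : G → ℂ) 1 = A1 at *
  generalize (B : G → ℂ) 1 = B1 at *
  generalize (A : G → ℂ) z = Az at *
  generalize (B : G → ℂ) z = Bz at *
  generalize (m A : ℂ) = a at *
  generalize (m B : ℂ) = b at *
  have hsqz : (A1 - Az) ^ 2 = 0 := by
    field_simp at es
    linear_combination (-(a * b)) * es - (a * A1 + (a * Az) ^ 2) * e1 -
      (a * A1) * (b * Bz - 1 - a * Az) * ez - (A1 - Az) ^ 2 * ha
  exact (sub_eq_zero.mp (pow_eq_zero_iff two_ne_zero |>.mp hsqz)).symm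

/-- Induction of functions whose support is moved back into `M` only by `M` preserves inner
products. -/
theorem classInner_indFun_of_supp (M : Subgroup G) [Fintype M] (ψ : M → ℂ)
    (hψ : Cfsg.IsClassFunction M ψ)
    (hTI : ∀ (g : G) (d d' : M), ψ d ≠ 0 → ψ d' ≠ 0 → g * d * g⁻¹ = d' → g ∈ M) :
    Cfsg.classInner (Cfsg.indFun M ψ) (Cfsg.indFun M ψ) = Cfsg.classInner ψ ψ := by
  classical
  rw [classInner_indFun_left M ψ _ (isClassFunction_indFun M ψ), classInner_def, classInner_def]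
  congr 1
  refine sum_congr rfl fun d _ => ?_
  by_cases hd : ψ d = 0
  · simp [hd]
  congr 2
  have h : ∀ x : G, Cfsg.extendByZero M ψ (x⁻¹ * d * x) = if x ∈ M then ψ d else 0 := by
    intro x
    split_ifs with hx
    · have := extendByZero_conj hψ (M.inv_mem hx) (d : G)
      rwa [inv_inv, extendByZero_coe] at this
    · by_cases hy : x⁻¹ * (d : G) * x ∈ M
      · rw [extendByZero_of_mem _ hy]
        by_contra hne
        exact hx (inv_mem_iff.mp (hTI x⁻¹ d ⟨_, hy⟩ hd hne (by simp)))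
      · rw [extendByZero_of_not_mem _ hy]
  rw [indFun_apply]
  simp only [h]
  rw [← sum_filter, sum_const, nsmul_eq_mul]
  have hc : #(univ.filter fun x : G => x ∈ M) = Nat.card M := by
    rw [Nat.card_eq_fintype_card, Fintype.card_subtype]
  rw [hc, ← mul_assoc, inv_mul_cancel₀ (card_ne_zero_complex _), one_mul]

/-- The induction of a class function from a normal subgroup of index two, restricted back. -/
theorem indFun_index_two_coe {M : Type u} [Group M] [Fintype M] (N : Subgroup M) [N.Normal]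
    (hN : N.index = 2) (ψ : N → ℂ) (hψ : Cfsg.IsClassFunction N ψ) {x : M} (hx : x ∉ N) (n : N) :
    Cfsg.indFun N ψ n = ψ n + conjFun N ψ x n := by
  classical
  have hcard : Nat.card M = 2 * Nat.card N := by rw [← N.index_mul_card, hN]
  have hc : ∀ y : M, conjFun N ψ y n = if y ∈ N then ψ n else conjFun N ψ x n := by
    intro y
    have hleft : ∀ a ∈ N, ∀ w : M, conjFun N ψ (a * w) n = conjFun N ψ w n := by
      intro a ha w
      have h1 := congrFun (conjFun_mul (N := N) ψ a w) n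
      rw [← h1]
      have h2 : conjFun N ψ a = ψ := by
        funext v
        rw [← hψ v ⟨a, ha⟩]
        rfl
      rw [h2]
    split_ifs with hy
    · have := hleft y hy 1
      rwa [mul_one, congrFun (conjFun_one (N := N) ψ) n] at this
    · have hyx : y * x⁻¹ ∈ N := by
        rw [Subgroup.mul_mem_iff_of_index_two hN, inv_mem_iff]
        exact iff_of_false hy hx
      have := hleft _ hyx x
      rwa [inv_mul_cancel_right] at this
  rw [indFun_normal_coe, sum_congr rfl fun y _ => hc y]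
  rw [sum_ite, sum_const, sum_const, nsmul_eq_mul, nsmul_eq_mul]
  have hn : #(univ.filter fun y : M => y ∈ N) = Nat.card N := by
    rw [Nat.card_eq_fintype_card, Fintype.card_subtype]
  have hn' : #(univ.filter fun y : M => y ∉ N) = Nat.card N := by
    have h := card_filter_add_card_filter_not (s := (univ : Finset M)) (fun y => y ∈ N)
    rw [hn, card_univ, ← Nat.card_eq_fintype_card, hcard] at h
    omega
  rw [hn, hn']
  rw [← mul_add, ← mul_assoc, inv_mul_cancel₀ (card_ne_zero_complex N), one_mul]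

/-- The norm of `Ind (1 - μ)` from a normal subgroup of index two, for a linear character `μ`
moved by the outer elements and with `1, μ, μ ^ x` distinct. -/
theorem norm_ind_one_sub {M : Type u} [Group M] [Fintype M] (N : Subgroup M) [N.Normal] [Fintype N]
    (hN : N.index = 2) (μ : N →* ℂˣ) {x : M} (hx : x ∉ N) (n₀ : N) (h1 : μ n₀ ≠ 1)
    (hne : μ ⟨x * n₀ * x⁻¹, ‹N.Normal›.conj_mem n₀ n₀.2 x⟩ ≠ μ n₀)
    (h2 : μ ⟨x * n₀ * x⁻¹, ‹N.Normal›.conj_mem n₀ n₀.2 x⟩ ≠ 1) :
    Cfsg.classInner (Cfsg.indFun N (fun n => (1 : ℂ) - μ n))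
        (Cfsg.indFun N (fun n => (1 : ℂ) - μ n)) = 3 ∧
      Cfsg.classInner (Cfsg.indFun N (fun n => (1 : ℂ) - μ n)) (fun _ => 1) = 1 := by
  let φ : N → ℂ := fun n => (1 : ℂ) - μ n
  let μ' : N →* ℂˣ :=
    { toFun := fun n => μ ⟨x * n * x⁻¹, ‹N.Normal›.conj_mem n n.2 x⟩
      map_one' := by rw [← map_one μ]; congr 1; simp
      map_mul' := fun a b => by rw [← map_mul μ]; congr 1; ext; simp [mul_assoc] }
  have i1 : Cfsg.IsIrrCharacter N (fun n => ((μ n : ℂˣ) : ℂ)) := isIrrCharacter_hom μ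
  have i2 : Cfsg.IsIrrCharacter N (fun n => ((μ' n : ℂˣ) : ℂ)) := isIrrCharacter_hom μ'
  have i0 : Cfsg.IsIrrCharacter N (fun _ : N => (1 : ℂ)) := isIrrCharacter_one
  have d01 : (fun n : N => ((μ n : ℂˣ) : ℂ)) ≠ fun _ => 1 := fun e =>
    h1 (Units.ext (by simpa using congrFun e n₀))
  have d02 : (fun n : N => ((μ' n : ℂˣ) : ℂ)) ≠ fun _ => 1 := fun e =>
    h2 (Units.ext (by simpa [μ'] using congrFun e n₀))
  have d12 : (fun n : N => ((μ' n : ℂˣ) : ℂ)) ≠ fun n => ((μ n : ℂˣ) : ℂ) := fun e =>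
    hne (Units.ext (by simpa [μ'] using congrFun e n₀))
  have e00 := classInner_irr_self i0
  have e11 := classInner_irr_self i1
  have e01 := classInner_irr_of_ne i0 i1 d01.symm
  have e10 := classInner_irr_of_ne i1 i0 d01
  have e02 := classInner_irr_of_ne i0 i2 d02.symm
  have e12 := classInner_irr_of_ne i1 i2 d12.symm
  have hφ : Cfsg.IsClassFunction N φ := fun a b => by
    simp [φ, mul_comm, mul_left_comm]
  have hres : (fun n : N => Cfsg.indFun N φ n) =
      ((fun _ => (1 : ℂ)) - fun n => ((μ n : ℂˣ) : ℂ)) +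
        ((fun _ => (1 : ℂ)) - fun n => ((μ' n : ℂˣ) : ℂ)) := by
    funext n
    rw [indFun_index_two_coe N hN φ hφ hx n]
    rfl
  have hφ' : φ = (fun _ => (1 : ℂ)) - fun n => ((μ n : ℂˣ) : ℂ) := rfl
  constructor
  · rw [classInner_indFun_left N _ _ (isClassFunction_indFun N _)]
    show Cfsg.classInner φ (fun n : N => Cfsg.indFun N φ n) = 3
    rw [hres, hφ']
    simp only [classInner_add_right, classInner_sub_right, classInner_sub_left, e00, e11, e01, e10,
      e02, e12]
    norm_num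
  · rw [classInner_indFun_left N _ _ (fun _ _ => rfl)]
    show Cfsg.classInner φ (fun _ => 1) = 1
    rw [hφ', classInner_sub_left, e00, e10]
    norm_num

open Subgroup in
/-- Generalised quaternion Sylow 2-subgroup of order at least sixteen: the involution lies in the
kernel of a non-principal irreducible character. -/
theorem exists_kernel_quaternion_large (P : Sylow 2 G) (x y : G) (k : ℕ) (hk : 2 ≤ k)
    (hyP : y ∈ (P : Subgroup G)) (hxP : x ∈ (P : Subgroup G)) (hy : orderOf y = 2 ^ (k + 1))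
    (hxy : x ∉ zpowers y) (hinv : x * y * x⁻¹ = y⁻¹) (hx2 : x * x = y ^ 2 ^ k)
    (hgen : ∀ q ∈ (P : Subgroup G), ∃ i : ℕ, q = y ^ i ∨ q = x * y ^ i) :
    ∃ A : Cfsg.IrrCharacter G, (A : G → ℂ) ≠ (fun _ => 1) ∧
      (A : G → ℂ) (y ^ 2 ^ k) = (A : G → ℂ) 1 := by
  classical
  have : Fact (Nat.Prime 2) := ⟨Nat.prime_two⟩
  set z := y ^ 2 ^ k with hz
  set v := y ^ 2 with hv
  have hyv : ∀ i : ℕ, y ^ i = 1 ↔ 2 ^ (k + 1) ∣ i := fun i => by
    rw [← orderOf_dvd_iff_pow_eq_one, hy]
  have hk4 : (4 : ℕ) ∣ 2 ^ k := (show (4 : ℕ) = 2 ^ 2 by norm_num) ▸ pow_dvd_pow 2 hk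
  have hz2 : z * z = 1 := by rw [hz, ← pow_add, hyv, pow_succ]; exact ⟨1, by ring⟩
  have hz1 : z ≠ 1 := fun h => by
    have := Nat.le_of_dvd (by positivity) ((hyv _).mp h)
    rw [pow_succ] at this
    have := Nat.one_le_two_pow (n := k)
    omega
  have hv4 : ¬ v ^ 2 = 1 := fun h => by
    rw [hv, ← pow_mul, hyv] at h
    have := Nat.le_of_dvd (by norm_num) h
    have : 2 ^ 2 ≤ 2 ^ k := Nat.pow_le_pow_right (by norm_num) hk
    rw [pow_succ] at *
    omega
  have hsq : ∀ i : ℕ, (x * y ^ i) * (x * y ^ i) = z := by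
    intro i
    have h1 : x * y ^ i * x⁻¹ = (y ^ i)⁻¹ := by rw [← conj_pow, hinv, inv_pow]
    calc (x * y ^ i) * (x * y ^ i) = (x * y ^ i * x⁻¹) * (x * x) * y ^ i := by group
      _ = (y ^ i)⁻¹ * y ^ 2 ^ k * y ^ i := by rw [h1, hx2]
      _ = z := by rw [mul_assoc, pow_mul_comm, inv_mul_cancel_left]
  have hinvol : ∀ q ∈ (P : Subgroup G), q * q = 1 → q = 1 ∨ q = z := by
    intro q hq hqq
    obtain ⟨i, rfl | rfl⟩ := hgen q hq
    · rw [← pow_add, hyv, pow_succ] at hqq
      obtain ⟨j, hj⟩ := hqq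
      have hi : i = 2 ^ k * j := by
        have : 2 * i = 2 * (2 ^ k * j) := by rw [← mul_assoc, mul_comm 2 (2 ^ k), ← hj]; ring
        omega
      rcases Nat.even_or_odd' j with ⟨l, rfl | rfl⟩
      · left; rw [hyv, hi, pow_succ]; exact ⟨l, by ring⟩
      · right
        rw [hi, hz, show 2 ^ k * (2 * l + 1) = 2 ^ (k + 1) * l + 2 ^ k by ring, pow_add, pow_mul,
          (hyv _).mpr dvd_rfl, one_pow, one_mul]
    · exact absurd ((hsq i).symm.trans hqq) hz1
  -- an element of `P` commuting with `y ^ m` of order at least four is a power of `y`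
  have hcent : ∀ q ∈ (P : Subgroup G), ∀ m : ℕ, Commute q (y ^ m) → ¬ y ^ (2 * m) = 1 →
      q ∈ zpowers y := by
    intro q hq m hc hm
    obtain ⟨i, rfl | rfl⟩ := hgen q hq
    · exact pow_mem (mem_zpowers y) i
    · refine absurd ?_ hm
      have h1 : x * y ^ m * x⁻¹ = (y ^ m)⁻¹ := by rw [← conj_pow, hinv, inv_pow]
      have h2 : x * y ^ i * y ^ m * (y ^ i)⁻¹ * x⁻¹ = y ^ m := by
        have h3 := mul_inv_eq_iff_eq_mul.mpr hc.eq
        calc x * y ^ i * y ^ m * (y ^ i)⁻¹ * x⁻¹ = x * y ^ i * y ^ m * (x * y ^ i)⁻¹ := by group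
          _ = y ^ m := h3
      have h4 : x * y ^ i * y ^ m * (y ^ i)⁻¹ * x⁻¹ = x * y ^ m * x⁻¹ := by
        rw [show x * y ^ i * y ^ m * (y ^ i)⁻¹ = x * (y ^ i * y ^ m * (y ^ i)⁻¹) by group,
          ← pow_add, add_comm, pow_add, mul_inv_cancel_right]
      rw [h4, h1] at h2
      rw [two_mul, pow_add]
      nth_rewrite 1 [← h2]
      exact inv_mul_cancel _
  set C := centralizer ({v} : Set G) with hC
  have hyC : y ∈ C := mem_centralizer_singleton_iff.mpr (pow_mul_comm' y 2).symm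
  set Y : Subgroup C := (zpowers y).subgroupOf C with hY
  have hYC : zpowers y ≤ C := zpowers_le.mpr hyC
  have hYp : IsPGroup 2 Y :=
    ((IsPGroup.of_card (n := k + 1) (by rw [Nat.card_zpowers, hy]) :
      IsPGroup 2 (zpowers y))).comap_subtype
  -- `⟨y⟩` is a Sylow subgroup of `C(v)`
  have hmax : ∀ {Q : Subgroup C}, IsPGroup 2 Q → Y ≤ Q → Q = Y := by
    intro Q hQ hle
    refine le_antisymm (fun q hq => ?_) hle
    obtain ⟨S, hS⟩ := (hQ.map C.subtype).exists_le_sylow
    obtain ⟨g, hg⟩ := MulAction.exists_smul_eq G P S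
    have hmem : ∀ w : G, w ∈ Q.map C.subtype → g⁻¹ * w * g ∈ (P : Subgroup G) := by
      intro w hw
      have h1 := hS hw
      rw [← hg] at h1
      obtain ⟨a, ha, hae⟩ := h1
      have h2 : g * a * g⁻¹ = w := hae
      rw [← h2, show g⁻¹ * (g * a * g⁻¹) * g = a by group]
      exact ha
    have hy' : y ∈ Q.map C.subtype := ⟨⟨y, hyC⟩, hle (mem_zpowers y), rfl⟩
    obtain ⟨j, hj | hj⟩ := hgen _ (hmem y hy')
    swap
    · exfalso
      have h1 : (g⁻¹ * y * g) * (g⁻¹ * y * g) = z := by rw [hj]; exact hsq j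
      have h2 : y ^ 4 = 1 := by
        have h3 : g⁻¹ * (y * y) * g = z := by rw [← h1]; group
        have h4 : g⁻¹ * (y * y * (y * y)) * g = 1 := by rw [← hz2, ← h3]; group
        have h5 := congrArg (fun w => g * w * g⁻¹) h4
        simp only [mul_one, mul_inv_cancel] at h5
        rw [show y ^ 4 = y * y * y * y by simp [pow_succ], ← h5]; group
      have := Nat.le_of_dvd (by norm_num) ((hyv 4).mp h2)
      have : 2 ^ 2 ≤ 2 ^ k := Nat.pow_le_pow_right (by norm_num) hk
      rw [pow_succ] at *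
      omega
    have hq' := hmem (q : G) (mem_map_of_mem _ hq)
    have hcomm : Commute (g⁻¹ * (q : G) * g) (y ^ (2 * j)) := by
      rw [mul_comm, pow_mul, ← hj, sq]
      have := mem_centralizer_singleton_iff.mp q.2
      show g⁻¹ * (q : G) * g * (g⁻¹ * y * g * (g⁻¹ * y * g)) = _
      calc g⁻¹ * (q : G) * g * (g⁻¹ * y * g * (g⁻¹ * y * g)) = g⁻¹ * ((q : G) * (y * y)) * g := by
            group
        _ = g⁻¹ * ((y * y) * (q : G)) * g := by rw [← sq, ← hv, this]
        _ = _ := by group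
    have hj4 : ¬ y ^ (2 * (2 * j)) = 1 := by
      intro h
      refine hv4 ?_
      have h1 : (g⁻¹ * y * g) ^ 4 = 1 := by rw [hj, ← pow_mul, ← h]; congr 1; ring
      have h2 : g⁻¹ * y ^ 4 * g = 1 := by
        rw [← h1]
        simpa using (conj_pow (i := 4) (a := g⁻¹) (b := y)).symm
      have h3 := congrArg (fun w => g * w * g⁻¹) h2
      simp only [mul_one, mul_inv_cancel] at h3
      rw [hv, ← pow_mul, ← h3]; group
    have hqY := hcent _ hq' _ hcomm hj4
    -- `g⁻¹ ⟨y⟩ g = ⟨y⟩`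
    have heq : (zpowers y).map (MulAut.conj g⁻¹).toMonoidHom = zpowers y := by
      rw [MonoidHom.map_zpowers]
      refine eq_of_le_of_card_ge (zpowers_le.mpr ?_) ?_
      · show g⁻¹ * y * g⁻¹⁻¹ ∈ zpowers y
        rw [inv_inv, hj]; exact pow_mem (mem_zpowers y) j
      · rw [Nat.card_zpowers, Nat.card_zpowers]
        exact (MulEquiv.orderOf_eq (MulAut.conj g⁻¹) y).ge
    rw [← heq] at hqY
    obtain ⟨w, hw, hwe⟩ := hqY
    have h6 : g⁻¹ * w * g⁻¹⁻¹ = g⁻¹ * (q : G) * g := hwe
    rw [inv_inv, mul_left_inj, mul_right_inj] at h6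
    rw [hY, mem_subgroupOf, ← h6]
    exact hw
  obtain ⟨Y', hY'⟩ : ∃ Y' : Sylow 2 C, (Y' : Subgroup C) = Y :=
    ⟨{ toSubgroup := Y, isPGroup' := hYp, is_maximal' := hmax }, rfl⟩
  have hYcyc : IsCyclic Y := by
    have := isCyclic_of_surjective (subgroupOfEquivOfLe hYC).symm.toMonoidHom
      (MulEquiv.surjective _)
    exact this
  have hminfac : Nat.minFac (Nat.card C) = 2 := by
    refine le_antisymm (Nat.minFac_le_of_dvd le_rfl ?_) (Nat.minFac_prime ?_).two_le
    · exact (dvd_pow_self 2 (show k + 1 ≠ 0 by omega)).trans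
        (hy ▸ C.orderOf_dvd_natCard hyC)
    · intro h1
      have := hy ▸ C.orderOf_dvd_natCard hyC
      rw [h1, Nat.dvd_one] at this
      exact absurd this (Nat.one_lt_two_pow (by omega)).ne'
  have hYn : normalizer ((Y' : Subgroup C) : Set C) ≤ centralizer ((Y' : Subgroup C) : Set C) :=
    IsCyclic.normalizer_le_centralizer (p := 2) hminfac (P := Y') (hY' ▸ hYcyc)
  -- the linear character `μ` of `C(v)` with `μ(y) = ± I`
  let f : C →* (Y' : Subgroup C) := MonoidHom.transferSylow Y' hYn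
  let yY : (Y' : Subgroup C) := ⟨⟨y, hyC⟩, by rw [hY']; exact mem_zpowers y⟩
  have hyYord : orderOf yY = 2 ^ (k + 1) := by
    rw [← Subgroup.orderOf_coe, ← Subgroup.orderOf_coe]; exact hy
  have hyYgen : ∀ w : (Y' : Subgroup C), w ∈ zpowers yY := by
    intro w
    have hw : (w : C) ∈ Y := hY' ▸ w.2
    obtain ⟨i, hi⟩ := hw
    exact ⟨i, Subtype.ext (Subtype.ext (by simpa [yY] using hi))⟩
  let iU : ℂˣ := Units.mk0 Complex.I Complex.I_ne_zero
  have hi4 : iU ^ 4 = 1 := Units.ext (by simp [iU, Complex.I_pow_four])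
  let χ0 : (Y' : Subgroup C) →* ℂˣ := monoidHomOfForallMemZpowers hyYgen (g' := iU) (by
    rw [hyYord]
    exact (orderOf_dvd_of_pow_eq_one hi4).trans (hk4.trans (pow_dvd_pow 2 (Nat.le_succ k))))
  let μ : C →* ℂˣ := χ0.comp f
  have hχ4 : ∀ w, χ0 w ^ 4 = 1 := fun w => by
    obtain ⟨i, rfl⟩ := hyYgen w
    rw [map_zpow, monoidHomOfForallMemZpowers_apply_gen, ← zpow_natCast, ← zpow_mul, mul_comm,
      zpow_mul, zpow_natCast, hi4, one_zpow]
  have hμ4 : ∀ c, μ c ^ 4 = 1 := fun c => hχ4 _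
  set d := (Y' : Subgroup C).index with hd
  have hdodd : Odd d := Nat.odd_iff.mpr (by
    have := Y'.not_dvd_index
    omega)
  have hμy : μ ⟨y, hyC⟩ = iU ^ d := by
    show χ0 (f (yY : C)) = _
    rw [MonoidHom.transferSylow_eq_pow Y' hYn (yY : C) yY.2,
      show (⟨(yY : C) ^ d, _⟩ : (Y' : Subgroup C)) = yY ^ d from Subtype.ext rfl, map_pow,
      monoidHomOfForallMemZpowers_apply_gen]
  have hμy2 : μ ⟨y, hyC⟩ ^ 2 = -1 := by
    rw [hμy, ← pow_mul, mul_comm, pow_mul]
    refine Units.ext ?_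
    simp [iU, Complex.I_sq, hdodd.neg_one_pow]
  have hμz : μ (⟨y, hyC⟩ ^ 2 ^ k) = 1 := by
    obtain ⟨r, hr⟩ := hk4
    rw [map_pow, hr, pow_mul, hμ4, one_pow]
  -- elements with nontrivial `μ` have order divisible by four
  have hmu4 : ∀ c : C, μ c ≠ 1 → 4 ∣ orderOf c := by
    intro c hc
    by_contra h4
    apply hc
    obtain ⟨a, o, ho, hao⟩ := Nat.exists_eq_two_pow_mul_odd (orderOf_pos c).ne'
    have ha : a ≤ 1 := by
      by_contra hh
      exact h4 (hao ▸ dvd_mul_of_dvd_left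
        ((show (4 : ℕ) = 2 ^ 2 by norm_num) ▸ pow_dvd_pow 2 (show 2 ≤ a by omega)) o)
    have h2 : (c ^ o) * (c ^ o) = 1 := by
      rw [← pow_add, ← orderOf_dvd_iff_pow_eq_one, hao]
      interval_cases a
      · exact ⟨2, by ring⟩
      · exact ⟨1, by ring⟩
    have hμo : μ (c ^ o) = 1 := by
      by_cases hw : c ^ o = 1
      · rw [hw, map_one]
      have hQ : IsPGroup 2 (zpowers (c ^ o)) := IsPGroup.of_card (n := 1) (by
        rw [Nat.card_zpowers, pow_one]
        exact orderOf_eq_prime (by rw [sq]; exact h2) hw)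
      obtain ⟨S, hS⟩ := hQ.exists_le_sylow
      obtain ⟨g, hg⟩ := MulAction.exists_smul_eq C Y' S
      have h5 := hS (mem_zpowers (c ^ o))
      rw [← hg] at h5
      obtain ⟨w, hw', hwe⟩ := h5
      have hwe' : g * w * g⁻¹ = c ^ o := hwe
      have hμw : μ (c ^ o) = μ w := by
        rw [← hwe', map_mul, map_mul, map_inv, mul_right_comm, mul_inv_cancel, one_mul]
      have hwY : (w : G) ∈ zpowers y := by
        have : w ∈ Y := hY' ▸ hw'
        exact this
      have hww : (w : G) * w = 1 := by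
        have h6 : w * w = 1 := by
          have h7 : g * (w * w) * g⁻¹ = 1 := by rw [← h2, ← hwe']; group
          simpa [mul_assoc] using congrArg (fun q => g⁻¹ * q * g) h7
        exact congrArg Subtype.val h6
      have hwP : (w : G) ∈ (P : Subgroup G) := zpowers_le.mpr hyP hwY
      rw [hμw]
      rcases hinvol _ hwP hww with e | e
      · rw [show w = 1 from Subtype.ext e, map_one]
      · rw [show w = ⟨y, hyC⟩ ^ 2 ^ k from Subtype.ext (e.trans (by simp [hz]))]
        exact hμz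
    rw [map_pow] at hμo
    have hcop : Nat.Coprime o 4 := by
      rw [show (4 : ℕ) = 2 ^ 2 by norm_num]
      exact (Nat.coprime_two_right.mpr ho).pow_right 2
    exact orderOf_eq_one_iff.mp (Nat.eq_one_of_dvd_coprimes hcop
      (orderOf_dvd_of_pow_eq_one hμo) (orderOf_dvd_of_pow_eq_one (hμ4 c)))
  -- the normaliser of `⟨v⟩`
  set M := normalizer ((zpowers v : Subgroup G) : Set G) with hM
  have hCM : C ≤ M := by
    rw [hM, hC, ← centralizer_closure, ← zpowers_eq_closure]
    exact centralizer_le_normalizer _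
  have hPM : (P : Subgroup G) ≤ M := by
    intro q hq
    rw [hM, mem_normalizer_iff_map_conj_eq, MonoidHom.map_zpowers]
    refine eq_of_le_of_card_ge (zpowers_le.mpr ?_) ?_
    · show q * v * q⁻¹ ∈ zpowers v
      obtain ⟨i, rfl | rfl⟩ := hgen q hq
      · rw [hv, ← pow_add, add_comm, pow_add, mul_inv_cancel_right]; exact mem_zpowers _
      · have h1 : x * y ^ 2 * x⁻¹ = (y ^ 2)⁻¹ := by rw [← conj_pow, hinv, inv_pow]
        rw [hv, show x * y ^ i * y ^ 2 * (x * y ^ i)⁻¹ = x * (y ^ i * y ^ 2 * (y ^ i)⁻¹) * x⁻¹ by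
          group, ← pow_add, add_comm, pow_add, mul_inv_cancel_right, h1]
        exact inv_mem (mem_zpowers _)
    · rw [Nat.card_zpowers, Nat.card_zpowers]
      exact (MulEquiv.orderOf_eq (MulAut.conj q) v).ge
  have hxM : x ∈ M := hPM hxP
  have hvord : orderOf v = 2 ^ k := by
    rw [hv, orderOf_pow_of_dvd two_ne_zero (by rw [hy]; exact dvd_pow_self 2 (by omega)), hy,
      pow_succ, Nat.mul_div_cancel _ two_pos]
  set N : Subgroup M := C.subgroupOf M with hN
  have : N.Normal := by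
    have e : C = centralizer ((zpowers v : Subgroup G) : Set G) := by
      rw [hC, ← centralizer_closure, ← zpowers_eq_closure]
    rw [hN, e]
    infer_instance
  have hres : pResidual 2 M ≤ N := by
    refine Fusion.pResidual_le.mpr fun m hm => ?_
    have hodd : Odd (orderOf (m : G)) := by
      rw [Subgroup.orderOf_coe]
      exact Nat.coprime_two_right.mp hm
    have hmem : (m : G) * v * (m : G)⁻¹ ∈ zpowers v :=
      (mem_normalizer_iff.mp m.2 v).mp (mem_zpowers v)
    exact mem_subgroupOf.mpr (mem_centralizer_singleton_iff.mpr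
      (mul_inv_eq_iff_eq_mul.mp (conj_eq_of_zpowers hodd k hvord hmem)))
  let PM : Sylow 2 M := P.subtype hPM
  have hxN : (⟨x, hxM⟩ : M) ∉ N := by
    intro h
    have h1 : x * v = v * x := mem_centralizer_singleton_iff.mp (mem_subgroupOf.mp h)
    exact hxy (hcent x hxP 2 h1 (by rw [pow_mul]; exact hv4))
  have hindex : N.index = 2 := by
    rw [Subgroup.index_eq_two_iff]
    refine ⟨⟨x, hxM⟩, fun b => ?_⟩
    have hb := (Fusion.sylow_sup_eq_top PM hres).ge (mem_top b)
    rw [← SetLike.mem_coe, Subgroup.coe_mul_of_left_le_normalizer_right _ _ (by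
      rw [normalizer_eq_top]; exact le_top)] at hb
    obtain ⟨q, hq, n, hn, rfl⟩ := Set.mem_mul.mp hb
    obtain ⟨i, hi⟩ := hgen (q : G) hq
    have hyN : ∀ j : ℕ, (⟨y, hPM hyP⟩ : M) ^ j ∈ N := fun j => pow_mem (mem_subgroupOf.mpr hyC) j
    rcases hi with hi | hi
    · right
      refine ⟨mul_mem ?_ hn, fun h => hxN ?_⟩
      · rw [show q = ⟨y, hPM hyP⟩ ^ i from Subtype.ext (by simpa using hi)]; exact hyN i
      · have h2 : q * n ∈ N := mul_mem (by
          rw [show q = ⟨y, hPM hyP⟩ ^ i from Subtype.ext (by simpa using hi)]; exact hyN i) hn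
        exact (mul_mem_cancel_left h2).mp h
    · left
      refine ⟨?_, fun h => hxN ?_⟩
      · rw [show q = ⟨x, hxM⟩ * ⟨y, hPM hyP⟩ ^ i from Subtype.ext (by simpa using hi)]
        have hxx : (⟨x, hxM⟩ : M) * ⟨x, hxM⟩ ∈ N := mem_subgroupOf.mpr (by
          show x * x ∈ C
          rw [hx2]; exact pow_mem hyC _)
        have : N.Normal := inferInstance
        have h3 := this.conj_mem _ (mul_mem (hyN i) hn) ⟨x, hxM⟩
        rw [show (⟨x, hxM⟩ : M) * ⟨y, hPM hyP⟩ ^ i * n * ⟨x, hxM⟩ =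
          ⟨x, hxM⟩ * (⟨y, hPM hyP⟩ ^ i * n) * (⟨x, hxM⟩ : M)⁻¹ * (⟨x, hxM⟩ * ⟨x, hxM⟩) by group]
        exact mul_mem h3 hxx
      · have h2 : q * n ∈ N := h
        rw [show q = ⟨x, hxM⟩ * ⟨y, hPM hyP⟩ ^ i from Subtype.ext (by simpa using hi), mul_assoc,
          mul_mem_cancel_right (mul_mem (hyN i) hn)] at h2
        exact h2
  -- the generalised character
  let μN : N →* ℂˣ := μ.comp
    { toFun := fun n => (⟨((n : M) : G), n.2⟩ : C)
      map_one' := rfl
      map_mul' := fun _ _ => rfl }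
  let yN : N := ⟨⟨y, hPM hyP⟩, mem_subgroupOf.mpr hyC⟩
  have hμyN : μN yN = μ ⟨y, hyC⟩ := rfl
  have hconjy : μN ⟨⟨x, hxM⟩ * yN * ⟨x, hxM⟩⁻¹,
      ‹N.Normal›.conj_mem yN yN.2 ⟨x, hxM⟩⟩ = (μ ⟨y, hyC⟩)⁻¹ := by
    rw [← map_inv μ]
    show μ _ = _
    congr 1
    exact Subtype.ext hinv
  obtain ⟨hnorm, hone⟩ := norm_ind_one_sub N hindex μN hxN yN
    (by
      rw [hμyN]; intro h
      have := hμy2; rw [h, one_pow] at this
      exact absurd (congrArg Units.val this) (by norm_num))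
    (by
      rw [hconjy, hμyN]; intro h
      have := hμy2
      rw [sq] at this
      nth_rewrite 1 [← h] at this
      rw [inv_mul_cancel] at this
      exact absurd (congrArg Units.val this) (by norm_num))
    (by
      rw [hconjy]; intro h
      have := hμy2; rw [inv_eq_one.mp h, one_pow] at this
      exact absurd (congrArg Units.val this) (by norm_num))
  set τ := Cfsg.indFun N (fun n => (1 : ℂ) - μN n) with hτ
  have hτcl : Cfsg.IsClassFunction M τ := isClassFunction_indFun N _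
  -- support of `τ`
  have hsupp : ∀ m : M, τ m ≠ 0 → ∃ g : M, ∃ c : C,
      ((g⁻¹ * m * g : M) : G) = c ∧ μ c ≠ 1 := by
    intro m hm
    by_contra hno
    push Not at hno
    apply hm
    rw [hτ, indFun_apply]
    rw [sum_eq_zero fun g _ => ?_, mul_zero]
    by_cases hg : g⁻¹ * m * g ∈ N
    · rw [extendByZero_of_mem _ hg]
      have := hno g ⟨((g⁻¹ * m * g : M) : G), hg⟩ rfl
      show (1 : ℂ) - _ = 0
      rw [show μN ⟨g⁻¹ * m * g, hg⟩ = 1 from this, Units.val_one, sub_self]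
    · rw [extendByZero_of_not_mem _ hg]
  have hτ4 : ∀ m : M, τ m ≠ 0 → 4 ∣ orderOf (m : G) := by
    intro m hm
    obtain ⟨g, c, hgc, hc⟩ := hsupp m hm
    have h1 := hmu4 c hc
    rwa [← Subgroup.orderOf_coe, ← hgc, Subgroup.coe_mul, Subgroup.coe_mul, Subgroup.coe_inv,
      show (g : G)⁻¹ * m * g = MulAut.conj (g : G)⁻¹ (m : G) by simp,
      MulEquiv.orderOf_eq] at h1
  -- `v` is a power of every element on which `μ` is nontrivial
  have hvc : ∀ c : C, μ c ≠ 1 → v ∈ zpowers (c : G) := by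
    intro c hc
    obtain ⟨a, o, ho, hao⟩ := Nat.exists_eq_two_pow_mul_odd (orderOf_pos c).ne'
    have hu : μ (c ^ o) ≠ 1 := by
      intro h
      rw [map_pow] at h
      have hcop : Nat.Coprime o 4 := by
        rw [show (4 : ℕ) = 2 ^ 2 by norm_num]
        exact (Nat.coprime_two_right.mpr ho).pow_right 2
      exact hc (orderOf_eq_one_iff.mp (Nat.eq_one_of_dvd_coprimes hcop
        (orderOf_dvd_of_pow_eq_one h) (orderOf_dvd_of_pow_eq_one (hμ4 c))))
    have hQ : IsPGroup 2 (zpowers (c ^ o)) := IsPGroup.of_card (n := a) (by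
      rw [Nat.card_zpowers, orderOf_pow_of_dvd ho.pos.ne' (hao ▸ dvd_mul_left o _), hao,
        Nat.mul_div_cancel _ ho.pos])
    obtain ⟨S, hS⟩ := hQ.exists_le_sylow
    obtain ⟨g, hg⟩ := MulAction.exists_smul_eq C Y' S
    have h5 := hS (mem_zpowers (c ^ o))
    rw [← hg] at h5
    obtain ⟨w, hw', hwe⟩ := h5
    have hwe' : g * w * g⁻¹ = c ^ o := hwe
    have hμw : μ (c ^ o) = μ w := by
      rw [← hwe', map_mul, map_mul, map_inv, mul_right_comm, mul_inv_cancel, one_mul]
    have hwY : (w : G) ∈ zpowers y := by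
      have : w ∈ Y := hY' ▸ hw'
      exact this
    obtain ⟨j, hj⟩ : ∃ j : ℕ, y ^ j = w :=
      ((isOfFinOrder_of_finite y).mem_powers_iff_mem_zpowers).mpr hwY
    have hj4 : ¬ 4 ∣ j := by
      rintro ⟨r, rfl⟩
      apply hu
      rw [hμw, show w = ⟨y, hyC⟩ ^ (4 * r) from Subtype.ext (hj.symm.trans (by simp)), map_pow,
        pow_mul, hμ4, one_pow]
    obtain ⟨t, ht⟩ : ∃ t : ℕ, (w : G) ^ t = v := by
      rcases Nat.even_or_odd' j with ⟨l, rfl | rfl⟩
      · have hl : ¬ 2 ∣ l := fun ⟨r, hr⟩ => hj4 ⟨r, by omega⟩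
        have hcop : Nat.Coprime l (2 ^ k) :=
          (Nat.prime_two.coprime_iff_not_dvd.mpr hl).symm.pow_right k
        obtain ⟨t, -, ht⟩ := Nat.exists_mul_mod_eq_one_of_coprime hcop (Nat.one_lt_two_pow (by omega))
        refine ⟨t, ?_⟩
        rw [← hj, pow_mul, ← hv, ← pow_mul, ← pow_mod_orderOf, hvord, ht, pow_one]
      · have hcop : Nat.Coprime (2 * l + 1) (2 ^ (k + 1)) :=
          (Nat.prime_two.coprime_iff_not_dvd.mpr (by omega)).symm.pow_right _
        obtain ⟨t, -, ht⟩ := Nat.exists_mul_mod_eq_one_of_coprime hcop (Nat.one_lt_two_pow (by omega))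
        refine ⟨t * 2, ?_⟩
        rw [← hj, pow_mul, ← pow_mul y (2 * l + 1) t, ← pow_mod_orderOf y, hy, ht, pow_one]
    have hgv : (g : G) * v * (g : G)⁻¹ = v :=
      mul_inv_eq_iff_eq_mul.mpr (mem_centralizer_singleton_iff.mp g.2)
    rw [← hgv, ← ht, ← conj_pow]
    have hwe'' : (g : G) * w * (g : G)⁻¹ = (c : G) ^ o := by
      simpa using congrArg Subtype.val hwe'
    rw [hwe'']
    exact pow_mem (pow_mem (mem_zpowers _) _) _
  have hconjv : ∀ g ∈ M, zpowers (g * v * g⁻¹) = zpowers v := by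
    intro g hg
    have h := mem_normalizer_iff_map_conj_eq.mp hg
    rwa [MonoidHom.map_zpowers] at h
  have hvm : ∀ m : M, τ m ≠ 0 → v ∈ zpowers (m : G) := by
    intro m hm
    obtain ⟨g, c, hgc, hc⟩ := hsupp m hm
    have h1 := hvc c hc
    rw [← hgc] at h1
    obtain ⟨i, hi⟩ := h1
    have h2 : (g : G) * v * (g : G)⁻¹ ∈ zpowers (m : G) := by
      refine ⟨i, ?_⟩
      show (m : G) ^ i = _
      rw [← hi]
      simp only [Subgroup.coe_mul, Subgroup.coe_inv]
      rw [show (g : G)⁻¹ * m * g = (g : G)⁻¹ * m * ((g : G)⁻¹)⁻¹ by rw [inv_inv], conj_zpow]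
      group
    exact zpowers_le.mpr h2 ((hconjv g g.2).ge (mem_zpowers v))
  -- induction to `G`
  set T := Cfsg.indFun M τ with hT
  have hTI : ∀ (g : G) (e e' : M), τ e ≠ 0 → τ e' ≠ 0 → g * e * g⁻¹ = e' → g ∈ M := by
    intro g e e' he he' heq
    have h1 : g * v * g⁻¹ ∈ zpowers (e' : G) := by
      obtain ⟨i, hi⟩ := hvm e he
      have hi' : (e : G) ^ i = v := hi
      exact ⟨i, by show (e' : G) ^ i = _; rw [← heq, conj_zpow, hi']⟩
    have h2 := hvm e' he'
    have horder : orderOf (g * v * g⁻¹) = orderOf v := MulEquiv.orderOf_eq (MulAut.conj g) v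
    have key : ∀ w : G, w ∈ zpowers (e' : G) → orderOf w = orderOf v →
        zpowers w = zpowers ((e' : G) ^ (orderOf (e' : G) / orderOf v)) := by
      intro w hw how
      have hdvd : orderOf v ∣ orderOf (e' : G) := how ▸ orderOf_dvd_of_mem_zpowers hw
      obtain ⟨a, ha⟩ := ((isOfFinOrder_of_finite (e' : G)).mem_powers_iff_mem_zpowers).mpr hw
      refine eq_of_le_of_card_ge (zpowers_le.mpr ?_) ?_
      · obtain ⟨q, hq⟩ := hdvd
        have hv0 : 0 < orderOf v := orderOf_pos v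
        have h3 : orderOf (e' : G) ∣ a * orderOf v := by
          rw [orderOf_dvd_iff_pow_eq_one, pow_mul, show (e' : G) ^ a = w from ha, ← how,
            pow_orderOf_eq_one]
        rw [hq, mul_comm a] at h3
        obtain ⟨r, hr⟩ := Nat.dvd_of_mul_dvd_mul_left hv0 h3
        rw [hq, Nat.mul_div_cancel_left _ hv0, ← ha]
        show (e' : G) ^ a ∈ _
        rw [hr, pow_mul]
        exact pow_mem (mem_zpowers _) r
      · rw [Nat.card_zpowers, Nat.card_zpowers, how, orderOf_pow_orderOf_div (orderOf_pos _).ne' hdvd]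
    rw [hM, mem_normalizer_iff_map_conj_eq, MonoidHom.map_zpowers]
    exact (key _ h1 horder).trans (key v h2 rfl).symm
  have hTsupp : ∀ w : G, T w ≠ 0 → 4 ∣ orderOf w := by
    intro w hw
    by_contra h4
    apply hw
    rw [hT, indFun_apply, sum_eq_zero fun g _ => ?_, mul_zero]
    by_cases hg : g⁻¹ * w * g ∈ M
    · rw [extendByZero_of_mem _ hg]
      by_contra hne
      have := hτ4 _ hne
      rw [show ((⟨g⁻¹ * w * g, hg⟩ : M) : G) = MulAut.conj g⁻¹ w by simp,
        MulEquiv.orderOf_eq] at this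
      exact h4 this
    · rw [extendByZero_of_not_mem _ hg]
  have hgenN : Cfsg.IsGeneralizedCharacter N (fun n => (1 : ℂ) - μN n) :=
    ⟨fun _ => 1, fun n => (μN n : ℂ), IsChar.one, isCharacter_hom μN, rfl⟩
  have hzorder : ¬ 4 ∣ orderOf z := fun h => by
    have := Nat.le_of_dvd two_pos (h.trans (orderOf_dvd_of_pow_eq_one (by rw [sq]; exact hz2)))
    omega
  refine exists_kernel_of_norm_three z hz2 T (CharInduce.IsGen.ind M (CharInduce.IsGen.ind N hgenN))
    ?_ ?_ ?_ ?_ ?_
  · rw [hT, classInner_indFun_left M τ _ (fun _ _ => rfl)]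
    exact hone
  · rw [hT, classInner_indFun_of_supp M τ hτcl hTI]
    exact hnorm
  · by_contra h
    have := hTsupp 1 h
    simp at this
  · by_contra h
    exact hzorder (hTsupp z h)
  · intro w hw a ha hb
    have h4 := hTsupp w hw
    obtain ⟨ga, hga⟩ := isConj_iff.mp ha
    have ha2 : a * a = 1 := by
      rw [← hga, show ga * z * ga⁻¹ * (ga * z * ga⁻¹) = ga * (z * z) * ga⁻¹ by group, hz2]; group
    obtain ⟨gb, hgb⟩ := isConj_iff.mp hb
    have hb2 : (a⁻¹ * w) * (a⁻¹ * w) = 1 := by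
      rw [← hgb, show gb * z * gb⁻¹ * (gb * z * gb⁻¹) = gb * (z * z) * gb⁻¹ by group, hz2]; group
    have hainv : a⁻¹ = a := inv_eq_of_mul_eq_one_right ha2
    have hinvw : a * w * a⁻¹ = w⁻¹ := by
      rw [hainv] at hb2 ⊢
      exact eq_inv_of_mul_eq_one_left (by rw [← hb2]; group)
    obtain ⟨r, hr⟩ := h4
    set u := w ^ (2 * r) with hu
    have hu1 : u ≠ 1 := fun h => by
      have := Nat.le_of_dvd (by have := orderOf_pos w; omega) (orderOf_dvd_of_pow_eq_one h)
      have := orderOf_pos w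
      omega
    have hu2 : u * u = 1 := by
      rw [hu, ← pow_add, show 2 * r + 2 * r = orderOf w by omega, pow_orderOf_eq_one]
    have huinv : u⁻¹ = u := inv_eq_of_mul_eq_one_right hu2
    have hau : Commute a u := by
      have h1 : a * u * a⁻¹ = u⁻¹ := by rw [hu, ← conj_pow, hinvw, inv_pow]
      rw [huinv, mul_inv_eq_iff_eq_mul] at h1
      exact h1
    let W : Subgroup G :=
      { carrier := {1, a, u, a * u}
        one_mem' := by simp
        mul_mem' := by
          rintro p q hp hq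
          simp only [Set.mem_insert_iff, Set.mem_singleton_iff] at hp hq ⊢
          have e1 : u * a = a * u := hau.eq.symm
          have e2 : ∀ q : G, a * (a * q) = q := fun q => by rw [← mul_assoc, ha2, one_mul]
          have e3 : ∀ q : G, u * (a * q) = a * (u * q) := fun q => by
            rw [← mul_assoc, e1, mul_assoc]
          rcases hp with rfl | rfl | rfl | rfl <;> rcases hq with rfl | rfl | rfl | rfl <;>
            simp [mul_assoc, ha2, hu2, e1, e2, e3]
        inv_mem' := by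
          rintro p hp
          simp only [Set.mem_insert_iff, Set.mem_singleton_iff] at hp ⊢
          rcases hp with rfl | rfl | rfl | rfl <;>
            simp [hainv, huinv, hau.eq] }
    have hW : IsPGroup 2 W := by
      rintro ⟨p, hp⟩
      refine ⟨1, Subtype.ext ?_⟩
      show p ^ 2 ^ 1 = 1
      rw [pow_one, sq]
      rcases hp with rfl | rfl | rfl | hp
      · simp
      · exact ha2
      · exact hu2
      · rw [Set.mem_singleton_iff.mp hp, hau.symm.mul_mul_mul_comm, ha2, hu2, mul_one]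
    obtain ⟨S, hS⟩ := hW.exists_le_sylow
    obtain ⟨g, hg⟩ := MulAction.exists_smul_eq G P S
    have hinS : ∀ p ∈ W, p * p = 1 → p ≠ 1 → p = g * z * g⁻¹ := by
      intro p hp hpp hp1
      have h := hS hp
      rw [← hg] at h
      obtain ⟨q, hq, hqe⟩ := h
      have hqe' : g * q * g⁻¹ = p := hqe
      have hqq : q * q = 1 := by
        have : g * (q * q) * g⁻¹ = 1 := by rw [← hpp, ← hqe']; group
        simpa [mul_assoc] using congrArg (fun t => g⁻¹ * t * g) this
      rcases hinvol q hq hqq with rfl | rfl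
      · exact absurd (hqe'.symm.trans (by group)) hp1
      · exact hqe'.symm
    have ha1 : a ≠ 1 := fun h => hz1 (by
      rw [h] at hga
      simpa [mul_assoc] using congrArg (fun t => ga⁻¹ * t * ga) hga)
    have hae : a = u := (hinS a (by simp [W]) ha2 ha1).trans (hinS u (by simp [W]) hu2 hu1).symm
    have hww : w⁻¹ = w := by
      rw [← hinvw, hae, hu, ← pow_succ, pow_succ', mul_inv_cancel_right]
    have := Nat.le_of_dvd two_pos (orderOf_dvd_of_pow_eq_one (x := w) (n := 2) (by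
      rw [sq]; nth_rewrite 1 [← hww]; exact inv_mul_cancel w))
    have := orderOf_pos w
    omega

end Cfsg.Agent.H25
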