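import Mathlib.Analysis.Complex.Basic
import Mathlib.Tactic

/-!
# The vector configuration of the principal block in the quaternion case
-/

set_option autoImplicit false
set_option linter.unusedSectionVars false

namespace Cfsg.Agent.H25

open Finset

variable {ι : Type*} [Fintype ι] [DecidableEq ι]

theorem sum_eq_pair_add {T A B : ι} (hA : A ≠ T) (hB : B ≠ T) (hAB : A ≠ B) {g : ι → ℤ}
    (hg : ∀ i, i ≠ T → i ≠ A → i ≠ B → g i = 0) (F : ι → ℂ) :
    ∑ i, (g i : ℂ) * F i = g T * F T + g A * F A + g B * F B := by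
  rw [← sum_subset (subset_univ ({T, A, B} : Finset ι)) fun i _ hi => ?_]
  · rw [sum_insert (by simp [hA.symm, hB.symm]), sum_pair hAB, ← add_assoc]
  · simp only [mem_insert, mem_singleton, not_or] at hi
    simp [hg i hi.1 hi.2.1 hi.2.2]

/-- The configuration forces some `p i = d i` away from the trivial index. -/
theorem exists_kernel_vectors (T : ι) (m : ι → ℤ) (r : Fin 3 → ι → ℤ) (n : Fin 3 → ℤ)
    (d p : ι → ℂ) (hm : ∑ i, m i * m i = 4) (hmr : ∀ l, ∑ i, m i * r l i = 0)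
    (hrr : ∀ l k, ∑ i, r l i * r k i = if l = k then 4 else 2)
    (hmT : m T = 1) (hrT : ∀ l, r l T = 1) (hdT : d T = 1) (hpT : p T = 1) (hd0 : ∀ i, d i ≠ 0)
    (hlin : ∀ i, d i * d i = 1 → p i = d i)
    (hmd : ∑ i, (m i : ℂ) * d i = 0) (hrd : ∀ l, ∑ i, (r l i : ℂ) * d i = 0)
    (hmf : ∑ i, (m i : ℂ) * (p i ^ 2 / d i) = 0)
    (hrf : ∀ l, ∑ i, (r l i : ℂ) * (p i ^ 2 / d i) = 0)
    (hform : ∀ i, (m i ≠ 0 ∨ ∃ l, r l i ≠ 0) →
      p i = -((n 0 : ℂ) * r 0 i + (n 1 : ℂ) * r 1 i + (n 2 : ℂ) * r 2 i))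
    (hsum : n 0 + n 1 + n 2 = -1)
    (hpar : ∀ i, 2 ∣ m i + r 0 i + r 1 i + r 2 i) :
    ∃ i, i ≠ T ∧ p i = d i := by
  have hbound : ∀ {v : ι → ℤ}, v T = 1 → ∑ i, v i * v i = 4 → ∀ i, i ≠ T →
      v i = 0 ∨ v i = 1 ∨ v i = -1 := by
    intro v hvT hv i hi
    rw [← add_sum_erase _ _ (mem_univ T), hvT] at hv
    have h3 : v i * v i ≤ 3 := by
      have := single_le_sum (f := fun i => v i * v i) (fun _ _ => mul_self_nonneg _)
        (mem_erase.mpr ⟨hi, mem_univ i⟩)
      linarith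
    have : v i ≤ 1 ∧ -1 ≤ v i := ⟨by nlinarith, by nlinarith⟩
    omega
  -- a coordinate shared with the same sign gives a linear member
  have hexit : ∀ l i, i ≠ T → m i ≠ 0 → r l i = m i → ∃ i, i ≠ T ∧ p i = d i := by
    intro l i hi h0 he
    have hx : m i * m i = 1 := by
      rcases hbound hmT hm i hi with e | e | e
      · exact absurd e h0
      · simp [e]
      · simp [e]
    have h8 : ∑ j, (m j + r l j) * (m j + r l j) = 8 := by
      have hrl : ∑ j, r l j * r l j = 4 := by rw [hrr, if_pos rfl]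
      have : ∀ j, (m j + r l j) * (m j + r l j) = m j * m j + 2 * (m j * r l j) + r l j * r l j :=
        fun j => by ring
      simp only [this, sum_add_distrib, ← mul_sum, hm, hmr, hrl]
      norm_num
    have hrest : ∀ j, j ≠ T → j ≠ i → m j + r l j = 0 := by
      intro j hj hji
      rw [← add_sum_erase _ _ (mem_univ T), ← add_sum_erase _ _ (mem_erase.mpr ⟨hi, mem_univ i⟩),
        hmT, hrT, he] at h8
      have h0' : ∑ k ∈ (univ.erase T).erase i, (m k + r l k) * (m k + r l k) = 0 := by nlinarith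
      have := (sum_eq_zero_iff_of_nonneg fun _ _ => mul_self_nonneg _).mp h0' j
        (mem_erase.mpr ⟨hji, mem_erase.mpr ⟨hj, mem_univ j⟩⟩)
      exact mul_self_eq_zero.mp this
    have hd : ∑ j, ((m j + r l j : ℤ) : ℂ) * d j = 0 := by
      simp only [Int.cast_add, add_mul, sum_add_distrib, hmd, hrd, add_zero]
    rw [← sum_subset (subset_univ ({T, i} : Finset ι)) fun j _ hj => by
        simp only [mem_insert, mem_singleton, not_or] at hj
        simp [hrest j hj.1 hj.2], sum_pair hi.symm, hmT, hrT, he, hdT] at hd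
    push_cast at hd
    refine ⟨i, hi, hlin i ?_⟩
    have hx' : (m i : ℂ) * m i = 1 := by exact_mod_cast hx
    linear_combination ((m i : ℂ) * d i - 1) / 2 * hd - (d i * d i) * hx'
  by_contra hnone
  let g : ι → ℤ := fun i => (m i + r 1 i + r 2 i - r 0 i) / 2
  have hg : ∀ i, 2 * g i = m i + r 1 i + r 2 i - r 0 i := fun i => by
    have := hpar i
    simp only [g]
    omega
  have hdot : ∀ v : ι → ℤ, 2 * ∑ i, v i * g i =
      ∑ i, v i * m i + ∑ i, v i * r 1 i + ∑ i, v i * r 2 i - ∑ i, v i * r 0 i := fun v => by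
    rw [mul_sum, ← sum_add_distrib, ← sum_add_distrib, ← sum_sub_distrib]
    exact sum_congr rfl fun i _ => by linear_combination v i * hg i
  have hrm : ∀ l, ∑ i, r l i * m i = 0 := fun l =>
    (sum_congr rfl fun i _ => mul_comm _ _).trans (hmr l)
  have hmg : ∑ i, m i * g i = 2 := by
    have := hdot m
    rw [hm, hmr, hmr, hmr] at this
    omega
  have hrg : ∑ i, r 0 i * g i = 0 ∧ ∑ i, r 1 i * g i = 2 ∧ ∑ i, r 2 i * g i = 2 := by
    have h0 := hdot (r 0)
    have h1 := hdot (r 1)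
    have h2 := hdot (r 2)
    simp only [hrm, hrr] at h0 h1 h2
    simp at h0 h1 h2
    omega
  have hgg : ∑ i, g i * g i = 3 := by
    have := hdot g
    rw [show ∑ i, g i * m i = 2 by rw [← hmg]; exact sum_congr rfl fun i _ => mul_comm _ _,
      show ∑ i, g i * r 1 i = 2 by rw [← hrg.2.1]; exact sum_congr rfl fun i _ => mul_comm _ _,
      show ∑ i, g i * r 2 i = 2 by rw [← hrg.2.2]; exact sum_congr rfl fun i _ => mul_comm _ _,
      show ∑ i, g i * r 0 i = 0 by rw [← hrg.1]; exact sum_congr rfl fun i _ => mul_comm _ _] at this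
    omega
  have hgT : g T = 1 := by
    have := hg T
    rw [hmT, hrT, hrT, hrT] at this
    omega
  set S := (univ.erase T).filter fun i => g i ≠ 0 with hS
  have hS2 : ∑ i ∈ S, g i * g i = 2 := by
    rw [← add_sum_erase _ _ (mem_univ T), hgT] at hgg
    rw [hS, sum_filter_of_ne (p := fun i => g i ≠ 0) fun i _ hne => left_ne_zero_of_mul hne]
    omega
  have hunit : ∀ i ∈ S, g i = 1 ∨ g i = -1 := by
    intro i hi
    have hle : g i * g i ≤ 2 :=
      hS2 ▸ single_le_sum (f := fun i => g i * g i) (fun _ _ => mul_self_nonneg _) hi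
    have hne : g i ≠ 0 := (mem_filter.mp hi).2
    have : g i ≤ 1 ∧ -1 ≤ g i := ⟨by nlinarith, by nlinarith⟩
    omega
  have hcard : #S = 2 := by
    have h : ∑ i ∈ S, g i * g i = ∑ _i ∈ S, (1 : ℤ) :=
      sum_congr rfl fun i hi => by rcases hunit i hi with e | e <;> simp [e]
    rw [hS2, sum_const, nsmul_eq_mul, mul_one] at h
    exact_mod_cast h.symm
  obtain ⟨A, B, hA, hB, hAB, hgA, hgB, hmA, hmB, hzero⟩ : ∃ A B, A ≠ T ∧ B ≠ T ∧ A ≠ B ∧
      (g A = 1 ∨ g A = -1) ∧ (g B = 1 ∨ g B = -1) ∧ g A = m A ∧ m B = 0 ∧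
      (∀ i, i ≠ T → i ≠ A → i ≠ B → g i = 0) := by
    obtain ⟨A, B, hAB, hSAB⟩ := card_eq_two.mp hcard
    have hAS : A ∈ S := by rw [hSAB]; simp
    have hBS : B ∈ S := by rw [hSAB]; simp
    have hA : A ≠ T := (mem_erase.mp (mem_filter.mp hAS).1).1
    have hB : B ≠ T := (mem_erase.mp (mem_filter.mp hBS).1).1
    have hzero : ∀ i, i ≠ T → i ≠ A → i ≠ B → g i = 0 := fun i h1 h2 h3 => by
      by_contra h0
      have : i ∈ S := mem_filter.mpr ⟨mem_erase.mpr ⟨h1, mem_univ i⟩, h0⟩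
      rw [hSAB] at this
      simp [h2, h3] at this
    have hd : ((∑ i, m i * g i : ℤ) : ℂ) = g T * (m T : ℂ) + g A * (m A : ℂ) + g B * (m B : ℂ) := by
      rw [← sum_eq_pair_add hA hB hAB hzero (fun i => (m i : ℂ)), Int.cast_sum]
      exact sum_congr rfl fun i _ => by push_cast; ring
    rw [hmg, hgT, hmT] at hd
    have hd' : (2 : ℤ) = 1 * 1 + g A * m A + g B * m B := by exact_mod_cast hd
    rcases hbound hmT hm A hA with a | a | a <;> rcases hbound hmT hm B hB with b | b | b <;>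
      rcases hunit A hAS with c | c <;> rcases hunit B hBS with e | e <;>
      rw [a, b, c, e] at hd' <;>
      first
        | omega
        | exact ⟨A, B, hA, hB, hAB, hunit A hAS, hunit B hBS, by omega, b, hzero⟩
        | exact ⟨B, A, hB, hA, hAB.symm, hunit B hBS, hunit A hAS, by omega, a,
            fun i h1 h2 h3 => hzero i h1 h3 h2⟩
  have hmA0 : m A ≠ 0 := by rcases hgA with e | e <;> omega
  have hsumg : ∀ F : ι → ℂ, ∑ i, (g i : ℂ) * F i = F T + g A * F A + g B * F B := fun F => by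
    rw [sum_eq_pair_add hA hB hAB hzero, hgT, Int.cast_one, one_mul]
  have hrA : ∀ l, r l A = 0 ∨ r l A = -m A := by
    intro l
    have hne : r l A ≠ m A := fun e => hnone (hexit l A hA hmA0 e)
    rcases hbound (hrT l) (by rw [hrr, if_pos rfl]) A hA with a | a | a <;>
      rcases hgA with c | c <;> omega
  have h2A := hg A
  have hr0A : r 0 A = -m A ∧ r 1 A = 0 ∧ r 2 A = 0 := by
    rcases hrA 0 with a | a <;> rcases hrA 1 with b | b <;> rcases hrA 2 with c | c <;> omega
  have hv : ∀ l (s : ℤ), ∑ i, r l i * g i = s → s = 1 + g A * r l A + g B * r l B := by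
    intro l s hs
    have hd : ((∑ i, r l i * g i : ℤ) : ℂ) = (r l T : ℂ) + g A * (r l A : ℂ) + g B * (r l B : ℂ) := by
      rw [← hsumg (fun i => (r l i : ℂ)), Int.cast_sum]
      exact sum_congr rfl fun i _ => by push_cast; ring
    rw [hs, hrT] at hd
    exact_mod_cast hd
  have hrB : r 0 B = 0 ∧ r 1 B = g B ∧ r 2 B = g B := by
    have e0 := hv 0 0 hrg.1
    have e1 := hv 1 2 hrg.2.1
    have e2 := hv 2 2 hrg.2.2
    rw [hr0A.1] at e0
    rw [hr0A.2.1] at e1
    rw [hr0A.2.2] at e2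
    rcases hgA with c | c <;> rcases hgB with e | e <;> rw [← hmA, c, e] at e0 <;>
      rw [e] at e1 e2 <;> rw [e] <;> omega
  have hlinF : ∀ F : ι → ℂ, ∑ i, (m i : ℂ) * F i = 0 → (∀ l, ∑ i, (r l i : ℂ) * F i = 0) →
      F T + g A * F A + g B * F B = 0 := by
    intro F h1 h2
    rw [← hsumg]
    have h3 : 2 * ∑ i, (g i : ℂ) * F i = ∑ i, (m i : ℂ) * F i + ∑ i, (r 1 i : ℂ) * F i +
        ∑ i, (r 2 i : ℂ) * F i - ∑ i, (r 0 i : ℂ) * F i := by
      rw [mul_sum, ← sum_add_distrib, ← sum_add_distrib, ← sum_sub_distrib]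
      refine sum_congr rfl fun i _ => ?_
      have := congrArg (fun k : ℤ => (k : ℂ)) (hg i)
      push_cast at this
      linear_combination F i * this
    rw [h1, h2, h2, h2] at h3
    linear_combination h3 / 2
  have e1 := hlinF d hmd hrd
  have ef := hlinF (fun i => p i ^ 2 / d i) hmf hrf
  have pA : p A = (m A : ℂ) * n 0 := by
    rw [hform A (Or.inl hmA0), hr0A.1, hr0A.2.1, hr0A.2.2]
    push_cast
    ring
  have pB : p B = (g B : ℂ) * (1 + n 0) := by
    rw [hform B (Or.inr ⟨1, by rw [hrB.2.1]; omega⟩), hrB.1, hrB.2.1, hrB.2.2]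
    have : ((n 0 : ℂ) + n 1 + n 2) = -1 := by exact_mod_cast hsum
    push_cast
    linear_combination (-(g B : ℂ)) * this
  refine hnone ⟨A, hA, ?_⟩
  have hxx : (m A : ℂ) * m A = 1 := by
    rw [← hmA]; rcases hgA with e | e <;> simp [e]
  have hww : (g B : ℂ) * g B = 1 := by rcases hgB with e | e <;> simp [e]
  rw [hdT, hmA] at e1
  rw [hdT, hpT, pA, pB, hmA] at ef
  have h0A := hd0 A
  have h0B := hd0 B
  rw [pA]
  generalize (m A : ℂ) = a at *
  generalize (g B : ℂ) = b at *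
  generalize d A = u at *
  generalize d B = v at *
  generalize (n 0 : ℂ) = k at *
  have hv' : v = -b * (1 + a * u) := by linear_combination b * e1 - v * hww
  subst hv'
  have hsq : (u - a * k) ^ 2 = 0 := by
    have h1 : 1 + a * u ≠ 0 := right_ne_zero_of_mul h0B
    field_simp at ef
    grobner
  exact (sub_eq_zero.mp (pow_eq_zero_iff two_ne_zero |>.mp hsq)).symm

end Cfsg.Agent.H25
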