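import Cfsg.Agent.H25.Q8Beta
import Cfsg.Agent.H25.Q8Vectors
import Cfsg.Agent.H25.BrauerSuzukiLarge

/-!
# The Brauer–Suzuki theorem: quaternion Sylow subgroup of order eight

If all elements of order four are conjugate, the involution lies in the kernel of a non-principal
irreducible character.
-/

set_option autoImplicit false
set_option linter.unusedSectionVars false

namespace Cfsg.Agent.H25

open Finset Cfsg.Agent.BlockBasic Cfsg.Agent.CharBasic Cfsg.Agent.CharInduce
open scoped ComplexConjugate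

universe u

variable {G : Type u} [Group G] [Fintype G]

theorem regPair_sub_right (φ ψ ψ' : G → ℂ) :
    regPair φ (fun g => ψ g - ψ' g) = regPair φ ψ - regPair φ ψ' := by
  classical
  rw [regPair_def, regPair_def, regPair_def, ← mul_sub, ← sum_sub_distrib]
  congr 1
  exact sum_congr rfl fun g _ => by rw [map_sub]; ring

theorem regPair_sub_left (φ φ' ψ : G → ℂ) :
    regPair (fun g => φ g - φ' g) ψ = regPair φ ψ - regPair φ' ψ := by
  rw [← conj_regPair, regPair_sub_right, map_sub, conj_regPair, conj_regPair]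

theorem regPair_comb {n : ℕ} (c0 : ℂ) (c : Fin n → ℂ) (V : Fin n → G → ℂ) {P : G → ℂ}
    (hP : ∀ o, ¬ 2 ∣ orderOf o → P o = c0 + ∑ l, c l * V l o) (f : G → ℂ) :
    regPair P f = c0 * regPair (fun _ => 1) f + ∑ l, c l * regPair (V l) f := by
  classical
  simp only [regPair_def, mul_sum]
  rw [sum_comm, ← sum_add_distrib]
  refine sum_congr rfl fun g hg => ?_
  rw [hP g (mem_filter.mp hg).2, add_mul, mul_add, sum_mul, mul_sum]
  exact congrArg₂ (· + ·) (by ring) (sum_congr rfl fun l _ => by ring)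

/-- Quaternion Sylow 2-subgroup of order eight with fused elements of order four: the involution
lies in the kernel of a non-principal irreducible character. -/
theorem exists_kernel_q8 {x y : G} (h : Q8Conf x y) :
    ∃ A : Cfsg.IrrCharacter G, (A : G → ℂ) ≠ (fun _ => 1) ∧
      (A : G → ℂ) (y ^ 2) = (A : G → ℂ) 1 := by
  classical
  have : Fact (Nat.Prime 2) := ⟨Nat.prime_two⟩
  obtain ⟨M, hM⟩ := exists_isPModular Nat.prime_two
  set z := y ^ 2 with hz
  set H := Subgroup.centralizer ({z} : Set G) with hH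
  haveI := Fintype.ofFinite H
  obtain ⟨x', y', h', hx', hy'⟩ := h.centralizer
  have hzH : ((y' ^ 2 : H) : G) = z := by rw [Subgroup.coe_pow, hy']
  have hcz : ∀ g : H, Commute z (g : G) := fun g =>
    (Subgroup.mem_centralizer_singleton_iff.mp g.2).symm
  have hc : ∀ g : H, Commute (y' ^ 2) g := fun g => Subtype.ext (by
    rw [Subgroup.coe_mul, Subgroup.coe_mul, hzH]; exact (hcz g).eq)
  obtain ⟨V, n, hVgen, hV1, hodd, hnsum, hVz, hV4, h11, hV1r, hVV, hexp⟩ := h'.exists_family hc hM
  obtain ⟨m, hm, hmy, hm0, hmsq, hmT⟩ := h.fourFun_coeff hM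
  let f : Fin 3 → H → ℂ := fun l o => 1 - V l o
  have hfgen : ∀ l, Cfsg.IsGeneralizedCharacter H (twoFun (f l)) := fun l =>
    h'.isGeneralized_twoFun hc
      (CharInduce.IsGen.sub (IsGen.of_char IsChar.one) (hVgen l))
      (fun g => by simp only [f, hVz]) (fun g hg => by simp only [f, hV4 l g hg, sub_self])
  let bG : Fin 3 → G → ℂ := fun l => Cfsg.indFun H (twoFun (f l))
  have hbgen : ∀ l, Cfsg.IsGeneralizedCharacter G (bG l) := fun l => IsGen.ind H (hfgen l)
  choose r hr hbexp using fun l => CharBasic.IsGen.exists_int_mult (hbgen l)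
  -- support
  have htwo : ∀ o : H, ¬ 2 ∣ orderOf o →
      2 ∣ orderOf (y' ^ 2 * o) ∧ ¬ 4 ∣ orderOf (y' ^ 2 * o) := fun o ho => by
    refine (h'.two_iff (hc _)).mpr ?_
    rwa [← mul_assoc, h'.z_sq, one_mul]
  have hpz : ∀ o : H, 2 ∣ orderOf o ∧ ¬ 4 ∣ orderOf o → pPart (p := 2) (o : G) = z := by
    intro o ho
    rw [← Subgroup.orderOf_coe] at ho
    have h1 := (h.two_iff (hcz o)).mp ho
    have h2 : (o : G) = z * (z * o) := by rw [← mul_assoc, h.z_sq, one_mul]
    rw [h2]
    exact pPart_mul_of ((Commute.refl z).mul_right (hcz o)) ⟨1, by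
      rw [pow_one]; exact h.orderOf_z⟩ h1
  have hsupp : ∀ l g, bG l g ≠ 0 → 2 ∣ orderOf g ∧ ¬ 4 ∣ orderOf g := by
    intro l g hg
    by_contra hne
    refine hg ?_
    simp only [bG, indFun_apply]
    rw [sum_eq_zero fun w _ => ?_, mul_zero]
    by_cases hw : w⁻¹ * g * w ∈ H
    · rw [extendByZero_of_mem _ hw, twoFun_of_not]
      rwa [Subgroup.orderOf_mk, orderOf_conj']
    · exact extendByZero_of_not_mem _ hw
  have hres : ∀ l (o : H), 2 ∣ orderOf o ∧ ¬ 4 ∣ orderOf o → bG l o = twoFun (f l) o := by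
    intro l o ho
    have hψ := CharBasic.IsGen.isClassFunction (hfgen l)
    have hterm : ∀ w : G, Cfsg.extendByZero H (twoFun (f l)) (w⁻¹ * o * w) =
        if w ∈ H then twoFun (f l) o else 0 := by
      intro w
      split_ifs with hw
      · have := extendByZero_conj hψ (H.inv_mem hw) (o : G)
        rwa [inv_inv, extendByZero_coe] at this
      · by_cases hwo : w⁻¹ * (o : G) * w ∈ H
        · rw [extendByZero_of_mem _ hwo]
          by_contra hne
          have h2 : 2 ∣ orderOf (⟨_, hwo⟩ : H) ∧ ¬ 4 ∣ orderOf (⟨_, hwo⟩ : H) := by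
            by_contra h3
            exact hne (twoFun_of_not h3)
          have h3 := hpz _ h2
          have h4 := pPart_conj (p := 2) (o : G) w⁻¹
          rw [inv_inv, hpz o ho, h3] at h4
          refine hw (Subgroup.mem_centralizer_singleton_iff.mpr ?_)
          calc w * z = w * (w⁻¹ * z * w) := by rw [← h4]
            _ = z * w := by group
        · exact extendByZero_of_not_mem _ hwo
    simp only [bG, indFun_apply, hterm]
    rw [← sum_filter, sum_const, nsmul_eq_mul, show #((univ : Finset G).filter fun w => w ∈ H) =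
      Nat.card H by rw [Nat.card_eq_fintype_card, Fintype.card_subtype],
      ← mul_assoc, inv_mul_cancel₀ (card_ne_zero_complex _), one_mul]
  -- inner products against `twoFun`
  have hpair : ∀ (l : Fin 3) (φ : H → ℂ), Cfsg.classInner (twoFun (f l)) φ =
      2 * regPair (f l) (fun o => φ (y' ^ 2 * o)) := by
    intro l φ
    rw [classInner_def, sum_split h'.z_sq (h'.hsplit_of_central hc), regPair_def,
      sum_eq_zero (s := (univ : Finset H).filter fun o => ¬ 2 ∣ orderOf o) fun o ho => by
        rw [twoFun_of_not fun e => (mem_filter.mp ho).2 e.1, zero_mul],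
      sum_eq_zero (s := (univ : Finset H).filter fun o => 4 ∣ orderOf o) fun o ho => by
        rw [twoFun_of_not fun e => e.2 (mem_filter.mp ho).2, zero_mul],
      zero_add, add_zero, mul_left_comm (2 : ℂ), mul_sum (a := (2 : ℂ))]
    congr 1
    refine sum_congr rfl fun o ho => ?_
    rw [twoFun_of_two (htwo o (mem_filter.mp ho).2)]
    simp only [f, hVz]
    ring
  have hbchi : ∀ l (χ : G → ℂ), Cfsg.IsClassFunction G χ →
      Cfsg.classInner (bG l) χ = 2 * regPair (f l) (fun o : H => χ (z * (o : G))) := by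
    intro l χ hχ
    rw [classInner_indFun_left H _ _ hχ, hpair]
    simp only [Subgroup.coe_mul, hzH]
  have h1f : ∀ l, regPair (fun _ : H => (1 : ℂ)) (f l) = 1 / 2 := fun l => by
    rw [regPair_sub_right, h11, ← conj_regPair, hV1r]
    simp only [map_div₀, map_neg, map_one, map_ofNat]
    norm_num
  have hVf : ∀ k l, regPair (V k) (f l) = if k = l then -(1 / 2) else 0 := fun k l => by
    rw [regPair_sub_right, hV1r, hVV]
    split_ifs <;> norm_num
  let B := principalBlock M G
  let c0 : IrrCharacter G → ℂ := fun χ => 2 * regPair (fun o : H => (χ : G → ℂ) (z * (o : G)))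
    (fun _ => 1)
  let c : IrrCharacter G → Fin 3 → ℂ := fun χ l =>
    2 * regPair (fun o : H => (χ : G → ℂ) (z * (o : G))) (V l)
  have hrc : ∀ l χ, (r l χ : ℂ) = c0 χ - c χ l := by
    intro l χ
    have h1 : (r l χ : ℂ) = 2 * regPair (f l) (fun o : H => (χ : G → ℂ) (z * (o : G))) :=
      (hr l χ).symm.trans (hbchi l _ (IsIrr.isClassFunction χ.2))
    have h2 := congrArg conj h1
    rw [map_intCast, map_mul, conj_regPair, map_ofNat, regPair_sub_right] at h2
    simp only [c0, c]
    rw [h2, mul_sub]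
  have hθ : ∀ χ : IrrCharacter G,
      Cfsg.IsClassFunction H (fun o : H => (χ : G → ℂ) (z * (o : G))) := fun χ a b => by
    show (χ : G → ℂ) (z * ((b * a * b⁻¹ : H) : G)) = _
    rw [show z * ((b * a * b⁻¹ : H) : G) = (b : G) * (z * a) * (b : G)⁻¹ by
      push_cast; rw [← mul_assoc (b : G) z, ← (hcz b).eq]; group]
    exact IsIrr.isClassFunction χ.2 _ _
  have horder : orderOf z = 2 ^ 1 := by rw [pow_one]; exact h.orderOf_z
  have hout : ∀ χ : IrrCharacter G, χ ∉ B → ∀ l, r l χ = 0 := by
    intro χ hχ l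
    have hP : ∀ o : H, ¬ 2 ∣ orderOf o → (0 : ℂ) = c0 χ + ∑ l, c χ l * V l o := by
      intro o ho
      rw [← Cores.second_main hM horder (isPBlock_blockOf M χ) (self_mem_blockOf hM χ)
        (isPBlock_principalBlock M) (fun hi => hχ ?_) o ho]
      · exact hexp (fun o : H => (χ : G → ℂ) (z * (o : G))) o ho
      · have := (Cores.third_main hM hi).mpr rfl
        show χ ∈ principalBlock M G
        rw [← this]
        exact self_mem_blockOf hM χ
    have h0 := regPair_comb (c0 χ) (c χ) V hP (f l)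
    rw [h1f, Fin.sum_univ_three, hVf, hVf, hVf] at h0
    have hz0 : regPair (fun _ : H => (0 : ℂ)) (f l) = 0 := by simp [regPair_def]
    rw [hz0] at h0
    have h1 : (r l χ : ℂ) = 0 := by
      rw [hrc]
      fin_cases l <;> simp at h0 ⊢ <;> linear_combination (-2 : ℂ) * h0
    exact_mod_cast h1
  have hin : ∀ χ : IrrCharacter G, χ ∈ B → (χ : G → ℂ) z =
      -((n 0 : ℂ) * r 0 χ + (n 1 : ℂ) * r 1 χ + (n 2 : ℂ) * r 2 χ) := by
    intro χ hχ
    have h1 : ¬ 2 ∣ orderOf (1 : H) := by rw [orderOf_one]; norm_num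
    have h2 : (χ : G → ℂ) z =
        blockPart (principalBlock M H) (fun o : H => (χ : G → ℂ) (z * (o : G))) 1 := by
      conv_lhs => rw [show (χ : G → ℂ) z = (fun o : H => (χ : G → ℂ) (z * (o : G))) 1 by simp,
        classFunction_expansion (hθ χ)]
      simp only [Finset.sum_apply, Pi.smul_apply, smul_eq_mul]
      rw [blockPart, finsum_mem_eq_sum_ite, Subsingleton.elim (Fintype.ofFinite H) ‹Fintype H›,
        ← sum_filter]
      refine Cores.sum_eq_sum_of_block hM (isPBlock_principalBlock M) _ fun b hb hne => ?_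
      have h3 := Cores.second_main hM horder (isPBlock_principalBlock M) hχ (b := b) hb
        (fun hi => hne ((Cores.third_main hM hi).1 rfl)) (1 : H) h1
      rw [blockPart, finsum_mem_eq_sum_ite, Subsingleton.elim (Fintype.ofFinite H) ‹Fintype H›,
        ← sum_filter] at h3
      exact h3
    rw [h2, hexp _ _ h1]
    simp only [hV1, Fin.sum_univ_three]
    have hs : (n 0 : ℂ) + n 1 + n 2 = -1 := by exact_mod_cast hnsum
    have e0 := hrc 0 χ
    have e1 := hrc 1 χ
    have e2 := hrc 2 χ
    simp only [c0, c] at e0 e1 e2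
    rw [e0, e1, e2]
    linear_combination (2 * regPair (fun o : H => (χ : G → ℂ) (z * (o : G))) (fun _ => 1)) * hs
  have hclass4 := CharBasic.IsGen.isClassFunction h.isGeneralized_fourFun.1
  have hclassb : ∀ l, Cfsg.IsClassFunction G (bG l) := fun l => isClassFunction_indFun H _
  have hmr : ∀ l, ∑ χ : IrrCharacter G, m χ * r l χ = 0 := by
    intro l
    have h1 := classInner_eq_sum (ψ := bG l) hclass4
    simp only [hm, hr, map_intCast] at h1
    have h2 : Cfsg.classInner (fourFun G) (bG l) = 0 := by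
      rw [classInner_def, sum_eq_zero fun g _ => ?_, mul_zero]
      by_cases hg : bG l g = 0
      · simp [hg]
      · rw [fourFun_of_not (hsupp l g hg).2, zero_mul]
    rw [h2] at h1
    exact_mod_cast h1.symm
  have hrr : ∀ l k, ∑ χ : IrrCharacter G, r l χ * r k χ = if l = k then 4 else 2 := by
    intro l k
    have h1 := classInner_eq_sum (ψ := bG k) (hclassb l)
    simp only [hr, map_intCast] at h1
    have h2 : Cfsg.classInner (bG l) (bG k) = if l = k then 4 else 2 := by
      rw [classInner_indFun_left H _ _ (hclassb k), hpair]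
      have h3 : regPair (f l) (fun o : H => bG k ((y' ^ 2 * o : H) : G)) =
          2 * regPair (f l) (f k) := by
        rw [regPair_def, regPair_def, mul_left_comm (2 : ℂ), mul_sum (a := (2 : ℂ))]
        congr 1
        refine sum_congr rfl fun o ho => ?_
        rw [hres k _ (htwo o (mem_filter.mp ho).2), twoFun_of_two (htwo o (mem_filter.mp ho).2),
          map_mul, map_ofNat]
        simp only [f, hVz]
        ring
      rw [h3, regPair_sub_left, h1f, hVf]
      split_ifs <;> norm_num
    rw [h2] at h1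
    split_ifs at h1 ⊢ <;> exact_mod_cast h1.symm
  have hrT : ∀ l, r l trivialIrr = 1 := by
    intro l
    have h1 := (hr l trivialIrr).symm.trans (hbchi l _ (IsIrr.isClassFunction trivialIrr.2))
    have h2 : (fun o : H => (trivialIrr : IrrCharacter G).1 (z * (o : G))) = fun _ => 1 := rfl
    rw [h2, regPair_sub_left, h11, hV1r] at h1
    norm_num at h1
    exact_mod_cast h1
  have hzero : ∀ (θ : G → ℂ) (w : IrrCharacter G → ℤ),
      θ = ∑ χ : IrrCharacter G, (w χ : ℂ) • (χ : G → ℂ) → θ 1 = 0 →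
      ∑ χ : IrrCharacter G, (w χ : ℂ) * (χ : G → ℂ) 1 = 0 := by
    intro θ w hw h1
    rw [hw] at h1
    simpa using h1
  have hprod : ∀ g : G, 2 ∣ orderOf g → ∀ a : G, IsConj z a → ¬ IsConj z (a⁻¹ * g) := by
    intro g hg a ha hb
    have key : ∀ b : G, IsConj z b → b * b = 1 ∧ b ≠ 1 := by
      intro b hzb
      obtain ⟨w, rfl⟩ := isConj_iff.mp hzb
      refine ⟨?_, fun e => h.z_ne_one (conj_eq_one_iff.mp e)⟩
      rw [show w * z * w⁻¹ * (w * z * w⁻¹) = w * (z * z) * w⁻¹ by group, h.z_sq]
      group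
    refine h.odd_mul (key a ha).1 (key a ha).2 (key _ hb).1 (key _ hb).2 ?_
    rwa [mul_inv_cancel_left]
  have h4one : ¬ 4 ∣ orderOf (1 : G) := by rw [orderOf_one]; norm_num
  have hb1 : ∀ l, bG l 1 = 0 := fun l => by
    by_contra e
    have := (hsupp l 1 e).1
    simp [orderOf_one] at this
  have hmf := sum_coeff_sq_eq_zero z (fourFun G) m hm (fun g hg => hprod g (by
    by_contra h2
    exact hg (fourFun_of_not fun h4 => h2 (dvd_trans (by norm_num) h4)))) h.z_sq
  have hrf := fun l => sum_coeff_sq_eq_zero z (bG l) (r l) (hr l)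
    (fun g hg => hprod g (hsupp l g hg).1) h.z_sq
  have hfour_exp : fourFun G = ∑ χ : IrrCharacter G, (m χ : ℂ) • (χ : G → ℂ) := by
    conv_lhs => rw [classFunction_expansion hclass4]
    simp only [hm]
  refine (exists_kernel_vectors trivialIrr m r n
    (fun χ : IrrCharacter G => (χ : G → ℂ) 1) (fun χ : IrrCharacter G => (χ : G → ℂ) z)
    hmsq hmr hrr hmT hrT rfl rfl (fun χ => IsIrr.one_ne_zero χ.2) (fun χ hχ => ?_)
    (hzero _ m hfour_exp (fourFun_of_not h4one)) (fun l => hzero _ (r l) (hbexp l) (hb1 l))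
    hmf hrf (fun χ hχ => ?_) hnsum (fun χ => ?_)).elim
      fun A hA => ⟨A, fun e => hA.1 (Subtype.ext e), hA.2⟩
  · obtain ⟨d, -, hd⟩ := IsIrr.exists_degree χ.2
    simp only [hd] at hχ ⊢
    have hd1 : d * d = 1 := by exact_mod_cast hχ
    obtain rfl : d = 1 := Nat.eq_one_of_mul_eq_one_right hd1
    obtain ⟨L, hL⟩ := IsChar.exists_hom_of_degree_one (IsIrr.isCharacter χ.2) (by simpa using hd)
    have hL2 : L y * L y = 1 := by
      have h1 := congrArg L h.conj_y
      rw [map_mul, map_mul, map_inv, map_inv, mul_inv_cancel_comm] at h1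
      exact mul_eq_one_iff_eq_inv.mpr h1
    rw [hL, hz, map_pow, sq, hL2]
    simp
  · refine hin χ ?_
    by_contra hB
    rcases hχ with e | ⟨l, e⟩
    · exact e (hm0 χ hB)
    · exact e (hout χ hB l)
  · by_cases hB : χ ∈ B
    swap
    · simp [hm0 χ hB, hout χ hB]
    obtain ⟨p, hp, hpm⟩ := h.parity (IsIrr.isCharacter χ.2) (hmy χ hB)
    have hpe : (p : ℂ) = ((-(n 0 * r 0 χ + n 1 * r 1 χ + n 2 * r 2 χ) : ℤ) : ℂ) := by
      rw [← hp, hin χ hB]; push_cast; ring
    have hpe' : p = -(n 0 * r 0 χ + n 1 * r 1 χ + n 2 * r 2 χ) := by exact_mod_cast hpe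
    have key : ∀ a b : ℤ, ¬ 2 ∣ a → 2 ∣ a * b - b := fun a b ha => by
      obtain ⟨q, hq⟩ : ∃ q, a = 2 * q + 1 := ⟨a / 2, by omega⟩
      exact ⟨q * b, by rw [hq]; ring⟩
    have k0 := key _ (r 0 χ) (hodd 0)
    have k1 := key _ (r 1 χ) (hodd 1)
    have k2 := key _ (r 2 χ) (hodd 2)
    omega

end Cfsg.Agent.H25
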