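import Cfsg.Agent.H25.ExcSetup
import Cfsg.Agent.H83.PrincipalPair

/-!
# Linear characters of the Sylow subgroup, their orbits, and the Gram formula
-/

open scoped ComplexConjugate

namespace Cfsg.Agent.H25.Exc

open BlockBasic CharBasic Finset

universe u

variable {G : Type u} [Group G] [Finite G] {p : ℕ} [Fact p.Prime] {M : Ideal AlgInt} {P : Sylow p G}

/-- A homomorphism to `ℂˣ` as an irreducible character. -/
noncomputable def linChar (a : (P : Subgroup G) →* ℂˣ) : IrrCharacter (P : Subgroup G) :=
  ⟨fun u => (a u : ℂ), by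
    cases nonempty_fintype (P : Subgroup G)
    exact CharInduce.isIrrCharacter_hom a⟩

omit [Finite G] [Fact p.Prime] in
theorem hom_ext_coe {a b : (P : Subgroup G) →* ℂˣ} (h : ∀ u, (a u : ℂ) = b u) : a = b :=
  MonoidHom.ext fun u => Units.ext (h u)

omit [Fact p.Prime] in
theorem linChar_injective : Function.Injective (linChar (P := P)) := fun _ _ h =>
  hom_ext_coe fun u => congrArg (fun χ : IrrCharacter (P : Subgroup G) => (χ : _ → ℂ) u) h

instance finite_dual : Finite ((P : Subgroup G) →* ℂˣ) :=
  have : Finite (IrrCharacter (P : Subgroup G)) := Finite.of_fintype _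
  Finite.of_injective _ linChar_injective

omit [Fact p.Prime] in
theorem Hyp.card_dual (h : Hyp P) :
    Nat.card ((P : Subgroup G) →* ℂˣ) = Nat.card (P : Subgroup G) := by
  have := h.comm
  let _ : CommGroup (P : Subgroup G) :=
    { (inferInstance : Group (P : Subgroup G)) with mul_comm := fun a b => mul_comm' a b }
  exact CommGroup.card_monoidHom_of_hasEnoughRootsOfUnity _ ℂ

theorem Hyp.linChar_bijective (h : Hyp P) : Function.Bijective (linChar (P := P)) := by
  refine linChar_injective.bijective_of_nat_card_le ?_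
  rw [h.card_dual, card_irrCharacter]
  have := h.comm
  exact (Nat.card_le_card_of_surjective _ ConjClasses.mk_surjective).trans_eq rfl

/-- The normalizer acting on `P`. -/
noncomputable def nc (n : Subgroup.normalizer ((P : Subgroup G) : Set G)) :
    (P : Subgroup G) ≃* (P : Subgroup G) :=
  H83.conjSubEquiv (n : G) _ _ (Subgroup.mem_normalizer_iff.mp n.2)

omit [Finite G] [Fact p.Prime] in
theorem coe_nc (n : Subgroup.normalizer ((P : Subgroup G) : Set G)) (u : (P : Subgroup G)) :
    ((nc n u : (P : Subgroup G)) : G) = n * u * (n : G)⁻¹ := rfl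

/-- The normalizer acting on linear characters. -/
noncomputable def act (n : Subgroup.normalizer ((P : Subgroup G) : Set G))
    (a : (P : Subgroup G) →* ℂˣ) : (P : Subgroup G) →* ℂˣ :=
  a.comp (nc n).symm.toMonoidHom

omit [Finite G] [Fact p.Prime] in
theorem act_apply_nc (n : Subgroup.normalizer ((P : Subgroup G) : Set G))
    (a : (P : Subgroup G) →* ℂˣ) (u : (P : Subgroup G)) : act n a (nc n u) = a u := by
  simp [act]

theorem act_mul (n k : Subgroup.normalizer ((P : Subgroup G) : Set G))
    (a : (P : Subgroup G) →* ℂˣ) : act (n * k) a = act n (act k a) := by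
  refine MonoidHom.ext fun u => ?_
  obtain ⟨v, rfl⟩ := (nc (n * k)).surjective u
  rw [act_apply_nc,
    show nc (n * k) v = nc n (nc k v) from Subtype.ext (by simp [coe_nc, mul_assoc]),
    act_apply_nc, act_apply_nc]

theorem act_one (a : (P : Subgroup G) →* ℂˣ) : act 1 a = a := by
  refine MonoidHom.ext fun u => ?_
  conv_lhs => rw [show u = nc (1 : Subgroup.normalizer ((P : Subgroup G) : Set G)) u from
    Subtype.ext (by simp [coe_nc])]
  exact act_apply_nc 1 a u

omit [Finite G] [Fact p.Prime] in
theorem act_trivial (n : Subgroup.normalizer ((P : Subgroup G) : Set G)) :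
    act n (1 : (P : Subgroup G) →* ℂˣ) = 1 := rfl

/-- Conjugacy of linear characters under the normalizer. -/
def Rel (a b : (P : Subgroup G) →* ℂˣ) : Prop :=
  ∃ n : G, n ∈ Subgroup.normalizer ((P : Subgroup G) : Set G) ∧
    ∀ w w' : (P : Subgroup G), (w' : G) = n * w * n⁻¹ → b w' = a w

theorem rel_iff {a b : (P : Subgroup G) →* ℂˣ} : Rel a b ↔ ∃ n, act n a = b := by
  constructor
  · rintro ⟨n, hn, hab⟩
    refine ⟨⟨n, hn⟩, MonoidHom.ext fun u => ?_⟩
    obtain ⟨v, rfl⟩ := (nc (⟨n, hn⟩ : Subgroup.normalizer ((P : Subgroup G) : Set G))).surjective u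
    rw [act_apply_nc, hab v _ rfl]
  · rintro ⟨n, rfl⟩
    refine ⟨n, n.2, fun w w' hw => ?_⟩
    rw [show w' = nc n w from Subtype.ext hw, act_apply_nc]

theorem rel_refl (a : (P : Subgroup G) →* ℂˣ) : Rel a a := rel_iff.2 ⟨1, act_one a⟩

theorem rel_symm {a b : (P : Subgroup G) →* ℂˣ} (h : Rel a b) : Rel b a := by
  obtain ⟨n, rfl⟩ := rel_iff.1 h
  exact rel_iff.2 ⟨n⁻¹, by rw [← act_mul, inv_mul_cancel, act_one]⟩

theorem rel_trans {a b c : (P : Subgroup G) →* ℂˣ} (h : Rel a b) (h' : Rel b c) : Rel a c := by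
  obtain ⟨n, rfl⟩ := rel_iff.1 h
  obtain ⟨k, rfl⟩ := rel_iff.1 h'
  exact rel_iff.2 ⟨k * n, act_mul k n a⟩

theorem rel_ne_one {a b : (P : Subgroup G) →* ℂˣ} (h : Rel a b) (ha : a ≠ 1) : b ≠ 1 := by
  rintro rfl
  obtain ⟨n, hn⟩ := rel_iff.1 (rel_symm h)
  exact ha (hn.symm.trans (act_trivial n))

/-- Only the centralizer fixes a nontrivial linear character. -/
theorem Hyp.act_eq_self (h : Hyp P) {a : (P : Subgroup G) →* ℂˣ} (ha : a ≠ 1)
    {n : Subgroup.normalizer ((P : Subgroup G) : Set G)} :
    act n a = a ↔ (n : G) ∈ Subgroup.centralizer ((P : Subgroup G) : Set G) := by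
  constructor
  · intro hn
    by_contra hC
    have hinj : Function.Injective fun w : (P : Subgroup G) => nc n w * w⁻¹ := by
      intro w v hwv
      dsimp only at hwv
      have hcomm : ∀ r s : (P : Subgroup G), r * s = s * r := fun r s => h.comm.is_comm.comm r s
      have hfix : nc n (v⁻¹ * w) = v⁻¹ * w := by
        rw [map_mul, map_inv]
        calc (nc n v)⁻¹ * nc n w = (nc n v)⁻¹ * (nc n w * w⁻¹ * w) := by rw [inv_mul_cancel_right]
          _ = (nc n v)⁻¹ * (nc n v * v⁻¹ * w) := by rw [hwv]
          _ = v⁻¹ * w := by group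
      by_contra hne
      refine hC ?_
      rw [← h.free ((v⁻¹ * w : (P : Subgroup G)) : G) (v⁻¹ * w).2 fun h1 => hne ?_]
      · refine ⟨Subgroup.mem_centralizer_singleton_iff.2 (mul_inv_eq_iff_eq_mul.1 ?_), n.2⟩
        rw [← coe_nc, hfix]
      · exact (inv_mul_eq_one.1 (Subtype.ext h1 : v⁻¹ * w = 1)).symm
    refine ha (MonoidHom.ext fun u => ?_)
    obtain ⟨w, rfl⟩ := (Finite.surjective_of_injective hinj) u
    show a (nc n w * w⁻¹) = 1
    rw [map_mul, map_inv, mul_inv_eq_one]
    conv_lhs => rw [← hn]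
    exact act_apply_nc n a w
  · intro hn
    refine MonoidHom.ext fun u => ?_
    conv_lhs => rw [show u = nc n u from Subtype.ext (by
      rw [coe_nc, ← Subgroup.mem_centralizer_iff.1 hn u u.2, mul_inv_cancel_right])]
    exact act_apply_nc n a u

open scoped Classical in
/-- The number of normalizer elements carrying `a` to `b`. -/
theorem Hyp.card_act (h : Hyp P) {a : (P : Subgroup G) →* ℂˣ} (ha : a ≠ 1)
    (b : (P : Subgroup G) →* ℂˣ) :
    Nat.card {n // act n a = b} =
      if Rel a b then Nat.card (Subgroup.centralizer ((P : Subgroup G) : Set G)) else 0 := by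
  split_ifs with hab
  · obtain ⟨k, rfl⟩ := rel_iff.1 hab
    have hCN : Subgroup.centralizer ((P : Subgroup G) : Set G) ≤
        Subgroup.normalizer ((P : Subgroup G) : Set G) := Subgroup.centralizer_le_normalizer _
    refine Nat.card_congr
      { toFun := fun n => ⟨((k⁻¹ * n.1 : Subgroup.normalizer ((P : Subgroup G) : Set G)) : G),
          (h.act_eq_self ha).1 (by rw [act_mul, n.2, ← act_mul, inv_mul_cancel, act_one])⟩
        invFun := fun c => ⟨k * ⟨c, hCN c.2⟩, by rw [act_mul, (h.act_eq_self ha).2 c.2]⟩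
        left_inv := fun n => Subtype.ext (Subtype.ext (by simp))
        right_inv := fun c => Subtype.ext (by simp) }
  · have : IsEmpty {n // act n a = b} := ⟨fun n => hab (rel_iff.2 ⟨n.1, n.2⟩)⟩
    exact Nat.card_of_isEmpty

open scoped Classical in
/-- Orbits of nontrivial linear characters have the size of the automizer. -/
theorem Hyp.card_orbit (h : Hyp P) {a : (P : Subgroup G) →* ℂˣ} (ha : a ≠ 1) :
    Nat.card {b // Rel a b} = (Subgroup.centralizer ((P : Subgroup G) : Set G)).relIndex
      (Subgroup.normalizer ((P : Subgroup G) : Set G)) := by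
  cases nonempty_fintype (Subgroup.normalizer ((P : Subgroup G) : Set G))
  cases nonempty_fintype ((P : Subgroup G) →* ℂˣ)
  have h1 : Fintype.card (Subgroup.normalizer ((P : Subgroup G) : Set G)) =
      (univ.filter fun b => Rel a b).card *
        Nat.card (Subgroup.centralizer ((P : Subgroup G) : Set G)) := by
    rw [← card_univ, card_eq_sum_card_fiberwise (f := fun n => act n a) (t := univ)
      (fun n _ => mem_univ _)]
    simp only [← Fintype.card_subtype, ← Nat.card_eq_fintype_card, h.card_act ha]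
    rw [← sum_filter, sum_const, smul_eq_mul]
    congr 1
    rw [Nat.card_eq_fintype_card, Fintype.card_subtype]
  have h2 := Subgroup.card_mul_index ((Subgroup.centralizer ((P : Subgroup G) : Set G)).subgroupOf
    (Subgroup.normalizer ((P : Subgroup G) : Set G)))
  rw [Nat.card_congr (Subgroup.subgroupOfEquivOfLe
      (Subgroup.centralizer_le_normalizer ((P : Subgroup G) : Set G))).toEquiv,
    Nat.card_eq_fintype_card (α := Subgroup.normalizer ((P : Subgroup G) : Set G)), h1,
    mul_comm] at h2
  rw [Nat.card_eq_fintype_card, Fintype.card_subtype]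
  exact (Nat.eq_of_mul_eq_mul_right Nat.card_pos h2).symm

/-- The multiplicity of a linear character in a restriction. -/
noncomputable def mult (χ : IrrCharacter G) (a : (P : Subgroup G) →* ℂˣ) : ℂ :=
  have := Fintype.ofFinite (P : Subgroup G)
  classInner (fun u : (P : Subgroup G) => (χ : G → ℂ) u) (linChar a : _ → ℂ)

omit [Fact p.Prime] in
theorem mult_eq [Fintype (P : Subgroup G)] (χ : IrrCharacter G) (a : (P : Subgroup G) →* ℂˣ) :
    mult χ a = classInner (fun u : (P : Subgroup G) => (χ : G → ℂ) u) (linChar a : _ → ℂ) := by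
  unfold mult
  congr!

theorem exists_nat_mult (χ : IrrCharacter G) (a : (P : Subgroup G) →* ℂˣ) :
    ∃ k : ℕ, mult χ a = k := by
  cases nonempty_fintype (P : Subgroup G)
  cases nonempty_fintype G
  rw [mult_eq]
  exact classInner_isChar_nat (CharInduce.IsChar.res (IsIrr.isCharacter χ.2) _)
    (IsIrr.isCharacter (linChar a).2)

theorem mult_act (χ : IrrCharacter G) (a : (P : Subgroup G) →* ℂˣ)
    (n : Subgroup.normalizer ((P : Subgroup G) : Set G)) : mult χ (act n a) = mult χ a := by
  cases nonempty_fintype (P : Subgroup G)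
  simp only [mult_eq, classInner_def]
  congr 1
  refine (Fintype.sum_equiv (nc n).toEquiv _ _ fun u => ?_).symm
  simp only [MulEquiv.toEquiv_eq_coe, MulEquiv.coe_toEquiv, coe_nc, linChar, act_apply_nc,
    IsIrr.isClassFunction χ.2 (u : G) (n : G)]

theorem mult_congr (χ : IrrCharacter G) {a b : (P : Subgroup G) →* ℂˣ} (h : Rel a b) :
    mult χ b = mult χ a := by
  obtain ⟨n, rfl⟩ := rel_iff.1 h
  exact mult_act χ a n

/-- The restriction to `P` is the sum of the linear characters with multiplicities. -/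
theorem Hyp.expansion (h : Hyp P) [Fintype ((P : Subgroup G) →* ℂˣ)] (χ : IrrCharacter G)
    (y : (P : Subgroup G)) : (χ : G → ℂ) y = ∑ a : (P : Subgroup G) →* ℂˣ, mult χ a * (a y : ℂ) := by
  cases nonempty_fintype (P : Subgroup G)
  have hfc : IsClassFunction (P : Subgroup G) fun u : (P : Subgroup G) => (χ : G → ℂ) u :=
    fun a b => IsIrr.isClassFunction χ.2 (a : G) (b : G)
  have h1 := congrFun (classFunction_expansion hfc) y
  simp only [Finset.sum_apply, Pi.smul_apply, smul_eq_mul] at h1
  rw [h1]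
  exact (Fintype.sum_equiv (Equiv.ofBijective _ h.linChar_bijective) _ _ fun a => by
    rw [mult_eq]; rfl).symm

/-- The weight of a pair of linear characters in the Gram formula. -/
noncomputable def wt (c a : (P : Subgroup G) →* ℂˣ) : ℂ :=
  (Nat.card (Subgroup.centralizer ((P : Subgroup G) : Set G)) : ℂ)⁻¹ *
    (Nat.card {n // act n c = a} : ℂ)

theorem Hyp.wt_of_ne (h : Hyp P) {c : (P : Subgroup G) →* ℂˣ} (hc : c ≠ 1)
    (a : (P : Subgroup G) →* ℂˣ) :
    wt c a = open scoped Classical in if Rel c a then 1 else 0 := by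
  classical
  unfold wt
  rw [h.card_act hc]
  split_ifs
  · exact inv_mul_cancel₀ (Nat.cast_ne_zero.2 Nat.card_pos.ne')
  · simp

theorem wt_one (a : (P : Subgroup G) →* ℂˣ) :
    wt 1 a = open scoped Classical in if a = 1 then
      ((Subgroup.centralizer ((P : Subgroup G) : Set G)).relIndex
        (Subgroup.normalizer ((P : Subgroup G) : Set G)) : ℂ) else 0 := by
  classical
  unfold wt
  split_ifs with ha
  · subst ha
    rw [Nat.card_congr (Equiv.subtypeUnivEquiv fun n => act_trivial n),
      inv_mul_eq_iff_eq_mul₀ (Nat.cast_ne_zero.2 Nat.card_pos.ne')]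
    rw [← Subgroup.card_mul_index ((Subgroup.centralizer ((P : Subgroup G) : Set G)).subgroupOf
      (Subgroup.normalizer ((P : Subgroup G) : Set G))), Nat.card_congr (Subgroup.subgroupOfEquivOfLe
      (Subgroup.centralizer_le_normalizer ((P : Subgroup G) : Set G))).toEquiv, Nat.cast_mul]
    rfl
  · have : IsEmpty {n // act (P := P) n 1 = a} := ⟨fun n => ha (n.2.symm.trans (act_trivial n.1))⟩
    rw [Nat.card_of_isEmpty (α := {n // act (P := P) n 1 = a})]
    simp

open scoped Classical in
/-- The Gram formula. -/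
theorem Hyp.gram (h : Hyp P) (hM : IsPModular p M) (a b c d : (P : Subgroup G) →* ℂˣ) :
    ∑ᶠ χ ∈ principalBlock M G, (mult χ a - mult χ b) * conj (mult χ c - mult χ d) =
      wt c a - wt c b - wt d a + wt d b := by
  cases nonempty_fintype G
  cases nonempty_fintype (P : Subgroup G)
  set N := Subgroup.normalizer ((P : Subgroup G) : Set G)
  let _ : Fintype N := Fintype.ofFinite N
  have hq : (Nat.card (P : Subgroup G) : ℂ) ≠ 0 := Nat.cast_ne_zero.2 Nat.card_pos.ne'
  have hC0 : (Nat.card (Subgroup.centralizer ((P : Subgroup G) : Set G)) : ℂ) ≠ 0 :=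
    Nat.cast_ne_zero.2 Nat.card_pos.ne'
  set f : ↥(P : Subgroup G) → ℂ := fun u => (a u : ℂ) - b u with hf
  set g : ↥(P : Subgroup G) → ℂ := fun u => (c u : ℂ) - d u with hg
  have hd : ∀ (χ : IrrCharacter G) (r s : (P : Subgroup G) →* ℂˣ), mult χ r - mult χ s =
      (Nat.card (P : Subgroup G) : ℂ)⁻¹ * ∑ u : (P : Subgroup G),
        (χ : G → ℂ) u * conj ((r u : ℂ) - s u) := fun χ r s => by
    rw [mult_eq, mult_eq, classInner_def, classInner_def, ← mul_sub, ← sum_sub_distrib]
    congr 1
    exact sum_congr rfl fun u _ => by simp [linChar, mul_sub]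
  -- the inner sum over a fusion class
  have horb : ∀ u : (P : Subgroup G), (u : G) ≠ 1 →
      ∑ v : (P : Subgroup G), (if IsConj (u : G) (v : G) then g v else 0) =
        (Nat.card (Subgroup.centralizer ((P : Subgroup G) : Set G)) : ℂ)⁻¹ *
          ∑ n : N, g (nc n u) := by
    intro u hu
    rw [eq_inv_mul_iff_mul_eq₀ hC0, mul_sum,
      ← sum_fiberwise_of_maps_to (g := fun n => nc n u) (t := univ) (fun n _ => mem_univ _)]
    refine sum_congr rfl fun v _ => ?_
    rw [sum_congr rfl (fun n hn => by rw [(mem_filter.1 hn).2]), sum_const, nsmul_eq_mul]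
    split_ifs with huv
    · obtain ⟨k, hk, hkv⟩ := h.fusion u.2 v.2 huv
      congr 2
      rw [← Fintype.card_subtype, ← Nat.card_eq_fintype_card]
      refine Nat.card_congr
        { toFun := fun c => ⟨⟨k * c, N.mul_mem hk (Subgroup.centralizer_le_normalizer _ c.2)⟩,
            Subtype.ext ?_⟩
          invFun := fun n => ⟨k⁻¹ * (n.1 : G), ?_⟩
          left_inv := fun c => Subtype.ext (by simp)
          right_inv := fun n => Subtype.ext (Subtype.ext (by simp)) }
      · rw [coe_nc, show (k * (c : G)) * u * (k * (c : G))⁻¹ = k * ((c : G) * u * (c : G)⁻¹) * k⁻¹ by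
          group, ← Subgroup.mem_centralizer_iff.1 c.2 u u.2, mul_inv_cancel_right, hkv]
      · rw [← h.free (u : G) u.2 hu]
        refine ⟨Subgroup.mem_centralizer_singleton_iff.2 (mul_inv_eq_iff_eq_mul.1 ?_),
          N.mul_mem (N.inv_mem hk) n.1.2⟩
        have hn := congrArg Subtype.val n.2
        rw [coe_nc, ← hkv] at hn
        calc k⁻¹ * (n.1 : G) * u * (k⁻¹ * (n.1 : G))⁻¹
            = k⁻¹ * ((n.1 : G) * u * (n.1 : G)⁻¹) * k := by group
          _ = u := by rw [hn]; group
    · rw [filter_false_of_mem fun (n : N) _ hn => huv (isConj_iff.2 ⟨(n : G), congrArg Subtype.val hn⟩)]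
      simp
  have hswap : ∑ᶠ χ ∈ principalBlock M G, (mult χ a - mult χ b) * conj (mult χ c - mult χ d) =
      (Nat.card (P : Subgroup G) : ℂ)⁻¹ ^ 2 * ∑ u : (P : Subgroup G), ∑ v : (P : Subgroup G),
        conj (f u) * g v * blockKernel (principalBlock M G) (u : G) (v : G) := by
    simp only [hd, map_mul, map_sum, map_inv₀, Complex.conj_natCast, Complex.conj_conj,
      blockKernel, finsum_mem_eq_sum_ite, mul_sum, sum_mul, mul_ite, mul_zero]
    rw [sum_congr rfl fun χ _ => show (if χ ∈ principalBlock M G then _ else (0:ℂ)) =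
      ∑ u : (P : Subgroup G), ∑ v : (P : Subgroup G), if χ ∈ principalBlock M G then
        (Nat.card (P : Subgroup G) : ℂ)⁻¹ ^ 2 * (conj (f u) * g v *
          ((χ : G → ℂ) u * conj ((χ : G → ℂ) v))) else 0 from ?_]
    · rw [sum_comm]
      exact sum_congr rfl fun u _ => sum_comm
    · split_ifs
      · rw [sum_comm]
        exact sum_congr rfl fun u _ => sum_congr rfl fun v _ => by
          simp only [hf, hg]; ring
      · simp
  have hmain : ∀ u : (P : Subgroup G),
      ∑ v : (P : Subgroup G), conj (f u) * g v * blockKernel (principalBlock M G) (u : G) (v : G) =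
        (Nat.card (P : Subgroup G) : ℂ) * (conj (f u) *
          ((Nat.card (Subgroup.centralizer ((P : Subgroup G) : Set G)) : ℂ)⁻¹ *
            ∑ n : N, g (nc n u))) := by
    intro u
    rcases eq_or_ne (u : G) 1 with hu | hu
    · have : f u = 0 := by rw [hf, show u = 1 from Subtype.ext hu]; simp
      simp [this]
    · rw [← horb u hu, mul_sum, mul_sum]
      refine sum_congr rfl fun v _ => ?_
      rw [h.column hM u.2 v.2 hu]
      split_ifs <;> ring
  have hrew : ∀ (r s : (P : Subgroup G) →* ℂˣ),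
      (Nat.card (P : Subgroup G) : ℂ)⁻¹ * ∑ u : (P : Subgroup G), ∑ n : N,
        conj (s u : ℂ) * (r (nc n u) : ℂ) = (Nat.card {n // act n r = s} : ℂ) := by
    intro r s
    rw [Nat.card_eq_fintype_card (α := {n : N // act n r = s}), Fintype.card_subtype, sum_comm, mul_sum, natCast_card_filter]
    refine (Fintype.sum_equiv (Equiv.inv N) _ _ fun n => ?_)
    have h1 : ∀ u : (P : Subgroup G), (r (nc n u) : ℂ) = (linChar (act n⁻¹ r) : ↥(P : Subgroup G) → ℂ) u := fun u => by
      show _ = ((act n⁻¹ r u : ℂˣ) : ℂ)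
      conv_rhs => rw [← act_apply_nc n (act n⁻¹ r) u, ← act_mul, mul_inv_cancel, act_one]
    simp only [h1, Equiv.inv_apply]
    have h2 := classInner_irrCharacter (linChar (act n⁻¹ r)) (linChar s)
    rw [classInner_def] at h2
    rw [show (if act n⁻¹ r = s then (1 : ℂ) else 0) =
      if linChar (act n⁻¹ r) = linChar s then (1 : ℂ) else 0 from
        if_congr linChar_injective.eq_iff.symm rfl rfl, ← h2]
    congr 1
    exact sum_congr rfl fun u _ => mul_comm _ _
  rw [hswap, sum_congr rfl fun u _ => hmain u]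
  unfold wt
  rw [← hrew c a, ← hrew c b, ← hrew d a, ← hrew d b]
  simp only [hf, hg, map_sub, sub_mul, mul_sub, sum_sub_distrib, mul_sum]
  field_simp
  simp only [← sum_div]
  ring

end Cfsg.Agent.H25.Exc
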