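import Cfsg.Agent.H25.ExcDual
import Cfsg.Agent.BlockBasic.Basic
import Cfsg.Agent.H83.RegInner

/-!
# The exceptional family of the principal block
-/

open scoped ComplexConjugate

namespace Cfsg.Agent.H25.Exc

open BlockBasic CharBasic Finset

universe u

variable {G : Type u} [Group G] [Finite G] {p : ℕ} [Fact p.Prime] {M : Ideal AlgInt} {P : Sylow p G}

/-- Differences of multiplicities are orthogonal to the columns of `p`-regular elements. -/
theorem Hyp.regular_orth (_h : Hyp P) (hM : IsPModular p M) (a b : (P : Subgroup G) →* ℂˣ) {g : G}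
    (hg : ¬ p ∣ orderOf g) :
    ∑ᶠ χ ∈ principalBlock M G, (mult χ a - mult χ b) * conj ((χ : G → ℂ) g) = 0 := by
  classical
  cases nonempty_fintype (P : Subgroup G)
  cases nonempty_fintype G
  simp only [mult_eq, classInner_def, ← mul_sub, ← sum_sub_distrib, finsum_mem_eq_sum_ite,
    mul_sum, sum_mul]
  rw [sum_congr rfl fun χ _ => show (if χ ∈ principalBlock M G then _ else (0 : ℂ)) =
    ∑ u : (P : Subgroup G), if χ ∈ principalBlock M G then
      (Nat.card (P : Subgroup G) : ℂ)⁻¹ * conj ((a u : ℂ) - b u) *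
        ((χ : G → ℂ) u * conj ((χ : G → ℂ) g)) else 0 from ?_]
  · rw [sum_comm]
    refine sum_eq_zero fun u _ => ?_
    rcases eq_or_ne u 1 with rfl | hu
    · simp
    · have hk := blockKernel_eq_zero_of_regular_of_singular hM (isPBlock_principalBlock M) hg
        (dvd_orderOf u.2 fun h1 => hu (Subtype.ext h1))
      rw [← conj_blockKernel] at hk
      have hk' : blockKernel (principalBlock M G) (u : G) g = 0 := by simpa using hk
      rw [blockKernel, finsum_mem_eq_sum_ite] at hk'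
      calc _ = (Nat.card (P : Subgroup G) : ℂ)⁻¹ * conj ((a u : ℂ) - b u) *
            ∑ χ : IrrCharacter G, (if χ ∈ principalBlock M G then
              (χ : G → ℂ) u * conj ((χ : G → ℂ) g) else 0) := by
            rw [mul_sum]
            exact sum_congr rfl fun χ _ => by split_ifs <;> ring
        _ = 0 := by rw [hk', mul_zero]
  · split_ifs
    · exact sum_congr rfl fun u _ => by simp only [linChar, map_sub]; ring
    · simp

omit [Fact p.Prime] in
/-- The multiplicities of nontrivial linear characters in the trivial character vanish. -/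
theorem mult_trivial {χ : IrrCharacter G} (hχ : (χ : G → ℂ) = fun _ => 1)
    {a : (P : Subgroup G) →* ℂˣ} (ha : a ≠ 1) : mult χ a = 0 := by
  classical
  cases nonempty_fintype (P : Subgroup G)
  rw [mult_eq, hχ, show (fun _ : (P : Subgroup G) => (1 : ℂ)) =
    (linChar (1 : (P : Subgroup G) →* ℂˣ) : _ → ℂ) from funext fun _ => by simp [linChar],
    classInner_irrCharacter, if_neg fun h1 => ha (linChar_injective h1).symm]

theorem Hyp.sum_dual_apply (h : Hyp P) [Fintype ((P : Subgroup G) →* ℂˣ)] {y : (P : Subgroup G)}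
    (hy : y ≠ 1) : ∑ a : (P : Subgroup G) →* ℂˣ, (a y : ℂ) = 0 := by
  classical
  cases nonempty_fintype (P : Subgroup G)
  have h1 := sum_degree_mul_apply (G := (P : Subgroup G)) y
  rw [if_neg hy] at h1
  rw [← h1]
  exact Fintype.sum_equiv (Equiv.ofBijective _ h.linChar_bijective) _ _ fun a => by
    simp [linChar]

/-- Representatives of the orbits of nontrivial linear characters. -/
theorem Hyp.exists_reps (h : Hyp P) :
    ∃ (t : ℕ) (r : Fin t → (P : Subgroup G) →* ℂˣ), (∀ i, r i ≠ 1) ∧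
      (∀ i j, Rel (r i) (r j) → i = j) ∧ (∀ a, a ≠ 1 → ∃ i, Rel (r i) a) ∧
      (Subgroup.centralizer ((P : Subgroup G) : Set G)).relIndex
        (Subgroup.normalizer ((P : Subgroup G) : Set G)) * t = Nat.card (P : Subgroup G) - 1 := by
  classical
  cases nonempty_fintype ((P : Subgroup G) →* ℂˣ)
  let s : Setoid {a : (P : Subgroup G) →* ℂˣ // a ≠ 1} :=
    ⟨fun a b => Rel a.1 b.1, ⟨fun a => rel_refl a.1, rel_symm, rel_trans⟩⟩
  let e := Fintype.equivFin (Quotient s)
  refine ⟨_, fun i => (e.symm i).out.1, fun i => (e.symm i).out.2, fun i j hij => ?_,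
    fun a ha => ⟨e ⟦⟨a, ha⟩⟧, ?_⟩, ?_⟩
  · exact e.symm.injective (by rw [← (e.symm i).out_eq, ← (e.symm j).out_eq]; exact Quotient.sound hij)
  · show Rel (e.symm (e ⟦⟨a, ha⟩⟧)).out.1 a
    rw [Equiv.symm_apply_apply]
    exact Quotient.mk_out (s := s) ⟨a, ha⟩
  · have hcard : Fintype.card {a : (P : Subgroup G) →* ℂˣ // a ≠ 1} =
        Nat.card (P : Subgroup G) - 1 := by
      rw [Fintype.card_subtype_compl, Fintype.card_subtype_eq, ← Nat.card_eq_fintype_card,
        h.card_dual]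
    rw [← hcard, ← Finset.card_univ (α := {a : (P : Subgroup G) →* ℂˣ // a ≠ 1}),
      card_eq_sum_card_fiberwise (f := fun a => Quotient.mk s a) (t := univ) (fun a _ => mem_univ _),
      sum_congr rfl (g := fun _ => (Subgroup.centralizer ((P : Subgroup G) : Set G)).relIndex
        (Subgroup.normalizer ((P : Subgroup G) : Set G))) fun q _ => ?_,
      sum_const, card_univ, smul_eq_mul, mul_comm]
    rw [← h.card_orbit q.out.2, ← Fintype.card_subtype, ← Nat.card_eq_fintype_card]
    refine (Nat.card_congr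
      { toFun := fun b : {b // Rel q.out.1 b} =>
          (⟨⟨b.1, rel_ne_one b.2 q.out.2⟩, (Quotient.sound (rel_symm b.2)).trans q.out_eq⟩ :
            {x : {a : (P : Subgroup G) →* ℂˣ // a ≠ 1} // Quotient.mk s x = q})
        invFun := fun b => ⟨b.1.1, rel_symm (Quotient.exact (b.2.trans q.out_eq.symm))⟩
        left_inv := fun b => rfl
        right_inv := fun b => rfl }).symm

/-- The sum over an orbit of linear characters. -/
noncomputable def psi (a : (P : Subgroup G) →* ℂˣ) (y : (P : Subgroup G)) : ℂ :=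
  ∑ᶠ b ∈ {b : (P : Subgroup G) →* ℂˣ | Rel a b}, ((b y : ℂˣ) : ℂ)

theorem psi_congr {a b : (P : Subgroup G) →* ℂˣ} (h : Rel a b) (y : (P : Subgroup G)) :
    psi b y = psi a y := by
  unfold psi
  rw [show {c : (P : Subgroup G) →* ℂˣ | Rel b c} = {c | Rel a c} from
    Set.ext fun c => ⟨rel_trans h, rel_trans (rel_symm h)⟩]

/-- Characters vanishing on the nontrivial elements of `P` do not lie in the principal block. -/
theorem Hyp.exists_ne_zero (_h : Hyp P) (hM : IsPModular p M) (hP1 : Nat.card (P : Subgroup G) ≠ 1)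
    {χ : IrrCharacter G} (hχ : χ ∈ principalBlock M G) :
    ∃ y ∈ (P : Subgroup G), y ≠ 1 ∧ (χ : G → ℂ) y ≠ 0 := by
  classical
  cases nonempty_fintype G
  cases nonempty_fintype (P : Subgroup G)
  cases nonempty_fintype ((P : Subgroup G) →* ℂˣ)
  by_contra hc
  push Not at hc
  obtain ⟨k, hk⟩ := exists_nat_mult χ (1 : (P : Subgroup G) →* ℂˣ)
  rw [mult_eq, classInner_def, sum_eq_single (1 : (P : Subgroup G))] at hk
  rotate_left
  · intro u _ hu
    rw [hc u u.2 fun h1 => hu (Subtype.ext h1), zero_mul]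
  · simp
  rw [show (linChar (1 : (P : Subgroup G) →* ℂˣ) : ↥(P : Subgroup G) → ℂ) 1 = 1 by simp [linChar],
    map_one, mul_one, OneMemClass.coe_one, apply_one_eq_charDegree] at hk
  rw [inv_mul_eq_iff_eq_mul₀ (Nat.cast_ne_zero.2 Nat.card_pos.ne'), ← Nat.cast_mul, Nat.cast_inj]
    at hk
  have hsingle : blockOf M (χ : G → ℂ) = {χ} := by
    refine (blockOf_eq_singleton_iff hM χ).2 fun hd => ?_
    obtain ⟨q, hq⟩ := charDegree_dvd χ
    rw [hq, Nat.mul_div_cancel_left q (charDegree_pos χ)] at hd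
    refine P.not_dvd_index ?_
    have h1 : Nat.card (P : Subgroup G) * (P : Subgroup G).index =
        Nat.card (P : Subgroup G) * (k * q) := by
      rw [Subgroup.card_mul_index, hq, hk, mul_assoc]
    rw [Nat.eq_of_mul_eq_mul_left Nat.card_pos h1]
    exact dvd_mul_of_dvd_right hd k
  rw [← isPBlock_eq_blockOf hM (isPBlock_principalBlock M) hχ] at hsingle
  obtain ⟨y, hy⟩ : ∃ y : (P : Subgroup G), y ≠ 1 := by
    by_contra h1
    push Not at h1
    exact hP1 (Nat.card_eq_one_iff_unique.2 ⟨⟨fun a b => (h1 a).trans (h1 b).symm⟩, ⟨1⟩⟩)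
  have htriv : (⟨fun _ => 1, isIrrCharacter_one⟩ : IrrCharacter G) ∈ principalBlock M G :=
    fun g => by simpa using memLocalIdeal_zero hM
  rw [hsingle, Set.mem_singleton_iff] at htriv
  exact one_ne_zero ((congrArg (fun θ : IrrCharacter G => (θ : G → ℂ) y) htriv).trans
    (hc y y.2 fun h1 => hy (Subtype.ext h1)))

/-- The exceptional family. -/
theorem Hyp.exists_family (h : Hyp P) (hM : IsPModular p M)
    (hP1 : Nat.card (P : Subgroup G) ≠ 1) {m : ℕ}
    (hm : (Subgroup.centralizer ((P : Subgroup G) : Set G)).relIndex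
      (Subgroup.normalizer ((P : Subgroup G) : Set G)) = m)
    (hm2 : m + 1 < Nat.card (P : Subgroup G)) :
    ∃ (t : ℕ) (r : Fin t → (P : Subgroup G) →* ℂˣ) (μ : Fin t → IrrCharacter G) (δ d : ℤ)
      (a : IrrCharacter G → ℤ),
      2 ≤ t ∧ m * t = Nat.card (P : Subgroup G) - 1 ∧ (δ = 1 ∨ δ = -1) ∧
      (∀ i, r i ≠ 1) ∧ (∀ ψ, ψ ≠ 1 → ∃! i, Rel (r i) ψ) ∧ Function.Injective μ ∧
      (∀ i, μ i ∈ principalBlock M G ∧ (μ i : G → ℂ) ≠ fun _ => 1) ∧ (∀ i, a (μ i) = d) ∧
      (∀ χ ∈ principalBlock M G, χ ∉ Set.range μ → a χ ≠ 0) ∧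
      (∀ χ ∈ principalBlock M G, ∀ z y : G, IsPPart p z y → ∀ hy : y ∈ (P : Subgroup G), y ≠ 1 →
        (χ ∉ Set.range μ → (χ : G → ℂ) z = (a χ : ℂ)) ∧
        ∀ i, χ = μ i → (χ : G → ℂ) z = (d : ℂ) + (δ : ℂ) * psi (r i) ⟨y, hy⟩) ∧
      ((d - δ) ^ 2 + ((t : ℤ) - 1) * d ^ 2 +
        ∑ᶠ χ ∈ principalBlock M G \ Set.range μ, a χ ^ 2 = (m : ℤ) + 1) ∧
      (∀ i j, ∀ g : G, ¬ p ∣ orderOf g → (μ i : G → ℂ) g = (μ j : G → ℂ) g) ∧
      (∀ i, ∀ g : G, ¬ p ∣ orderOf g → ((t : ℂ) * d - δ) * (μ i : G → ℂ) g +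
        ∑ᶠ χ ∈ principalBlock M G \ Set.range μ, (a χ : ℂ) * (χ : G → ℂ) g = 0) := by
  classical
  cases nonempty_fintype G
  cases nonempty_fintype (P : Subgroup G)
  cases nonempty_fintype ((P : Subgroup G) →* ℂˣ)
  obtain ⟨t, r, hr1, hrinj, hrsurj, ht⟩ := h.exists_reps
  rw [hm] at ht
  have ht2 : 2 ≤ t := by
    by_contra hlt
    have : m * t ≤ m * 1 := Nat.mul_le_mul_left m (by omega)
    omega
  choose k hk using fun (χ : IrrCharacter G) (a : (P : Subgroup G) →* ℂˣ) => exists_nat_mult χ a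
  let i₀ : Fin t := ⟨0, by omega⟩
  set B0 : Finset (IrrCharacter G) := univ.filter (· ∈ principalBlock M G) with hB0
  have hBsum : ∀ f : IrrCharacter G → ℂ, ∑ᶠ χ ∈ principalBlock M G, f χ = ∑ χ ∈ B0, f χ :=
    fun f => by rw [finsum_mem_eq_sum_ite, hB0, sum_filter]
  set v : Fin t → IrrCharacter G → ℤ := fun i χ =>
    if χ ∈ B0 then (k χ (r i) : ℤ) - k χ (r i₀) else 0 with hv
  have hvc : ∀ i, ∀ χ ∈ B0, (v i χ : ℂ) = mult χ (r i) - mult χ (r i₀) := fun i χ hχ => by
    simp [hv, hχ, hk]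
  have hrel : ∀ i j, (if Rel (r i) (r j) then (1 : ℂ) else 0) = if i = j then 1 else 0 := fun i j =>
    if_congr ⟨hrinj i j, fun e => e ▸ rel_refl _⟩ rfl rfl
  set τ : Fin t → G → ℂ := fun i => ∑ χ : IrrCharacter G, (v i χ : ℂ) • (χ : G → ℂ) with hτ
  have hτin : ∀ i j, classInner (τ i) (τ j) = ∑ χ ∈ B0, (v i χ : ℂ) * (v j χ : ℂ) := by
    intro i j
    rw [← classInner_conj_symm, show τ j = ∑ χ : IrrCharacter G, (v j χ : ℂ) • (χ : G → ℂ) from rfl,
      classInner_sum_left, map_sum]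
    rw [← sum_subset (subset_univ B0) fun χ _ hχ => by simp [hv, hχ]]
    refine sum_congr rfl fun χ _ => ?_
    rw [classInner_smul_left, map_mul, classInner_conj_symm, map_intCast,
      show τ i = ∑ χ : IrrCharacter G, (v i χ : ℂ) • (χ : G → ℂ) from rfl, classInner_sum_irr]
    ring
  have hreg : ∀ i, ∀ g : G, ¬ p ∣ orderOf g → τ i g = 0 := by
    intro i g hg
    have h1 := congrArg conj (h.regular_orth hM (r i) (r i₀) hg)
    rw [hBsum, map_sum, map_zero] at h1
    rw [← h1, hτ]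
    simp only [Finset.sum_apply, Pi.smul_apply, smul_eq_mul]
    rw [← sum_subset (subset_univ B0) fun χ _ hχ => by simp [hv, hχ]]
    refine sum_congr rfl fun χ hχ => ?_
    rw [map_mul, Complex.conj_conj, ← hvc i χ hχ, map_intCast]
  obtain ⟨ε, hε, μ', hμirr, hμinj, hτμ⟩ := CharInduce.Isometry.exists_signed_family t i₀ τ
    (by funext g; simp [hτ, hv])
    (fun i => CharInduce.IsGen.sum _ _ fun χ _ => by
      rw [Int.cast_smul_eq_zsmul]
      exact CharInduce.IsGen.zsmul (CharInduce.IsGen.of_char (IsIrr.isCharacter χ.2)) _)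
    (fun i => hreg i 1 (by simpa using (Fact.out : p.Prime).ne_one))
    (fun i j hi hj => by
      rw [hτin, sum_congr rfl fun χ hχ => show (v i χ : ℂ) * (v j χ : ℂ) =
        (mult χ (r i) - mult χ (r i₀)) * conj (mult χ (r j) - mult χ (r i₀)) by
          rw [← hvc i χ hχ, ← hvc j χ hχ, map_intCast],
        ← hBsum, h.gram hM, h.wt_of_ne (hr1 j), h.wt_of_ne (hr1 j), h.wt_of_ne (hr1 i₀),
        h.wt_of_ne (hr1 i₀), hrel, hrel, hrel, hrel, if_neg hj, if_neg (Ne.symm hi), if_pos rfl]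
      rcases eq_or_ne i j with rfl | hne
      · norm_num
      · rw [if_neg hne.symm, if_neg hne]; ring)
  set μ : Fin t → IrrCharacter G := fun i => ⟨μ' i, hμirr i⟩ with hμ
  have hμi : Function.Injective μ := fun i j hij => hμinj (congrArg Subtype.val hij)
  obtain ⟨δ, hδ, rfl⟩ : ∃ δ : ℤ, (δ = 1 ∨ δ = -1) ∧ ε = (δ : ℂ) := by
    rcases hε with rfl | rfl
    · exact ⟨1, Or.inl rfl, by simp⟩
    · exact ⟨-1, Or.inr rfl, by simp⟩
  have hvμ : ∀ i χ, v i χ = δ * ((if χ = μ i then 1 else 0) - if χ = μ i₀ then 1 else 0) := by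
    intro i χ
    have h1 : classInner (τ i) (χ : G → ℂ) = (v i χ : ℂ) := classInner_sum_irr _ χ
    rw [hτμ i, classInner_smul_left, classInner_sub_left] at h1
    rw [show μ' i = (μ i : G → ℂ) from rfl, show μ' i₀ = (μ i₀ : G → ℂ) from rfl,
      classInner_irrCharacter, classInner_irrCharacter] at h1
    simp only [eq_comm (a := μ i) (b := χ), eq_comm (a := μ i₀) (b := χ)] at h1
    have h2 : ((δ * ((if χ = μ i then 1 else 0) - if χ = μ i₀ then 1 else 0) : ℤ) : ℂ) =
        (v i χ : ℂ) := by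
      rw [← h1]; split_ifs <;> simp
    exact_mod_cast h2.symm
  have hδ0 : δ ≠ 0 := by rcases hδ with rfl | rfl <;> decide
  have hδ2 : δ * δ = 1 := by rcases hδ with rfl | rfl <;> rfl
  obtain ⟨i₁, hi₁⟩ : ∃ i : Fin t, i ≠ i₀ := ⟨⟨1, by omega⟩, fun e => by simpa [i₀] using congrArg Fin.val e⟩
  have hμB : ∀ i, μ i ∈ B0 := by
    intro i
    by_contra hout
    rcases eq_or_ne i i₀ with rfl | hi
    · have h1 := hvμ i₁ (μ i₀)
      rw [if_neg (hμi.ne hi₁.symm), if_pos rfl] at h1
      simp [hv, hout] at h1; omega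
    · have h1 := hvμ i (μ i)
      rw [if_pos rfl, if_neg (hμi.ne hi)] at h1
      simp [hv, hout] at h1; omega
  set a : IrrCharacter G → ℤ := fun χ =>
    (k χ 1 : ℤ) - k χ (r i₀) + δ * (if χ = μ i₀ then 1 else 0) with ha
  -- the restriction to `P`
  have hval : ∀ χ ∈ B0, ∀ y : (P : Subgroup G), y ≠ 1 →
      (χ : G → ℂ) y = (a χ : ℂ) + (δ : ℂ) * ∑ i, if χ = μ i then psi (r i) y else 0 := by
    intro χ hχ y hy
    have hsplit : ∀ F : ((P : Subgroup G) →* ℂˣ) → ℂ, ∑ b, F b =
        F 1 + ∑ i, ∑ b with Rel (r i) b, F b := by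
      intro F
      rw [← add_sum_erase univ F (mem_univ 1)]
      congr 1
      refine (sum_congr (Finset.ext fun b => ?_) fun _ _ => rfl).trans
        (sum_biUnion fun i _ j _ hij => disjoint_filter.2 fun b _ hb hb' =>
          hij (hrinj i j (rel_trans hb (rel_symm hb'))))
      simp only [mem_erase, mem_univ, and_true, mem_biUnion, mem_filter, true_and]
      exact ⟨hrsurj b, fun ⟨i, hi⟩ => rel_ne_one hi (hr1 i)⟩
    have hpsi : ∀ i, psi (r i) y = ∑ b with Rel (r i) b, (b y : ℂ) := fun i => by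
      rw [psi, finsum_mem_eq_finite_toFinset_sum _ (Set.toFinite _)]
      exact sum_congr (by ext; simp) fun _ _ => rfl
    have hrest := h.expansion χ y
    rw [hsplit] at hrest
    have hzero := h.sum_dual_apply hy
    rw [hsplit] at hzero
    simp only [MonoidHom.one_apply, Units.val_one, mul_one] at hrest hzero
    rw [hrest, sum_congr rfl fun i _ => show ∑ b with Rel (r i) b, mult χ b * (b y : ℂ) =
        mult χ (r i) * psi (r i) y by
      rw [hpsi, mul_sum]
      exact sum_congr rfl fun b hb => by rw [mult_congr χ (mem_filter.1 hb).2]]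
    rw [sum_congr rfl fun i _ => (hpsi i).symm] at hzero
    have hki : ∀ i, mult χ (r i) = mult χ (r i₀) +
        (δ : ℂ) * ((if χ = μ i then 1 else 0) - if χ = μ i₀ then 1 else 0) := fun i => by
      have h1 := hvc i χ hχ
      rw [hvμ] at h1
      push_cast at h1
      linear_combination -h1
    rw [sum_congr rfl fun i _ => congrArg (· * psi (r i) y) (hki i)]
    have e : ∀ i, (mult χ (r i₀) + (δ : ℂ) * ((if χ = μ i then (1 : ℂ) else 0) -
        if χ = μ i₀ then 1 else 0)) * psi (r i) y =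
        (mult χ (r i₀) - (δ : ℂ) * if χ = μ i₀ then 1 else 0) * psi (r i) y +
          (δ : ℂ) * (if χ = μ i then psi (r i) y else 0) := fun i => by
      split_ifs <;> ring
    rw [sum_congr rfl fun i _ => e i, sum_add_distrib, ← mul_sum, ← mul_sum,
      show ∑ i, psi (r i) y = -1 by linear_combination hzero]
    simp only [ha, hk]
    push_cast
    split_ifs <;> ring
  -- the inner products with the vector of the trivial character
  have hnorm : ∀ i, ∑ χ ∈ B0, ((a χ - δ * if χ = μ i₀ then 1 else 0) * v i χ : ℤ) =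
      if i = i₀ then 0 else 1 := by
    intro i
    have h1 := h.gram hM (r i) (r i₀) 1 (r i₀)
    rw [hBsum, wt_one, wt_one, if_neg (hr1 i), if_neg (hr1 i₀), h.wt_of_ne (hr1 i₀),
      h.wt_of_ne (hr1 i₀), hrel, hrel, if_pos rfl] at h1
    have h2 : ((∑ χ ∈ B0, ((a χ - δ * if χ = μ i₀ then 1 else 0) * v i χ) : ℤ) : ℂ) =
        ((if i = i₀ then 0 else 1 : ℤ) : ℂ) := by
      rw [Int.cast_sum]
      have h3 : ∑ χ ∈ B0, (((a χ - δ * if χ = μ i₀ then 1 else 0) * v i χ : ℤ) : ℂ) =
          ∑ χ ∈ B0, (mult χ (r i) - mult χ (r i₀)) * conj (mult (P := P) χ 1 - mult χ (r i₀)) := by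
        refine sum_congr rfl fun χ hχ => ?_
        rw [← hvc i χ hχ, map_sub, hk, hk, Complex.conj_natCast, Complex.conj_natCast]
        simp only [ha]
        push_cast
        ring
      rw [h3, h1]
      rcases eq_or_ne i i₀ with rfl | hi
      · simp
      · simp [hi, Ne.symm hi]
    exact_mod_cast h2
  have hconst : ∀ i, a (μ i) = a (μ i₀) := by
    intro i
    rcases eq_or_ne i i₀ with rfl | hi
    · rfl
    have h1 := hnorm i
    rw [if_neg hi, sum_congr rfl fun χ _ => show ((a χ - δ * if χ = μ i₀ then 1 else 0) * v i χ : ℤ) =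
      (if χ = μ i then δ * a χ else 0) - (if χ = μ i₀ then δ * a χ - 1 else 0) by
        rw [hvμ]
        by_cases h0 : χ = μ i₀
        · subst h0
          rw [if_pos rfl, if_pos rfl, if_neg (hμi.ne (Ne.symm hi)), if_neg (hμi.ne (Ne.symm hi))]
          linear_combination hδ2
        · rw [if_neg h0, if_neg h0]
          split_ifs <;> ring,
      sum_sub_distrib, sum_ite_eq', sum_ite_eq', if_pos (hμB i), if_pos (hμB i₀)] at h1
    have h2 : δ * a (μ i) = δ * a (μ i₀) := by linarith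
    exact mul_left_cancel₀ hδ0 h2
  set d := a (μ i₀) with hd
  have hmemB : ∀ χ, χ ∈ B0 ↔ χ ∈ principalBlock M G := fun χ => by simp [hB0]
  have hout : ∀ χ, χ ∉ Set.range μ → ∀ i, χ ≠ μ i := fun χ hχ i e => hχ ⟨i, e.symm⟩
  have hdiff : ∀ {α : Type} [AddCommMonoid α] (F : IrrCharacter G → α),
      ∑ χ ∈ B0, F χ = (∑ i, F (μ i)) + ∑ᶠ χ ∈ principalBlock M G \ Set.range μ, F χ := by
    intro α _ F
    rw [finsum_mem_eq_finite_toFinset_sum _ (Set.toFinite _),
      ← sum_image (f := F) (g := μ) fun i _ j _ e => hμi e, ← sum_union]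
    · refine sum_congr (Finset.ext fun χ => ?_) fun _ _ => rfl
      simp only [hB0, mem_filter, mem_univ, true_and, mem_union, mem_image, Set.Finite.mem_toFinset,
        Set.mem_sdiff, Set.mem_range]
      constructor
      · intro hχ
        by_cases hr : ∃ i, μ i = χ
        · exact Or.inl hr
        · exact Or.inr ⟨hχ, hr⟩
      · rintro (⟨i, rfl⟩ | ⟨hχ, -⟩)
        · exact (hmemB _).1 (hμB i)
        · exact hχ
    · refine disjoint_left.2 fun χ hχ hχ' => ?_
      obtain ⟨i, -, rfl⟩ := mem_image.1 hχ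
      exact ((Set.Finite.mem_toFinset _).1 hχ').2 ⟨i, rfl⟩
  refine ⟨t, r, μ, δ, d, a, ht2, ht, hδ, hr1, fun ψ hψ => ?_, hμi, fun i => ⟨(hmemB _).1 (hμB i), ?_⟩,
    hconst, fun χ hχ hr ha0 => ?_, fun χ hχ z y hz hy hy1 => ?_, ?_, fun i j g hg => ?_,
    fun i g hg => ?_⟩
  · obtain ⟨i, hi⟩ := hrsurj ψ hψ
    exact ⟨i, hi, fun j hj => hrinj j i (rel_trans hj (rel_symm hi))⟩
  · intro h1
    have hz : ∀ j, v j (μ i) = 0 := fun j => by
      simp only [hv, hμB i, if_true]
      have e : ∀ l, k (μ i) (r l) = 0 := fun l => by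
        have := hk (μ i) (r l)
        rw [mult_trivial h1 (hr1 l)] at this
        exact_mod_cast this.symm
      rw [e, e]; simp
    rcases eq_or_ne i i₀ with rfl | hi
    · have h2 := hvμ i₁ (μ i₀)
      rw [hz, if_neg (hμi.ne hi₁.symm), if_pos rfl] at h2
      omega
    · have h2 := hvμ i (μ i)
      rw [hz, if_pos rfl, if_neg (hμi.ne hi)] at h2
      omega
  · obtain ⟨y, hy, hy1, hne⟩ := h.exists_ne_zero hM hP1 hχ
    refine hne ?_
    have h1 := hval χ ((hmemB χ).2 hχ) ⟨y, hy⟩ fun e => hy1 (congrArg Subtype.val e)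
    rw [h1, ha0, Int.cast_zero, zero_add, sum_eq_zero fun i _ => if_neg (hout χ hr i), mul_zero]
  · rw [h.apply_eq hM hχ hz hy hy1,
      hval χ ((hmemB χ).2 hχ) ⟨y, hy⟩ fun e => hy1 (congrArg Subtype.val e)]
    refine ⟨fun hr => ?_, fun i e => ?_⟩
    · rw [sum_eq_zero fun i _ => if_neg (hout χ hr i), mul_zero, add_zero]
    · subst e
      rw [hconst i, sum_eq_single i (fun j _ hj => if_neg (hμi.ne (Ne.symm hj))) (by simp), if_pos rfl]
  · have h1 := h.gram hM 1 (r i₀) 1 (r i₀)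
    rw [hBsum, wt_one, wt_one, if_pos rfl, if_neg (hr1 i₀), h.wt_of_ne (hr1 i₀),
      h.wt_of_ne (hr1 i₀), hm, hrel, if_pos rfl, if_neg fun e => rel_ne_one e (hr1 i₀) rfl] at h1
    have h2 : ((∑ χ ∈ B0, (a χ - δ * if χ = μ i₀ then 1 else 0) ^ 2 : ℤ) : ℂ) =
        (((m : ℤ) + 1 : ℤ) : ℂ) := by
      rw [Int.cast_sum, sum_congr rfl fun χ _ => show (((a χ - δ * if χ = μ i₀ then 1 else 0) ^ 2 : ℤ) : ℂ) =
        (mult (P := P) χ 1 - mult χ (r i₀)) * conj (mult (P := P) χ 1 - mult χ (r i₀)) by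
          rw [map_sub, hk, hk, Complex.conj_natCast, Complex.conj_natCast]
          simp only [ha]
          push_cast
          ring, h1]
      push_cast
      ring
    have h3 : ∑ χ ∈ B0, (a χ - δ * if χ = μ i₀ then 1 else 0) ^ 2 = (m : ℤ) + 1 := by exact_mod_cast h2
    rw [hdiff] at h3
    rw [← h3]
    congr 1
    · rw [← add_sum_erase univ _ (mem_univ i₀), if_pos rfl, sum_congr rfl fun i hi => by
        rw [if_neg (hμi.ne (mem_erase.1 hi).1), mul_zero, sub_zero, hconst i], sum_const,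
        card_erase_of_mem (mem_univ i₀), card_univ, Fintype.card_fin, nsmul_eq_mul,
        Nat.cast_sub (by omega : 1 ≤ t), ← hd]
      push_cast
      ring
    · exact finsum_mem_congr rfl fun χ hχ => by rw [if_neg (hout χ hχ.2 i₀), mul_zero, sub_zero]
  · have e : ∀ l, (μ l : G → ℂ) g = (μ i₀ : G → ℂ) g := fun l => by
      have h1 := hreg l g hg
      rw [hτμ l] at h1
      simp only [Pi.smul_apply, Pi.sub_apply, smul_eq_mul, mul_eq_zero, Int.cast_eq_zero, hδ0,
        false_or, sub_eq_zero] at h1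
      exact h1
    rw [e i, e j]
  · have e : ∀ l, (μ l : G → ℂ) g = (μ i : G → ℂ) g := fun l => by
      have h1 := hreg l g hg
      have h2 := hreg i g hg
      rw [hτμ] at h1 h2
      simp only [Pi.smul_apply, Pi.sub_apply, smul_eq_mul, mul_eq_zero, Int.cast_eq_zero, hδ0,
        false_or, sub_eq_zero] at h1 h2
      rw [show (μ l : G → ℂ) g = μ' l g from rfl, show (μ i : G → ℂ) g = μ' i g from rfl, h1, h2]
    have h1 := congrArg conj (h.regular_orth hM 1 (r i₀) hg)
    rw [hBsum, map_sum, map_zero] at h1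
    rw [sum_congr rfl fun χ _ => show conj ((mult (P := P) χ 1 - mult χ (r i₀)) * conj ((χ : G → ℂ) g)) =
      ((a χ : ℂ) - (δ : ℂ) * if χ = μ i₀ then 1 else 0) * (χ : G → ℂ) g by
        rw [map_mul, Complex.conj_conj, map_sub, hk, hk, Complex.conj_natCast, Complex.conj_natCast]
        simp only [ha]
        push_cast
        ring, hdiff] at h1
    rw [← h1]
    congr 1
    · rw [← add_sum_erase univ _ (mem_univ i₀), if_pos rfl, sum_congr rfl fun l hl => by
        rw [if_neg (hμi.ne (mem_erase.1 hl).1), mul_zero, sub_zero, hconst l, e l], sum_const,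
        card_erase_of_mem (mem_univ i₀), card_univ, Fintype.card_fin, nsmul_eq_mul,
        Nat.cast_sub (by omega : 1 ≤ t), e i₀, ← hd]
      push_cast
      ring
    · exact finsum_mem_congr rfl fun χ hχ => by rw [if_neg (hout χ hχ.2 i₀), mul_zero, sub_zero]

end Cfsg.Agent.H25.Exc
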