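import Cfsg.Agent.Cores.PrincipalSection
import Cfsg.Agent.Cores.PSolvable
import Cfsg.Agent.Fusion.Basic
import Cfsg.Agent.Fusion.PComplement
import Cfsg.Agent.H85.TwoBlocks
import Cfsg.Agent.CharInduce.Isometry
import Cfsg.Agent.CharInduce.Ops

/-!
# The principal block for an abelian Sylow subgroup with Frobenius automizer: columns

If `P` is an abelian Sylow subgroup and no element of `N(P) \ C(P)` fixes a nontrivial element of
`P`, then the principal block characters are constant on the `p`-sections of nontrivial elements of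
`P`, and their restrictions to `P` give an isometry on class functions of `P` vanishing at `1`.
-/

open scoped ComplexConjugate

namespace Cfsg.Agent.H25.Exc

open BlockBasic CharBasic

universe u

variable {G : Type u} [Group G] [Finite G] {p : ℕ} [Fact p.Prime] {M : Ideal AlgInt}

/-- The hypotheses on the Sylow subgroup. -/
structure Hyp (P : Sylow p G) : Prop where
  comm : IsMulCommutative (P : Subgroup G)
  free : ∀ y : G, y ∈ (P : Subgroup G) → y ≠ 1 →
    Subgroup.centralizer ({y} : Set G) ⊓ Subgroup.normalizer ((P : Subgroup G) : Set G) =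
      Subgroup.centralizer ((P : Subgroup G) : Set G)

variable {P : Sylow p G}

omit [Finite G] [Fact p.Prime] in
theorem Hyp.le_centralizer (h : Hyp P) :
    (P : Subgroup G) ≤ Subgroup.centralizer ((P : Subgroup G) : Set G) := by
  have := h.comm
  exact Subgroup.le_centralizer _

omit [Finite G] in
theorem orderOf_mem (y : (P : Subgroup G)) : ∃ k, orderOf (y : G) = p ^ k := by
  obtain ⟨k, hk⟩ := IsPGroup.iff_orderOf.1 P.isPGroup' y
  exact ⟨k, by rw [Subgroup.orderOf_coe, hk]⟩

omit [Finite G] in
theorem dvd_orderOf {y : G} (hy : y ∈ (P : Subgroup G)) (hy1 : y ≠ 1) : p ∣ orderOf y := by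
  obtain ⟨k, hk⟩ := orderOf_mem (P := P) ⟨y, hy⟩
  rcases k with _ | k
  · exact absurd (orderOf_eq_one_iff.1 (by simpa using hk)) hy1
  · exact ⟨p ^ k, by rw [show orderOf y = p ^ (k + 1) from hk, pow_succ']⟩

/-- Fusion in `P` is controlled by the normalizer. -/
theorem Hyp.fusion (h : Hyp P) {u v : G} (hu : u ∈ (P : Subgroup G)) (hv : v ∈ (P : Subgroup G))
    (huv : IsConj u v) :
    ∃ n ∈ Subgroup.normalizer ((P : Subgroup G) : Set G), n * u * n⁻¹ = v := by
  obtain ⟨g, rfl⟩ := isConj_iff.1 huv
  exact Fusion.burnside_fusion_centralizer P (h.le_centralizer hu) (h.le_centralizer hv)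

/-- Centralizers of nontrivial elements of `P` have normal `p`-complements. -/
theorem Hyp.exists_complement (h : Hyp P) {y : G} (hy : y ∈ (P : Subgroup G)) (hy1 : y ≠ 1) :
    ∃ K : Subgroup (Subgroup.centralizer ({y} : Set G)), K.Normal ∧ ¬ p ∣ Nat.card K ∧
      K.index = Nat.card (P : Subgroup G) ∧
      IsPSolvable p (Subgroup.centralizer ({y} : Set G)) ∧
      ∀ c : Subgroup.centralizer ({y} : Set G), ¬ p ∣ orderOf c → c ∈ K := by
  set C := Subgroup.centralizer ({y} : Set G)
  have hPC : (P : Subgroup G) ≤ C := fun x hx => Subgroup.mem_centralizer_singleton_iff.2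
    ((Subgroup.mem_centralizer_iff.1 (h.le_centralizer hy) x hx))
  set P' : Sylow p C := P.subtype hPC
  have hc : HasNormalPComplement p C := by
    refine Fusion.hasNormalPComplement_of_normalizer_le_centralizer P' fun x hx => ?_
    have hxN : (x : G) ∈ Subgroup.normalizer ((P : Subgroup G) : Set G) := by
      rw [Subgroup.mem_normalizer_iff] at hx ⊢
      intro z
      constructor
      · exact fun hz => (hx ⟨z, hPC hz⟩).1 hz
      · intro hz
        have hzC : z ∈ C := by
          have := C.mul_mem (C.mul_mem (C.inv_mem x.2) (hPC hz)) x.2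
          simpa [mul_assoc] using this
        exact (hx ⟨z, hzC⟩).2 hz
    have hxC : (x : G) ∈ Subgroup.centralizer ((P : Subgroup G) : Set G) := by
      rw [← h.free y hy hy1]; exact ⟨x.2, hxN⟩
    exact Subgroup.mem_centralizer_iff.2 fun z hz => Subtype.ext
      (Subgroup.mem_centralizer_iff.1 hxC (z : G) hz)
  refine ⟨pResidual p C, inferInstance, Fusion.hasNormalPComplement_iff_pResidual.1 hc, ?_, ?_,
    fun c hc' => (Fusion.mem_pResidual_iff_of_hasNormalPComplement hc).2
      (((Fact.out : p.Prime).coprime_iff_not_dvd.2 hc').symm)⟩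
  · rw [(Fusion.isComplement'_pResidual hc P').symm.index_eq_card]
    exact Nat.card_congr (Subgroup.subgroupOfEquivOfLe hPC).toEquiv
  · refine Cores.isPSolvable_of_normal_of_quotient (pResidual p C)
      (Cores.isPSolvable_of_coprime ?_) (Cores.isPSolvable_of_isPGroup ?_)
    · exact ((Fact.out : p.Prime).coprime_iff_not_dvd.2
        (Fusion.hasNormalPComplement_iff_pResidual.1 hc)).symm
    · exact Fusion.isPGroup_quotient_pResidual

/-- Principal block characters are constant on the section of a nontrivial element of `P`. -/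
theorem Hyp.apply_eq (h : Hyp P) (hM : IsPModular p M) {χ : IrrCharacter G}
    (hχ : χ ∈ principalBlock M G) {z y : G} (hz : IsPPart p z y) (hy : y ∈ (P : Subgroup G))
    (hy1 : y ≠ 1) : (χ : G → ℂ) z = (χ : G → ℂ) y := by
  classical
  obtain ⟨x, rfl, hcomm, -, hx⟩ := hz
  obtain ⟨e, he⟩ := orderOf_mem (P := P) ⟨y, hy⟩
  obtain ⟨K, hKn, hKp, -, -, hKmem⟩ := h.exists_complement hy hy1
  let _ : Fintype (Subgroup.centralizer ({y} : Set G)) := Fintype.ofFinite _
  let x' : Subgroup.centralizer ({y} : Set G) :=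
    ⟨x, Subgroup.mem_centralizer_singleton_iff.2 hcomm.symm.eq⟩
  have hx' : ¬ p ∣ orderOf x' := by rwa [← Subgroup.orderOf_coe]
  have h1 := Cores.principal_part_eq hM he χ x' hx'
  have h2 := Cores.principal_part_eq hM he χ 1 (by simpa using (Fact.out : p.Prime).ne_one)
  rw [if_pos hχ] at h1 h2
  simp only [OneMemClass.coe_one, mul_one] at h2
  show (χ : G → ℂ) (y * (x' : G)) = _
  rw [← h1, ← h2]
  refine Finset.sum_congr rfl fun ψ hψ => ?_
  rw [H82.apply_eq_of_mem_principalBlock hM (Finset.mem_filter.1 hψ).2 K hKp (hKmem x' hx')]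

/-- The degree square sum of the principal block of a centralizer. -/
theorem Hyp.sum_sq (h : Hyp P) (hM : IsPModular p M) {y : G} (hy : y ∈ (P : Subgroup G))
    (hy1 : y ≠ 1) :
    ((∑ᶠ ψ ∈ principalBlock M (Subgroup.centralizer ({y} : Set G)),
      charDegree (ψ : Subgroup.centralizer ({y} : Set G) → ℂ) ^ 2 : ℕ) : ℂ) =
      Nat.card (P : Subgroup G) := by
  classical
  obtain ⟨K, hKn, hKp, hKi, hps, hKmem⟩ := h.exists_complement hy hy1
  let _ : Fintype (Subgroup.centralizer ({y} : Set G)) := Fintype.ofFinite _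
  have hmem : ∀ ψ : IrrCharacter (Subgroup.centralizer ({y} : Set G)),
      ψ ∈ principalBlock M (Subgroup.centralizer ({y} : Set G)) ↔
        ∀ n ∈ K, (ψ : Subgroup.centralizer ({y} : Set G) → ℂ) n =
          (ψ : Subgroup.centralizer ({y} : Set G) → ℂ) 1 := by
    refine fun ψ => ⟨fun hψ n hn => H82.apply_eq_of_mem_principalBlock hM hψ K hKp hn, fun hψ =>
      H85.mem_principalBlock_of_trivial_on_core hM hps ψ fun n hn => hψ n (hKmem n ?_)⟩
    exact fun hd => Cores.not_dvd_card_pPrimeCore (hd.trans (by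
      rw [← Subgroup.orderOf_mk n hn]; exact orderOf_dvd_natCard _))
  rw [finsum_mem_eq_finite_toFinset_sum _ (Set.toFinite _), Nat.cast_sum, ← hKi,
    ← Cores.sum_sq_degree_trivial_on K]
  refine Finset.sum_congr (Finset.ext fun ψ => ?_) fun ψ _ => ?_
  · simp [hmem ψ]
  · rw [Nat.cast_pow, sq, ← apply_one_eq_charDegree]

/-- Products of two columns at elements of `P`. -/
theorem Hyp.column (h : Hyp P) (hM : IsPModular p M) {u v : G} (hu : u ∈ (P : Subgroup G))
    (hv : v ∈ (P : Subgroup G)) (hu1 : u ≠ 1) :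
    blockKernel (principalBlock M G) u v =
      open scoped Classical in if IsConj u v then (Nat.card (P : Subgroup G) : ℂ) else 0 := by
  classical
  rw [Cores.blockKernel_principal_pElement hM (orderOf_mem ⟨u, hu⟩) (orderOf_mem ⟨v, hv⟩),
    h.sum_sq hM hu hu1]

end Cfsg.Agent.H25.Exc
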