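import Cfsg.Agent.H25.ExcFamily
import Cfsg.Agent.H25.BrauerSuzukiLarge
import Cfsg.Agent.H36.DegreeEq

/-!
# The exceptional family for an automizer of order three
-/

open scoped ComplexConjugate

namespace Cfsg.Agent.H25.Exc

open BlockBasic CharBasic Finset

universe u

variable {G : Type u} [Group G] [Finite G] {p : ℕ} [Fact p.Prime] {M : Ideal AlgInt} {P : Sylow p G}

open scoped Classical in
omit [Fact p.Prime] in
theorem psi_eq_sum [Fintype ((P : Subgroup G) →* ℂˣ)] (a : (P : Subgroup G) →* ℂˣ)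
    (y : (P : Subgroup G)) : psi a y = ∑ b with Rel a b, (b y : ℂ) := by
  rw [psi, finsum_mem_eq_finite_toFinset_sum _ (Set.toFinite _)]
  exact sum_congr (by ext; simp) fun _ _ => rfl

open scoped Classical in
/-- A sum over the linear characters, orbit by orbit. -/
theorem Hyp.sum_reps (_h : Hyp P) [Fintype ((P : Subgroup G) →* ℂˣ)] {t : ℕ}
    (r : Fin t → (P : Subgroup G) →* ℂˣ) (hr1 : ∀ i, r i ≠ 1)
    (hr : ∀ ψ, ψ ≠ 1 → ∃! i, Rel (r i) ψ) (F : ((P : Subgroup G) →* ℂˣ) → ℂ) :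
    ∑ b, F b = F 1 + ∑ i, ∑ b with Rel (r i) b, F b := by
  rw [← add_sum_erase univ F (mem_univ 1)]
  congr 1
  refine (sum_congr (Finset.ext fun b => ?_) fun _ _ => rfl).trans
    (sum_biUnion fun i _ j _ hij => disjoint_filter.2 fun b _ hb hb' => hij ?_)
  · simp only [mem_erase, mem_univ, and_true, mem_biUnion, mem_filter, true_and]
    exact ⟨fun hb => (hr b hb).exists, fun ⟨i, hi⟩ => rel_ne_one hi (hr1 i)⟩
  · exact (hr b (rel_ne_one hb (hr1 i))).unique hb hb'

open scoped Classical in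
/-- The cubic sum of orbit sums. -/
theorem Hyp.sum_psi_sq (h : Hyp P) [Fintype ((P : Subgroup G) →* ℂˣ)] {t : ℕ}
    (r : Fin t → (P : Subgroup G) →* ℂˣ) (hr1 : ∀ i, r i ≠ 1)
    (hr : ∀ ψ, ψ ≠ 1 → ∃! i, Rel (r i) ψ) (u y : (P : Subgroup G)) (hy : y ≠ 1)
    (huy : ∀ n k : Subgroup.normalizer ((P : Subgroup G) : Set G),
      (nc n).symm u * (nc k).symm u * y ≠ 1) :
    ∑ i, psi (r i) u ^ 2 * psi (r i) y =
      -((Subgroup.centralizer ((P : Subgroup G) : Set G)).relIndex
        (Subgroup.normalizer ((P : Subgroup G) : Set G)) : ℂ) ^ 2 := by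
  cases nonempty_fintype (Subgroup.normalizer ((P : Subgroup G) : Set G))
  set c : ℂ := (Nat.card (Subgroup.centralizer ((P : Subgroup G) : Set G)) : ℂ) with hc
  have hc0 : c ≠ 0 := Nat.cast_ne_zero.2 Nat.card_pos.ne'
  set g : ((P : Subgroup G) →* ℂˣ) → ℂ := fun b => c⁻¹ *
    ∑ n : Subgroup.normalizer ((P : Subgroup G) : Set G), (b ((nc n).symm u) : ℂ) with hg
  have htot : ∑ b, g b ^ 2 * (b y : ℂ) = 0 := by
    simp only [hg, mul_pow, sq (∑ n : Subgroup.normalizer ((P : Subgroup G) : Set G), _), sum_mul,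
      mul_sum]
    rw [sum_comm]
    refine sum_eq_zero fun n _ => ?_
    rw [sum_comm]
    refine sum_eq_zero fun k _ => ?_
    have h0 := h.sum_dual_apply (huy n k)
    rw [← mul_zero (c⁻¹ ^ 2), ← h0, mul_sum]
    exact sum_congr rfl fun b _ => by push_cast [map_mul]; ring
  have hgpsi : ∀ b, b ≠ 1 → g b = psi b u := by
    intro b hb
    rw [hg, inv_mul_eq_iff_eq_mul₀ hc0, psi_eq_sum, mul_sum,
      ← sum_fiberwise_of_maps_to (g := fun n => act n b) (t := univ) (fun n _ => mem_univ _),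
      sum_filter]
    refine sum_congr rfl fun b' _ => ?_
    rw [sum_congr rfl (g := fun _ => (b' u : ℂ)) fun n hn => by
      rw [← (mem_filter.1 hn).2]; rfl, sum_const, nsmul_eq_mul, ← Fintype.card_subtype,
      ← Nat.card_eq_fintype_card, h.card_act hb]
    split_ifs
    · rfl
    · simp
  have hg1 : g 1 = ((Subgroup.centralizer ((P : Subgroup G) : Set G)).relIndex
      (Subgroup.normalizer ((P : Subgroup G) : Set G)) : ℂ) := by
    simp only [hg, MonoidHom.one_apply, Units.val_one, sum_const, card_univ, nsmul_eq_mul, mul_one]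
    rw [inv_mul_eq_iff_eq_mul₀ hc0, ← Nat.card_eq_fintype_card,
      ← Subgroup.card_mul_index ((Subgroup.centralizer ((P : Subgroup G) : Set G)).subgroupOf
      (Subgroup.normalizer ((P : Subgroup G) : Set G))), Nat.card_congr (Subgroup.subgroupOfEquivOfLe
      (Subgroup.centralizer_le_normalizer ((P : Subgroup G) : Set G))).toEquiv, Nat.cast_mul]
    rfl
  rw [h.sum_reps r hr1 hr, hg1, MonoidHom.one_apply, Units.val_one, mul_one] at htot
  rw [← eq_neg_of_add_eq_zero_right htot]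
  refine sum_congr rfl fun i _ => ?_
  rw [psi_eq_sum (r i) y, mul_sum]
  refine sum_congr rfl fun b hb => ?_
  rw [hgpsi b (rel_ne_one (mem_filter.1 hb).2 (hr1 i)), psi_congr (mem_filter.1 hb).2]

/-- With an automizer of order three the constant of the exceptional family can be taken zero. -/
theorem Hyp.exists_family_three (h : Hyp P) (hM : IsPModular p M)
    (hP1 : Nat.card (P : Subgroup G) ≠ 1)
    (hm : (Subgroup.centralizer ((P : Subgroup G) : Set G)).relIndex
      (Subgroup.normalizer ((P : Subgroup G) : Set G)) = 3)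
    (hm2 : 3 + 1 < Nat.card (P : Subgroup G)) :
    ∃ (t : ℕ) (r : Fin t → (P : Subgroup G) →* ℂˣ) (μ : Fin t → IrrCharacter G) (δ : ℤ)
      (a : IrrCharacter G → ℤ),
      2 ≤ t ∧ 3 * t = Nat.card (P : Subgroup G) - 1 ∧ (δ = 1 ∨ δ = -1) ∧
      (∀ i, r i ≠ 1) ∧ (∀ ψ, ψ ≠ 1 → ∃! i, Rel (r i) ψ) ∧ Function.Injective μ ∧
      (∀ i, μ i ∈ principalBlock M G ∧ (μ i : G → ℂ) ≠ fun _ => 1) ∧
      Nat.card ↥(principalBlock M G \ Set.range μ) = 3 ∧
      (∀ χ ∈ principalBlock M G, χ ∉ Set.range μ → a χ = 1 ∨ a χ = -1) ∧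
      (∀ χ ∈ principalBlock M G, ∀ z y : G, IsPPart p z y → ∀ hy : y ∈ (P : Subgroup G), y ≠ 1 →
        (χ ∉ Set.range μ → (χ : G → ℂ) z = (a χ : ℂ)) ∧
        ∀ i, χ = μ i → (χ : G → ℂ) z = (δ : ℂ) * psi (r i) ⟨y, hy⟩) ∧
      (∀ i j, ∀ g : G, ¬ p ∣ orderOf g → (μ i : G → ℂ) g = (μ j : G → ℂ) g) ∧
      (∀ i, ∀ g : G, ¬ p ∣ orderOf g → -(δ : ℂ) * (μ i : G → ℂ) g +
        ∑ᶠ χ ∈ principalBlock M G \ Set.range μ, (a χ : ℂ) * (χ : G → ℂ) g = 0) := by
  classical
  obtain ⟨t, r, μ, δ, d, a, ht2, ht, hδ, hr1, hr, hμ, hμB, -, ha0, hval, hnorm, hreg, hlin⟩ :=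
    h.exists_family hM hP1 hm hm2
  have htriv : (⟨fun _ => 1, isIrrCharacter_one⟩ : IrrCharacter G) ∈
      principalBlock M G \ Set.range μ :=
    ⟨fun g => by simpa using memLocalIdeal_zero hM,
      fun ⟨i, hi⟩ => (hμB i).2 (congrArg Subtype.val hi)⟩
  set X := principalBlock M G \ Set.range μ with hX
  have hle : ∀ χ ∈ X.toFinite.toFinset, (1 : ℤ) ≤ a χ ^ 2 := fun χ hχ => by
    rw [Set.Finite.mem_toFinset] at hχ
    nlinarith [mul_self_pos.2 (ha0 χ hχ.1 hχ.2)]
  rw [finsum_mem_eq_finite_toFinset_sum _ X.toFinite] at hnorm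
  have hpos : 1 ≤ ∑ χ ∈ X.toFinite.toFinset, a χ ^ 2 :=
    (hle _ ((Set.Finite.mem_toFinset _).2 htriv)).trans
      (single_le_sum (f := fun χ => a χ ^ 2) (fun χ _ => sq_nonneg _)
        ((Set.Finite.mem_toFinset _).2 htriv))
  have htZ : (2 : ℤ) ≤ t := by exact_mod_cast ht2
  have hcase : d = 0 ∨ (d = δ ∧ t = 2) := by
    by_contra hc
    push Not at hc
    obtain ⟨hd, hdt⟩ := hc
    have h1 : (t : ℤ) - 1 ≤ ((t : ℤ) - 1) * d ^ 2 := le_mul_of_one_le_right (by omega)
      (by nlinarith [mul_self_pos.2 hd])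
    have hd1 : d = δ := by
      have h2 : d ^ 2 ≤ ((t : ℤ) - 1) * d ^ 2 := le_mul_of_one_le_left (sq_nonneg d) (by omega)
      push_cast at hnorm
      have hb : -1 ≤ d ∧ d ≤ 1 := ⟨by nlinarith [sq_nonneg (d - δ)], by nlinarith [sq_nonneg (d - δ)]⟩
      obtain ⟨hb1, hb2⟩ := hb
      interval_cases d
      · rcases hδ with rfl | rfl
        · linarith
        · rfl
      · exact absurd rfl hd
      · rcases hδ with rfl | rfl
        · rfl
        · linarith
    have ht' := hdt hd1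
    subst hd1
    have hd2 : d ^ 2 = 1 := by rcases hδ with rfl | rfl <;> norm_num
    rw [hd2, sub_self] at hnorm
    have : t = 3 ∨ t = 4 := by push_cast at hnorm; omega
    rcases this with rfl | rfl
    · obtain ⟨k, hk⟩ := IsPGroup.iff_card.1 P.isPGroup'
      have h10 : p ^ k = 10 := by omega
      have h2 := (Nat.prime_dvd_prime_iff_eq Nat.prime_two Fact.out).1
        (Nat.prime_two.dvd_of_dvd_pow (h10 ▸ (by norm_num : 2 ∣ 10) : 2 ∣ p ^ k))
      have h5 := (Nat.prime_dvd_prime_iff_eq (by norm_num : Nat.Prime 5) Fact.out).1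
        ((by norm_num : Nat.Prime 5).dvd_of_dvd_pow (h10 ▸ (by norm_num : 5 ∣ 10) : 5 ∣ p ^ k))
      omega
    · push_cast at hnorm
      set T : IrrCharacter G := ⟨fun _ => 1, isIrrCharacter_one⟩ with hT
      have hone : X.toFinite.toFinset = {T} := by
        refine eq_singleton_iff_unique_mem.2 ⟨(Set.Finite.mem_toFinset _).2 htriv, fun χ hχ => ?_⟩
        by_contra hne
        have h12 := sum_le_sum_of_subset_of_nonneg (f := fun χ => a χ ^ 2)
          (show ({χ, T} : Finset (IrrCharacter G)) ⊆ X.toFinite.toFinset from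
            insert_subset hχ (singleton_subset_iff.2 ((Set.Finite.mem_toFinset _).2 htriv)))
          (fun χ _ _ => sq_nonneg _)
        rw [sum_pair hne] at h12
        have := hle χ hχ
        have := hle T ((Set.Finite.mem_toFinset _).2 htriv)
        linarith
      rw [hone, sum_singleton] at hnorm
      have haT : a T = 1 ∨ a T = -1 := sq_eq_one_iff.1 (by linarith)
      have h4 := hlin 0 1 (by simpa using (Fact.out : p.Prime).ne_one)
      rw [finsum_mem_eq_finite_toFinset_sum _ X.toFinite, hone, sum_singleton,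
        apply_one_eq_charDegree, show (T : G → ℂ) 1 = 1 from rfl, mul_one] at h4
      have h5 : ((4 : ℤ) * d - d) * (charDegree (μ 0 : G → ℂ) : ℤ) + a T = 0 := by
        have : (((4 : ℤ) * d - d) * (charDegree (μ 0 : G → ℂ) : ℤ) + a T : ℂ) = 0 := by
          push_cast
          push_cast at h4
          linear_combination h4
        exact_mod_cast this
      rcases hδ with rfl | rfl <;> omega
  have hsum : ∑ χ ∈ X.toFinite.toFinset, a χ ^ 2 = 3 := by
    rcases hcase with rfl | ⟨rfl, rfl⟩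
    · rcases hδ with rfl | rfl <;> push_cast at hnorm <;> nlinarith
    · rcases hδ with rfl | rfl <;> push_cast at hnorm <;> nlinarith
  have hall : ∀ χ ∈ X.toFinite.toFinset, a χ ^ 2 = 1 := by
    intro χ hχ
    by_contra hne
    have h4 : 4 ≤ a χ ^ 2 := by
      have h2 : 2 ≤ a χ ∨ a χ ≤ -2 := by
        by_contra hc
        push Not at hc
        have : a χ = 1 ∨ a χ = 0 ∨ a χ = -1 := by omega
        rcases this with e | e | e
        · exact hne (by rw [e]; norm_num)
        · have := hle χ hχ; rw [e] at this; norm_num at this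
        · exact hne (by rw [e]; norm_num)
      rcases h2 with e | e <;> nlinarith
    have := single_le_sum (f := fun χ => a χ ^ 2) (fun χ _ => sq_nonneg _) hχ
    omega
  have hcard : Nat.card X = 3 := by
    rw [sum_congr rfl hall, sum_const, nsmul_eq_mul, mul_one] at hsum
    rw [Nat.card_coe_set_eq, Set.ncard_eq_toFinset_card _ X.toFinite]
    exact_mod_cast hsum
  have hpm : ∀ χ ∈ principalBlock M G, χ ∉ Set.range μ → a χ = 1 ∨ a χ = -1 := fun χ h1 h2 => by
    have := hall χ ((Set.Finite.mem_toFinset _).2 ⟨h1, h2⟩)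
    exact sq_eq_one_iff.1 this
  rcases hcase with rfl | ⟨rfl, rfl⟩
  · refine ⟨t, r, μ, δ, a, ht2, ht, hδ, hr1, hr, hμ, hμB, hcard, hpm, fun χ hχ z y hz hy hy1 =>
      ⟨(hval χ hχ z y hz hy hy1).1, fun i hi => ?_⟩, hreg, fun i g hg => ?_⟩
    · rw [(hval χ hχ z y hz hy hy1).2 i hi, Int.cast_zero, zero_add]
    · have := hlin i g hg
      rwa [Int.cast_zero, mul_zero, zero_sub] at this
  · cases nonempty_fintype ((P : Subgroup G) →* ℂˣ)
    let σ : Fin 2 ≃ Fin 2 := Equiv.swap 0 1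
    have hrange : Set.range (μ ∘ σ) = Set.range μ := σ.surjective.range_comp μ
    refine ⟨2, r, μ ∘ σ, -d, a, le_rfl, ht, by omega, hr1, hr, hμ.comp σ.injective,
      fun i => hμB (σ i), by rw [hrange]; exact hcard, by rw [hrange]; exact hpm,
      fun χ hχ z y hz hy hy1 => ⟨by rw [hrange]; exact (hval χ hχ z y hz hy hy1).1, fun i hi => ?_⟩,
      fun i j g hg => hreg (σ i) (σ j) g hg, fun i g hg => ?_⟩
    · rw [(hval χ hχ z y hz hy hy1).2 (σ i) hi]
      have h2 := h.sum_reps r hr1 hr (fun b => (b ⟨y, hy⟩ : ℂ))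
      rw [h.sum_dual_apply (fun e => hy1 (congrArg Subtype.val e)), Fin.sum_univ_two] at h2
      simp only [MonoidHom.one_apply, Units.val_one] at h2
      have e : psi (r (σ i)) ⟨y, hy⟩ + psi (r i) ⟨y, hy⟩ = -1 := by
        fin_cases i <;> simp [σ, psi_eq_sum] <;> linear_combination -h2
      push_cast
      linear_combination (d : ℂ) * e
    · have := hlin (σ i) g hg
      rw [hrange]
      push_cast at this ⊢
      rw [← this]
      show - -(d : ℂ) * (μ (σ i) : G → ℂ) g + _ = _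
      ring

/-- If every class function orthogonal relation holds on a section, it holds in the principal block. -/
theorem principal_sum_eq_zero [Fintype G] (hM : IsPModular p M) {x : G}
    (hx : ∃ k, orderOf x = p ^ k) (w : IrrCharacter G → ℂ)
    (h : ∀ z, IsPPart p z x → ∑ ζ : IrrCharacter G, w ζ * (ζ : G → ℂ) z = 0) :
    ∑ᶠ ζ ∈ principalBlock M G, w ζ * (ζ : G → ℂ) x = 0 := by
  classical
  obtain ⟨e, he⟩ := hx
  set H := Subgroup.centralizer ({x} : Set G)
  let _ : Fintype H := Fintype.ofFinite _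
  set b := principalBlock M H with hb
  have h1 : ¬ p ∣ orderOf (1 : H) := by simpa using (Fact.out : p.Prime).ne_one
  have hP : ∀ ζ : IrrCharacter G, (if ζ ∈ principalBlock M G then (ζ : G → ℂ) x else 0) =
      (Nat.card H : ℂ)⁻¹ * ∑ c : H, (ζ : G → ℂ) (x * (c : G)) * blockKernel b 1 c := by
    intro ζ
    have h2 := Cores.principal_part_eq hM he ζ 1 h1
    rw [OneMemClass.coe_one, mul_one] at h2
    rw [← h2]
    simp only [classInner_def, blockKernel, finsum_mem_eq_sum_ite, Finset.mul_sum, Finset.sum_mul]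
    rw [Finset.sum_comm]
    refine Finset.sum_congr rfl fun c _ => ?_
    rw [Finset.sum_filter]
    refine Finset.sum_congr rfl fun ψ _ => ?_
    simp only [hb, H]
    split_ifs
    · ring
    · simp
  rw [finsum_mem_eq_sum_ite, sum_congr rfl fun ζ _ => show
    (if ζ ∈ principalBlock M G then w ζ * (ζ : G → ℂ) x else 0) =
      w ζ * ((Nat.card H : ℂ)⁻¹ * ∑ c : H, (ζ : G → ℂ) (x * (c : G)) * blockKernel b 1 c) by
    rw [← hP ζ]; split_ifs <;> simp]
  simp only [mul_sum]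
  rw [sum_comm]
  refine sum_eq_zero fun c _ => ?_
  by_cases hc : p ∣ orderOf c
  · refine sum_eq_zero fun ζ _ => ?_
    rw [blockKernel_eq_zero_of_regular_of_singular hM (isPBlock_principalBlock M) h1 hc]
    ring
  · have h2 := h (x * (c : G)) ⟨c, rfl, (Subgroup.mem_centralizer_singleton_iff.1 c.2).symm,
      ⟨e, he⟩, by rwa [Subgroup.orderOf_coe]⟩
    rw [sum_congr rfl fun ζ _ => show
      w ζ * ((Nat.card H : ℂ)⁻¹ * ((ζ : G → ℂ) (x * (c : G)) * blockKernel b 1 c)) =
        (Nat.card H : ℂ)⁻¹ * blockKernel b 1 c * (w ζ * (ζ : G → ℂ) (x * (c : G))) by ring,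
      ← mul_sum, h2, mul_zero]

/-- A product of two involutions in a section inverts the element of the section. -/
theorem conj_eq_inv_of_section {a z y : G} (ha : a * a = 1) (hb : (a⁻¹ * z) * (a⁻¹ * z) = 1)
    (hz : IsPPart p z y) : a * y * a⁻¹ = y⁻¹ := by
  have ha' : a⁻¹ = a := inv_eq_of_mul_eq_one_right ha
  have h1 : a * z * a⁻¹ = z⁻¹ := by
    rw [ha'] at hb ⊢
    refine eq_inv_of_mul_eq_one_left ?_
    calc a * z * a * z = (a * z) * (a * z) := by group
      _ = 1 := hb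
  have h2 := pPart_conj (p := p) z a
  rw [h1, pPart_inv, pPart_eq_of_isPPart hz] at h2
  exact h2.symm

/-- With an automizer of order three only involutions are conjugate to their inverses. -/
theorem Hyp.sq_eq_one (h : Hyp P)
    (hm : (Subgroup.centralizer ((P : Subgroup G) : Set G)).relIndex
      (Subgroup.normalizer ((P : Subgroup G) : Set G)) = 3)
    {y : G} (hy : y ∈ (P : Subgroup G)) (hy1 : y ≠ 1) {a : G} (ha : a * y * a⁻¹ = y⁻¹) :
    y * y = 1 := by
  obtain ⟨n, hn, hny⟩ := h.fusion hy ((P : Subgroup G).inv_mem hy) (isConj_iff.2 ⟨a, ha⟩)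
  set N := Subgroup.normalizer ((P : Subgroup G) : Set G)
  set C := Subgroup.centralizer ((P : Subgroup G) : Set G) with hC
  have : (C.subgroupOf N).Normal := ⟨fun c hc k => by
    rw [Subgroup.mem_subgroupOf] at hc ⊢
    rw [hC, Subgroup.mem_centralizer_iff] at hc ⊢
    intro z hz
    have hz' : (k : G)⁻¹ * z * k ∈ (P : Subgroup G) := by
      have := (Subgroup.mem_normalizer_iff.1 (N.inv_mem k.2) z).1 hz
      simpa using this
    have h2 := hc _ hz'
    push_cast
    calc z * ((k : G) * c * (k : G)⁻¹) = (k : G) * ((k : G)⁻¹ * z * k * c) * (k : G)⁻¹ := by group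
      _ = (k : G) * ((c : G) * ((k : G)⁻¹ * z * k)) * (k : G)⁻¹ := by rw [h2]
      _ = (k : G) * c * (k : G)⁻¹ * z := by group⟩
  have h3 : (⟨n, hn⟩ : N) ^ 3 ∈ C.subgroupOf N := by
    have := Subgroup.pow_index_mem (C.subgroupOf N) (⟨n, hn⟩ : N)
    rwa [show (C.subgroupOf N).index = 3 from hm] at this
  have h2 : n * n ∈ C := by
    rw [hC, ← h.free y hy hy1]
    refine ⟨Subgroup.mem_centralizer_singleton_iff.2 (mul_inv_eq_iff_eq_mul.1 ?_), N.mul_mem hn hn⟩
    calc n * n * y * (n * n)⁻¹ = n * (n * y * n⁻¹) * n⁻¹ := by group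
      _ = y := by rw [hny, ← conj_inv, hny, inv_inv]
  have hnC : n ∈ C := by
    rw [Subgroup.mem_subgroupOf, SubmonoidClass.coe_pow] at h3
    have := C.mul_mem (C.inv_mem h2) h3
    simpa [pow_succ, mul_assoc] using this
  rw [show n * y * n⁻¹ = y by
    rw [← Subgroup.mem_centralizer_iff.1 hnC y hy, mul_inv_cancel_right]] at hny
  exact mul_eq_one_iff_eq_inv.2 hny

/-- The quadratic identity behind the perfect square. -/
theorem square_of_relations {A2 A3 A4 B2 B3 B4 : ℤ} (hA2 : A2 ≠ 0) (hA3 : A3 ≠ 0) (hA4 : A4 ≠ 0)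
    (hA : 1 + A2 + A3 + A4 = 0) (hB : 1 + B2 + B3 + B4 = 0) (h3 : B3 ≠ A3)
    (hS : 1 + (B2 : ℂ) ^ 2 / A2 + (B3 : ℂ) ^ 2 / A3 + (B4 : ℂ) ^ 2 / A4 = 0) :
    IsSquare (A2 * A3 * A4) := by
  have hA2' : (A2 : ℂ) ≠ 0 := Int.cast_ne_zero.2 hA2
  have hA3' : (A3 : ℂ) ≠ 0 := Int.cast_ne_zero.2 hA3
  have hA4' : (A4 : ℂ) ≠ 0 := Int.cast_ne_zero.2 hA4
  field_simp at hS
  have hZ : A2 * A3 * A4 + B2 ^ 2 * A3 * A4 + B3 ^ 2 * A2 * A4 + B4 ^ 2 * A2 * A3 = 0 := by
    have : ((A2 * A3 * A4 + B2 ^ 2 * A3 * A4 + B3 ^ 2 * A2 * A4 + B4 ^ 2 * A2 * A3 : ℤ) : ℂ) = 0 := by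
      push_cast
      linear_combination hS
    exact_mod_cast this
  have hw : (A3 * (A2 + A4) * (B2 - A2) + A2 * A3 * (B3 - A3)) ^ 2 =
      A2 * A3 * A4 * (B3 - A3) ^ 2 := by
    have e4 : A4 = -1 - A2 - A3 := by linarith
    have f4 : B4 = -1 - B2 - B3 := by linarith
    subst e4 f4
    linear_combination (A3 * (A2 + (-1 - A2 - A3))) * hZ
  obtain ⟨q, hq⟩ := (Int.pow_dvd_pow_iff two_ne_zero).1
    (show (B3 - A3) ^ 2 ∣ (A3 * (A2 + A4) * (B2 - A2) + A2 * A3 * (B3 - A3)) ^ 2 from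
      ⟨A2 * A3 * A4, by rw [hw, mul_comm]⟩)
  refine ⟨q, mul_right_cancel₀ (pow_ne_zero 2 (sub_ne_zero.2 h3)) ?_⟩
  rw [← hw, hq]
  ring

/-- A character with a generating involution in its kernel is trivial. -/
theorem apply_ne_one [Fintype G] {t : G} (hgen : ∀ K : Subgroup G, K.Normal → t ∈ K → K = ⊤)
    {χ : IrrCharacter G} (hχ : (χ : G → ℂ) ≠ fun _ => 1) : (χ : G → ℂ) t ≠ (χ : G → ℂ) 1 := by
  intro ht
  obtain ⟨K, hKn, hK, -⟩ := IsChar.exists_kernel (IsIrr.isCharacter χ.2)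
  have htop := hgen K hKn ((hK t).2 ht)
  have h0 := classInner_irr_of_ne χ.2 isIrrCharacter_one hχ
  rw [classInner_def, sum_congr rfl (g := fun _ => (χ : G → ℂ) 1)
    (fun g _ => by rw [map_one, mul_one, (hK g).mp (htop ▸ Subgroup.mem_top g)]), sum_const,
    card_univ, nsmul_eq_mul, ← Nat.card_eq_fintype_card, ← mul_assoc,
    inv_mul_cancel₀ (CharInduce.card_ne_zero_complex G), one_mul] at h0
  exact IsIrr.one_ne_zero χ.2 h0

end Cfsg.Agent.H25.Exc
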