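import Cfsg.Agent.PGroups.Extraspecial
import Mathlib.GroupTheory.SpecificGroups.Cyclic

/-!
# Isomorphism types of extraspecial groups

A group of class at most 2 with centre of order `p` is a central product of `⟨x, y⟩` and the
centraliser of `{x, y}`; this determines it up to isomorphism.
-/

set_option autoImplicit false

namespace Cfsg.Agent.H25

open Subgroup
open scoped commutatorElement

universe u v w

/-- Class at most two, centre of order `p`, `p`-th powers central. -/
structure ExtraLike (p : ℕ) (G : Type u) [Group G] : Prop where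
  comm_le : commutator G ≤ center G
  card_center : Nat.card (center G) = p
  pow_mem : ∀ x : G, x ^ p ∈ center G

variable {p : ℕ} {G : Type u} [Group G] {G' : Type v} [Group G']

theorem ExtraLike.commutator_mem (h : ExtraLike p G) (a b : G) : ⁅a, b⁆ ∈ center G :=
  PGroups.commutatorElement_mem_center h.comm_le a b

theorem ExtraLike.mem_cen (_h : ExtraLike p G) {z : G} (hz : z ∈ center G) (S : Set G) :
    z ∈ centralizer S :=
  center_le_centralizer S hz

theorem extraLike_of_extraspecial [Fact p.Prime] [Finite G] (h : Cfsg.IsExtraspecial p G) :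
    ExtraLike p G :=
  ⟨PGroups.isSpecial_commutator_le h.1, h.2, PGroups.isSpecial_pow_mem_center h.1⟩

/-- Normal form map for a pair of generators and the centraliser. -/
def normForm (x y : G) (a : ℤ × ℤ × centralizer ({x, y} : Set G)) : G :=
  x ^ a.1 * y ^ a.2.1 * (a.2.2 : G)

/-- Commutation with a power, in class two. -/
theorem ExtraLike.comm_zpow_left (h : ExtraLike p G) (a c : G) (i : ℤ) :
    ⁅a ^ i, c⁆ = ⁅a, c⁆ ^ i := by
  rw [← PGroups.commutatorHom_apply h.comm_le c a, ← PGroups.commutatorHom_apply h.comm_le c (a ^ i),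
    map_zpow, Subgroup.coe_zpow]

theorem ExtraLike.comm_mul_left (h : ExtraLike p G) (a b c : G) :
    ⁅a * b, c⁆ = ⁅a, c⁆ * ⁅b, c⁆ :=
  PGroups.commutatorElement_mul_left_of_mem_center (h.commutator_mem b c)

theorem ExtraLike.comm_mul_right (h : ExtraLike p G) (a b c : G) :
    ⁅a, b * c⁆ = ⁅a, b⁆ * ⁅a, c⁆ :=
  PGroups.commutatorElement_mul_right_of_mem_center (h.commutator_mem a c)

theorem ExtraLike.comm_zpow_right (h : ExtraLike p G) (a c : G) (i : ℤ) :
    ⁅a, c ^ i⁆ = ⁅a, c⁆ ^ i := by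
  rw [← commutatorElement_inv (c ^ i) a, h.comm_zpow_left, ← inv_zpow, commutatorElement_inv]

theorem ExtraLike.normForm_mul (h : ExtraLike p G) (x y : G)
    (i j k l : ℤ) (c d : centralizer ({x, y} : Set G)) :
    normForm x y (i, j, c) * normForm x y (k, l, d) =
      normForm x y (i + k, j + l,
        ⟨⁅y, x⁆, h.mem_cen (h.commutator_mem y x) _⟩ ^ (j * k) * c * d) := by
  obtain ⟨hcx, hcy⟩ := PGroups.mem_centralizer_pair.mp c.2
  have c1 : Commute (c : G) x := commutatorElement_eq_one_iff_commute.mp hcx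
  have c2 : Commute (c : G) y := commutatorElement_eq_one_iff_commute.mp hcy
  have hz : ⁅y ^ j, x ^ k⁆ = ⁅y, x⁆ ^ (j * k) := by
    rw [h.comm_zpow_left, h.comm_zpow_right, ← zpow_mul, mul_comm k j]
  have hzc : ∀ g : G, Commute (⁅y, x⁆ ^ (j * k)) g := fun g =>
    PGroups.commute_of_mem_center (zpow_mem (h.commutator_mem y x) _) g
  simp only [normForm, Subgroup.coe_mul, Subgroup.coe_zpow]
  calc x ^ i * y ^ j * (c : G) * (x ^ k * y ^ l * (d : G))
      = x ^ i * y ^ j * ((c : G) * (x ^ k * y ^ l)) * d := by group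
    _ = x ^ i * y ^ j * ((x ^ k * y ^ l) * c) * d := by
        rw [((c1.zpow_right k).mul_right (c2.zpow_right l)).eq]
    _ = x ^ i * (y ^ j * x ^ k) * y ^ l * (c : G) * d := by group
    _ = x ^ i * (⁅y ^ j, x ^ k⁆ * x ^ k * y ^ j) * y ^ l * (c : G) * d := by group
    _ = x ^ i * (x ^ k * (y ^ j * y ^ l)) * ⁅y, x⁆ ^ (j * k) * (c : G) * d := by
        rw [hz, mul_assoc (⁅y, x⁆ ^ (j * k)), (hzc (x ^ k * y ^ j)).eq]
        simp only [mul_assoc]
        rw [← mul_assoc (⁅y, x⁆ ^ (j * k)) (y ^ l), (hzc (y ^ l)).eq, mul_assoc]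
    _ = x ^ (i + k) * y ^ (j + l) * (⁅y, x⁆ ^ (j * k) * c * d) := by
        rw [zpow_add, zpow_add]; simp only [mul_assoc]

theorem ExtraLike.normForm_surjective [Finite G] [Fact p.Prime] (h : ExtraLike p G) {x y : G}
    (hxy : ⁅x, y⁆ ≠ 1) : Function.Surjective (normForm x y) := by
  intro g
  obtain ⟨i, j, hij⟩ := (PGroups.centralizer_pair h.comm_le h.card_center hxy).1 g
  -- `g = (x^i y^j)⁻¹ c` and `(x^i y^j)⁻¹` is a normal form
  have h1 : (x ^ i * y ^ j)⁻¹ = x ^ (-i) * y ^ (-j) * ⁅y ^ (-j), x ^ (-i)⁆ := by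
    have hc := h.commutator_mem (y ^ (-j)) (x ^ (-i))
    rw [(PGroups.commute_of_mem_center hc _).eq.symm]
    simp [commutatorElement_def, mul_assoc, zpow_neg]
  refine ⟨(-i, -j, ⟨_, mul_mem (h.mem_cen (h.commutator_mem (y ^ (-j)) (x ^ (-i))) _) hij⟩), ?_⟩
  simp only [normForm]
  rw [← mul_assoc, ← h1, inv_mul_cancel_left]

theorem ExtraLike.normForm_eq_iff [Finite G] [Fact p.Prime] (h : ExtraLike p G) {x y : G}
    (hxy : ⁅x, y⁆ ≠ 1) (i j k l : ℤ) (c d : centralizer ({x, y} : Set G)) :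
    normForm x y (i, j, c) = normForm x y (k, l, d) ↔
      ∃ s t : ℤ, i = k + (p : ℤ) * s ∧ j = l + (p : ℤ) * t ∧
        (⟨x ^ p, h.mem_cen (h.pow_mem x) _⟩ : centralizer ({x, y} : Set G)) ^ s *
          ⟨y ^ p, h.mem_cen (h.pow_mem y) _⟩ ^ t * c = d := by
  have hord : orderOf ⁅x, y⁆ = p := by
    rw [← Nat.card_zpowers,
      PGroups.zpowers_eq_of_card_eq h.card_center (h.commutator_mem x y) hxy, h.card_center]
  have hord' : orderOf ⁅y, x⁆ = p := by rw [← commutatorElement_inv, orderOf_inv, hord]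
  have hsplit : ∀ (s t : ℤ) (k l : ℤ), x ^ (k + (p : ℤ) * s) * y ^ (l + (p : ℤ) * t) =
      x ^ k * y ^ l * ((x ^ p) ^ s * (y ^ p) ^ t) := by
    intro s t k l
    have hxs := PGroups.commute_of_mem_center (zpow_mem (h.pow_mem x) s)
    rw [zpow_add, zpow_add, zpow_mul, zpow_mul, zpow_natCast, zpow_natCast,
      mul_assoc (x ^ k), ← mul_assoc ((x ^ p) ^ s), (hxs (y ^ l)).eq]
    simp only [mul_assoc]
  constructor
  · intro he
    have hcomm : ∀ (i j : ℤ) (c : centralizer ({x, y} : Set G)),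
        ⁅normForm x y (i, j, c), y⁆ = ⁅x, y⁆ ^ i ∧ ⁅normForm x y (i, j, c), x⁆ = ⁅y, x⁆ ^ j := by
      intro i j c
      obtain ⟨hcx, hcy⟩ := PGroups.mem_centralizer_pair.mp c.2
      simp only [normForm]
      constructor
      · rw [h.comm_mul_left, h.comm_mul_left, hcy, mul_one, h.comm_zpow_left, h.comm_zpow_left,
          commutatorElement_self, one_zpow, mul_one]
      · rw [h.comm_mul_left, h.comm_mul_left, hcx, mul_one, h.comm_zpow_left, h.comm_zpow_left,
          commutatorElement_self, one_zpow, one_mul]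
    have e1 : ⁅x, y⁆ ^ i = ⁅x, y⁆ ^ k := by rw [← (hcomm i j c).1, he, (hcomm k l d).1]
    have e2 : ⁅y, x⁆ ^ j = ⁅y, x⁆ ^ l := by rw [← (hcomm i j c).2, he, (hcomm k l d).2]
    rw [zpow_eq_zpow_iff_modEq, hord, Int.modEq_comm, Int.modEq_iff_dvd] at e1
    rw [zpow_eq_zpow_iff_modEq, hord', Int.modEq_comm, Int.modEq_iff_dvd] at e2
    obtain ⟨s, hs⟩ := e1
    obtain ⟨t, ht⟩ := e2
    refine ⟨s, t, by linarith, by linarith, Subtype.ext ?_⟩
    have he' : x ^ i * y ^ j * (c : G) = x ^ k * y ^ l * (d : G) := he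
    rw [show i = k + (p : ℤ) * s by linarith, show j = l + (p : ℤ) * t by linarith, hsplit,
      mul_assoc (x ^ k * y ^ l)] at he'
    simpa only [Subgroup.coe_mul, Subgroup.coe_zpow] using mul_left_cancel he'
  · rintro ⟨s, t, rfl, rfl, rfl⟩
    simp only [normForm, Subgroup.coe_mul, Subgroup.coe_zpow]
    rw [hsplit, mul_assoc]

/-- Gluing isomorphisms along a pair of generators. -/
theorem glue [Finite G] [Finite G'] [Fact p.Prime] (h : ExtraLike p G) (h' : ExtraLike p G')
    {x y : G} {x' y' : G'} (hxy : ⁅x, y⁆ ≠ 1) (hxy' : ⁅x', y'⁆ ≠ 1)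
    (e : centralizer ({x, y} : Set G) ≃* centralizer ({x', y'} : Set G'))
    (hz : e ⟨⁅y, x⁆, h.mem_cen (h.commutator_mem y x) _⟩ =
      ⟨⁅y', x'⁆, h'.mem_cen (h'.commutator_mem y' x') _⟩)
    (hx : e ⟨x ^ p, h.mem_cen (h.pow_mem x) _⟩ = ⟨x' ^ p, h'.mem_cen (h'.pow_mem x') _⟩)
    (hy : e ⟨y ^ p, h.mem_cen (h.pow_mem y) _⟩ = ⟨y' ^ p, h'.mem_cen (h'.pow_mem y') _⟩) :
    ∃ f : G ≃* G', ∀ c : centralizer ({x, y} : Set G), f c = e c := by
  let τ : ℤ × ℤ × centralizer ({x, y} : Set G) → ℤ × ℤ × centralizer ({x', y'} : Set G') :=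
    fun a => (a.1, a.2.1, e a.2.2)
  have hiff : ∀ a b, normForm x y a = normForm x y b ↔
      normForm x' y' (τ a) = normForm x' y' (τ b) := by
    rintro ⟨i, j, c⟩ ⟨k, l, d⟩
    show normForm x y (i, j, c) = normForm x y (k, l, d) ↔
      normForm x' y' (i, j, e c) = normForm x' y' (k, l, e d)
    rw [h.normForm_eq_iff hxy, h'.normForm_eq_iff hxy']
    refine exists_congr fun s => exists_congr fun t => and_congr_right fun _ =>
      and_congr_right fun _ => ?_
    rw [← hx, ← hy, ← map_zpow, ← map_zpow, ← map_mul, ← map_mul]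
    exact e.injective.eq_iff.symm
  choose σ hσ using h.normForm_surjective hxy
  let f : G →* G' := MonoidHom.mk' (fun g => normForm x' y' (τ (σ g))) fun a b => by
    obtain ⟨i, j, c, hc⟩ : ∃ i j c, σ a = (i, j, c) := ⟨_, _, _, rfl⟩
    obtain ⟨k, l, d, hd⟩ : ∃ k l d, σ b = (k, l, d) := ⟨_, _, _, rfl⟩
    have hm := h.normForm_mul x y i j k l c d
    rw [← hc, ← hd, hσ, hσ, ← hσ (a * b)] at hm
    rw [(hiff _ _).mp hm, hc, hd]
    show normForm x' y' (_, _, e _) = normForm x' y' (i, j, e c) * normForm x' y' (k, l, e d)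
    rw [h'.normForm_mul x' y', map_mul, map_mul, map_zpow, hz]
  have hfb : Function.Bijective f := by
    constructor
    · intro a b hab
      rw [← hσ a, ← hσ b]
      exact (hiff _ _).mpr hab
    · intro g'
      obtain ⟨⟨i, j, c'⟩, rfl⟩ := h'.normForm_surjective hxy' g'
      refine ⟨normForm x y (i, j, e.symm c'), ?_⟩
      show normForm x' y' (τ (σ _)) = _
      rw [(hiff _ (i, j, e.symm c')).mp (hσ _)]
      show normForm x' y' (i, j, e (e.symm c')) = _
      rw [e.apply_symm_apply]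
  refine ⟨MulEquiv.ofBijective f hfb, fun c => ?_⟩
  show normForm x' y' (τ (σ (c : G))) = _
  have hc0 : normForm x y ((0 : ℤ), (0 : ℤ), c) = (c : G) := by simp [normForm]
  rw [(hiff _ ((0 : ℤ), (0 : ℤ), c)).mp (by rw [hσ, hc0])]
  simp [τ, normForm]

/-- The centraliser of a non-commuting pair is again of this kind, and smaller. -/
theorem ExtraLike.centralizer_pair [Finite G] [hp : Fact p.Prime] (h : ExtraLike p G) {x y : G}
    (hxy : ⁅x, y⁆ ≠ 1) :
    ExtraLike p (centralizer ({x, y} : Set G)) ∧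
      Nat.card G = Nat.card (centralizer ({x, y} : Set G)) * p ^ 2 ∧
      ∀ z : centralizer ({x, y} : Set G), z ∈ center (centralizer ({x, y} : Set G)) ↔
        (z : G) ∈ center G := by
  obtain ⟨-, hidx, hcen⟩ := PGroups.centralizer_pair h.comm_le h.card_center hxy
  have hiff : ∀ z : centralizer ({x, y} : Set G), z ∈ center (centralizer ({x, y} : Set G)) ↔
      (z : G) ∈ center G := fun z =>
    ⟨fun hz => hcen _ z.2 fun g hg => congrArg Subtype.val (Subgroup.mem_center_iff.mp hz ⟨g, hg⟩),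
      fun hz => Subgroup.mem_center_iff.mpr fun g => Subtype.ext (Subgroup.mem_center_iff.mp hz g)⟩
  refine ⟨⟨?_, ?_, fun c => (hiff _).mpr ?_⟩, by rw [← hidx, Subgroup.card_mul_index], hiff⟩
  · rw [commutator_eq_closure, Subgroup.closure_le]
    rintro _ ⟨a, b, rfl⟩
    exact (hiff _).mpr (h.commutator_mem (a : G) b)
  · rw [← h.card_center]
    exact Nat.card_congr
      { toFun := fun z => ⟨((z : centralizer ({x, y} : Set G)) : G), (hiff _).mp z.2⟩
        invFun := fun z => ⟨⟨z, h.mem_cen z.2 _⟩, (hiff _).mpr z.2⟩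
        left_inv := fun _ => rfl
        right_inv := fun _ => rfl }
  · rw [Subgroup.coe_pow]; exact h.pow_mem _

/-- In such a group an element outside the centre pairs with another one to any given central value. -/
theorem ExtraLike.exists_pair [Finite G] [hp : Fact p.Prime] (h : ExtraLike p G)
    (hne : ¬ center G = ⊤) {z : G} (hz : z ∈ center G) (hz1 : z ≠ 1) :
    ∃ x y : G, ⁅y, x⁆ = z := by
  obtain ⟨x, -, hx⟩ := SetLike.exists_of_lt (lt_top_iff_ne_top.mpr hne)
  rw [Subgroup.mem_center_iff] at hx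
  push Not at hx
  obtain ⟨y, hy⟩ := hx
  have hyx : ⁅y, x⁆ ≠ 1 := fun h0 => hy (commutatorElement_eq_one_iff_mul_comm.mp h0)
  have hgen := PGroups.zpowers_eq_of_card_eq h.card_center (h.commutator_mem y x) hyx
  obtain ⟨i, hi⟩ := mem_zpowers_iff.mp (hgen ▸ hz)
  exact ⟨x, y ^ i, by rw [h.comm_zpow_left, hi]⟩

theorem center_eq_top_iff_card [Finite G] [hp : Fact p.Prime] (h : ExtraLike p G) :
    center G = ⊤ ↔ Nat.card G = p :=
  ⟨fun e => by rw [← Subgroup.card_top (G := G), ← e]; exact h.card_center,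
    fun e => Subgroup.eq_top_of_card_eq _ (h.card_center.trans e.symm)⟩

/-- Two groups of order `p`: generators correspond. -/
theorem exists_equiv_prime [Finite G] [Finite G'] [hp : Fact p.Prime] (h : Nat.card G = p)
    (h' : Nat.card G' = p) {z : G} (hz : z ≠ 1) {z' : G'} (hz' : z' ≠ 1) :
    ∃ e : G ≃* G', e z = z' := by
  have g1 : ∀ a : G, a ∈ zpowers z := fun a => mem_zpowers_of_prime_card h hz
  have g2 : ∀ a : G', a ∈ zpowers z' := fun a => mem_zpowers_of_prime_card h' hz'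
  have o1 : orderOf z = p := orderOf_eq_card_of_forall_mem_zpowers g1 ▸ h
  have o2 : orderOf z' = p := orderOf_eq_card_of_forall_mem_zpowers g2 ▸ h'
  let f : G →* G' := monoidHomOfForallMemZpowers g1 (g' := z') (by rw [o1, o2])
  have hf : f z = z' := monoidHomOfForallMemZpowers_apply_gen g1 _
  have hs : Function.Surjective f := fun a => by
    obtain ⟨i, rfl⟩ := mem_zpowers_iff.mp (g2 a)
    exact ⟨z ^ i, by rw [map_zpow, hf]⟩
  exact ⟨MulEquiv.ofBijective f (hs.bijective_of_nat_card_le (le_of_eq (h.trans h'.symm))), hf⟩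

/-- Exponent `p`: the group is determined by its order, the isomorphism may carry any central
generator to any other. -/
theorem exists_equiv_exponent [hp : Fact p.Prime] :
    ∀ (N : ℕ) (G : Type u) [Group G] [Finite G] (G' : Type v) [Group G'] [Finite G'],
      Nat.card G ≤ N → Nat.card G = Nat.card G' → ExtraLike p G → ExtraLike p G' →
      (∀ x : G, x ^ p = 1) → (∀ x : G', x ^ p = 1) →
      ∀ z ∈ center G, z ≠ 1 → ∀ z' ∈ center G', z' ≠ 1 → ∃ e : G ≃* G', e z = z' := by
  intro N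
  induction N with
  | zero => intro G _ _ G' _ _ hN; exact absurd Nat.card_pos (not_lt.mpr hN)
  | succ N ih =>
    intro G _ _ G' _ _ hN hcard h h' he he' z hz hz1 z' hz' hz1'
    by_cases hab : center G = ⊤
    · have h1 := (center_eq_top_iff_card h).mp hab
      exact exists_equiv_prime h1 (hcard ▸ h1) hz1 hz1'
    have hab' : ¬ center G' = ⊤ := fun e => hab ((center_eq_top_iff_card h).mpr
      (hcard.trans ((center_eq_top_iff_card h').mp e)))
    obtain ⟨x, y, hxy⟩ := h.exists_pair hab hz hz1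
    obtain ⟨x', y', hxy'⟩ := h'.exists_pair hab' hz' hz1'
    have n1 : ⁅x, y⁆ ≠ 1 := fun e => hz1 (by rw [← hxy, ← commutatorElement_inv, e, inv_one])
    have n2 : ⁅x', y'⁆ ≠ 1 := fun e => hz1' (by rw [← hxy', ← commutatorElement_inv, e, inv_one])
    obtain ⟨hC, hCc, hCz⟩ := h.centralizer_pair n1
    obtain ⟨hC', hCc', hCz'⟩ := h'.centralizer_pair n2
    have hp2 : 1 < p ^ 2 := Nat.one_lt_pow two_ne_zero hp.out.one_lt
    have hlt : Nat.card (centralizer ({x, y} : Set G)) ≤ N := by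
      have : Nat.card (centralizer ({x, y} : Set G)) < Nat.card G := by
        rw [hCc]; exact lt_mul_of_one_lt_right Nat.card_pos hp2
      omega
    obtain ⟨e, hez⟩ := ih (centralizer ({x, y} : Set G)) (centralizer ({x', y'} : Set G')) hlt
      (Nat.eq_of_mul_eq_mul_right (by omega) (hCc.symm.trans (hcard.trans hCc'))) hC hC'
      (fun a => Subtype.ext (he a)) (fun a => Subtype.ext (he' a))
      ⟨⁅y, x⁆, h.mem_cen (h.commutator_mem y x) _⟩ ((hCz _).mpr (h.commutator_mem y x))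
      (fun e => hz1 (by rw [← hxy]; exact congrArg Subtype.val e))
      ⟨⁅y', x'⁆, h'.mem_cen (h'.commutator_mem y' x') _⟩ ((hCz' _).mpr (h'.commutator_mem y' x'))
      (fun e => hz1' (by rw [← hxy']; exact congrArg Subtype.val e))
    have hpow : ∀ (a : G) (a' : G') (ha : a ^ p ∈ centralizer ({x, y} : Set G))
        (ha' : a' ^ p ∈ centralizer ({x', y'} : Set G')), e ⟨a ^ p, ha⟩ = ⟨a' ^ p, ha'⟩ := by
      intro a a' ha ha'
      rw [show (⟨a ^ p, ha⟩ : centralizer ({x, y} : Set G)) = 1 from Subtype.ext (he a), map_one]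
      exact Subtype.ext (he' a').symm
    obtain ⟨f, hf⟩ := glue h h' n1 n2 e hez (hpow x x' _ _) (hpow y y' _ _)
    refine ⟨f, ?_⟩
    have := hf ⟨z, h.mem_cen hz _⟩
    rw [show (⟨z, h.mem_cen hz _⟩ : centralizer ({x, y} : Set G)) =
      ⟨⁅y, x⁆, h.mem_cen (h.commutator_mem y x) _⟩ from Subtype.ext hxy.symm, hez] at this
    rw [← hxy, ← hxy']
    exact this

/-! ### The prime 2 -/

theorem two_unique {H : Type*} [Group H] [Finite H] (h : ExtraLike 2 H) {a b : H}
    (ha : a ∈ center H) (hb : b ∈ center H) (ha1 : a ≠ 1) (hb1 : b ≠ 1) : a = b := by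
  have : Fact (Nat.Prime 2) := ⟨Nat.prime_two⟩
  obtain ⟨i, hi⟩ := mem_zpowers_iff.mp
    ((PGroups.zpowers_eq_of_card_eq h.card_center ha ha1) ▸ hb)
  have h2 : a ^ 2 = 1 := by
    have := Subgroup.pow_mem (center H) ha 2
    exact congrArg Subtype.val (show (⟨a, ha⟩ : center H) ^ 2 = 1 from h.card_center ▸ pow_card_eq_one')
  rcases Int.even_or_odd' i with ⟨k, rfl | rfl⟩
  · rw [zpow_mul, show a ^ (2 : ℤ) = 1 from (zpow_natCast a 2).trans h2, one_zpow] at hi
    exact absurd hi.symm hb1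
  · rw [zpow_add, zpow_mul, show a ^ (2 : ℤ) = 1 from (zpow_natCast a 2).trans h2, one_zpow,
      one_mul, zpow_one] at hi
    exact hi

/-- A pair of the given kind: hyperbolic (squares trivial) or anisotropic (all squares non-trivial). -/
def HasPair (H : Type*) [Group H] (hyp : Bool) : Prop :=
  ∃ x y : H, ⁅x, y⁆ ≠ 1 ∧
    if hyp then x ^ 2 = 1 ∧ y ^ 2 = 1 else x ^ 2 ≠ 1 ∧ y ^ 2 ≠ 1

theorem ExtraLike.sq_mul {H : Type*} [Group H] (h : ExtraLike 2 H) (x y : H) :
    (x * y) ^ 2 = x ^ 2 * y ^ 2 * ⁅y, x⁆ := by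
  have := PGroups.mul_pow_of_commutator_mem_center (h.commutator_mem y x) 2
  simpa using this

/-- Every non-commuting pair can be replaced by a hyperbolic one, or is totally anisotropic. -/
theorem normalize_pair {H : Type*} [Group H] [Finite H] (h : ExtraLike 2 H) {x y : H}
    (hxy : ⁅x, y⁆ ≠ 1) (hx : x ^ 2 = 1 ∨ y ^ 2 = 1) : HasPair H true := by
  have key : ∀ {a b : H}, ⁅a, b⁆ ≠ 1 → a ^ 2 = 1 → HasPair H true := by
    intro a b hab ha
    by_cases hb : b ^ 2 = 1
    · exact ⟨a, b, hab, ha, hb⟩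
    refine ⟨a, a * b, ?_, ha, ?_⟩
    · rw [h.comm_mul_right, commutatorElement_self, one_mul]; exact hab
    · have hba : ⁅b, a⁆ ≠ 1 := fun e => hab (by rw [← commutatorElement_inv, e, inv_one])
      rw [h.sq_mul, ha, one_mul, two_unique h (h.pow_mem b) (h.commutator_mem b a) hb hba, ← sq]
      have := h.card_center ▸ (pow_card_eq_one' (x := (⟨⁅b, a⁆, h.commutator_mem b a⟩ : center H)))
      exact congrArg Subtype.val this
  rcases hx with hx | hy
  · exact key hxy hx
  · exact key (fun e => hxy (by rw [← commutatorElement_inv, e, inv_one])) hy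

theorem exists_pair_two {H : Type*} [Group H] [Finite H] (h : ExtraLike 2 H)
    (hne : ¬ center H = ⊤) :
    (∃ b, HasPair H b) ∧ (8 < Nat.card H → HasPair H true) := by
  have : Fact (Nat.Prime 2) := ⟨Nat.prime_two⟩
  have hfind : ∃ x y : H, ⁅x, y⁆ ≠ 1 := by
    by_contra hall
    push Not at hall
    exact hne (eq_top_iff.mpr fun a _ => Subgroup.mem_center_iff.mpr fun b =>
      commutatorElement_eq_one_iff_mul_comm.mp (hall b a))
  obtain ⟨x, y, hxy⟩ := hfind
  by_cases hs : x ^ 2 = 1 ∨ y ^ 2 = 1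
  · exact ⟨⟨true, normalize_pair h hxy hs⟩, fun _ => normalize_pair h hxy hs⟩
  push Not at hs
  refine ⟨⟨false, x, y, hxy, hs.1, hs.2⟩, fun h8 => ?_⟩
  obtain ⟨hC, hCc, hCz⟩ := h.centralizer_pair hxy
  have hCne : ¬ center (centralizer ({x, y} : Set H)) = ⊤ := fun e => by
    have := (center_eq_top_iff_card hC).mp e
    omega
  obtain ⟨u, -, hu⟩ := SetLike.exists_of_lt (lt_top_iff_ne_top.mpr hCne)
  rw [Subgroup.mem_center_iff] at hu
  push Not at hu
  obtain ⟨v, hv⟩ := hu
  have huv : ⁅(v : H), (u : H)⁆ ≠ 1 := fun e =>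
    hv (Subtype.ext (commutatorElement_eq_one_iff_mul_comm.mp e))
  by_cases hu2 : (v : H) ^ 2 = 1 ∨ (u : H) ^ 2 = 1
  · exact normalize_pair h huv hu2
  push Not at hu2
  obtain ⟨hvx, hvy⟩ := PGroups.mem_centralizer_pair.mp v.2
  refine normalize_pair h (x := x * v) (y := y) ?_ (Or.inl ?_)
  · rw [h.comm_mul_left, hvy, mul_one]; exact hxy
  · rw [h.sq_mul, hvx, mul_one, two_unique h (h.pow_mem x) (h.pow_mem (v : H)) hs.1 hu2.1, ← sq]
    exact congrArg Subtype.val (h.card_center ▸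
      (pow_card_eq_one' (x := (⟨(v : H) ^ 2, h.pow_mem _⟩ : center H))))

/-- Gluing at the prime 2 along pairs of the same kind. -/
theorem equiv_of_pairs {A : Type*} [Group A] [Finite A] {B : Type*} [Group B] [Finite B]
    (hA : ExtraLike 2 A) (hB : ExtraLike 2 B) {x y : A} {x' y' : B} (hxy : ⁅x, y⁆ ≠ 1)
    (hxy' : ⁅x', y'⁆ ≠ 1) (hx : x ^ 2 = 1 ↔ x' ^ 2 = 1) (hy : y ^ 2 = 1 ↔ y' ^ 2 = 1)
    (e : centralizer ({x, y} : Set A) ≃* centralizer ({x', y'} : Set B)) : Nonempty (A ≃* B) := by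
  have : Fact (Nat.Prime 2) := ⟨Nat.prime_two⟩
  obtain ⟨hC, -, hCz⟩ := hA.centralizer_pair hxy
  obtain ⟨hC', -, hCz'⟩ := hB.centralizer_pair hxy'
  have hmap : ∀ (a : centralizer ({x, y} : Set A)) (b : centralizer ({x', y'} : Set B)),
      (a : A) ∈ center A → (b : B) ∈ center B → ((a : A) = 1 ↔ (b : B) = 1) → e a = b := by
    intro a b ha hb hiff
    by_cases h1 : (a : A) = 1
    · rw [show a = 1 from Subtype.ext h1, map_one]
      exact Subtype.ext (hiff.mp h1).symm
    · refine two_unique hC' ?_ ((hCz' b).mpr hb) ?_ fun e' => h1 (hiff.mpr (congrArg Subtype.val e'))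
      · rw [Subgroup.mem_center_iff]
        intro g
        obtain ⟨g, rfl⟩ := e.surjective g
        rw [← map_mul, ← map_mul, Subgroup.mem_center_iff.mp ((hCz a).mpr ha) g]
      · rw [Ne, MulEquiv.map_eq_one_iff]
        exact fun e' => h1 (congrArg Subtype.val e')
  have hne : ∀ {H : Type _} [Group H] {a b : H}, ⁅a, b⁆ ≠ 1 → ⁅b, a⁆ ≠ 1 :=
    fun h e => h (by rw [← commutatorElement_inv, e, inv_one])
  obtain ⟨f, -⟩ := glue hA hB hxy hxy' e
    (hmap _ _ (hA.commutator_mem y x) (hB.commutator_mem y' x')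
      (iff_of_false (hne hxy) (fun e' => hxy' (by rw [← commutatorElement_inv, show ⁅y', x'⁆ = 1 from e', inv_one]))))
    (hmap _ _ (hA.pow_mem x) (hB.pow_mem x') hx)
    (hmap _ _ (hA.pow_mem y) (hB.pow_mem y') hy)
  exact ⟨f⟩

theorem equiv_card_eight {A : Type*} [Group A] [Finite A] {B : Type*} [Group B] [Finite B]
    (hA : ExtraLike 2 A) (hB : ExtraLike 2 B) (ca : Nat.card A = 8) (cb : Nat.card B = 8)
    {b : Bool} (pA : HasPair A b) (pB : HasPair B b) : Nonempty (A ≃* B) := by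
  have : Fact (Nat.Prime 2) := ⟨Nat.prime_two⟩
  obtain ⟨x, y, hxy, hs⟩ := pA
  obtain ⟨x', y', hxy', hs'⟩ := pB
  obtain ⟨hC, hCc, -⟩ := hA.centralizer_pair hxy
  obtain ⟨hC', hCc', -⟩ := hB.centralizer_pair hxy'
  have c1 : Nat.card (centralizer ({x, y} : Set A)) = 2 := by omega
  have c2 : Nat.card (centralizer ({x', y'} : Set B)) = 2 := by omega
  have e := mulEquivOfPrimeCardEq c1 c2
  cases b
  · exact equiv_of_pairs hA hB hxy hxy' (iff_of_false hs.1 hs'.1) (iff_of_false hs.2 hs'.2) e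
  · exact equiv_of_pairs hA hB hxy hxy' (iff_of_true hs.1 hs'.1) (iff_of_true hs.2 hs'.2) e

/-- At most two isomorphism types of each order. -/
theorem two_types :
    ∀ (N : ℕ) (A : Type u) [Group A] [Finite A] (B : Type v) [Group B] [Finite B]
      (C : Type w) [Group C] [Finite C], Nat.card A ≤ N → Nat.card A = Nat.card B →
      Nat.card B = Nat.card C → ExtraLike 2 A → ExtraLike 2 B → ExtraLike 2 C →
      Nonempty (A ≃* B) ∨ Nonempty (B ≃* C) ∨ Nonempty (A ≃* C) := by
  have : Fact (Nat.Prime 2) := ⟨Nat.prime_two⟩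
  intro N
  induction N with
  | zero => intro A _ _ B _ _ C _ _ hN; exact absurd Nat.card_pos (not_lt.mpr hN)
  | succ N ih =>
    intro A _ _ B _ _ C _ _ hN hAB hBC hA hB hC
    by_cases hab : center A = ⊤
    · have h1 := (center_eq_top_iff_card hA).mp hab
      exact Or.inl ⟨mulEquivOfPrimeCardEq h1 (hAB ▸ h1)⟩
    have hnB : ¬ center B = ⊤ := fun e => hab ((center_eq_top_iff_card hA).mpr
      (hAB.trans ((center_eq_top_iff_card hB).mp e)))
    have hnC : ¬ center C = ⊤ := fun e => hab ((center_eq_top_iff_card hA).mpr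
      ((hAB.trans hBC).trans ((center_eq_top_iff_card hC).mp e)))
    by_cases h8 : 8 < Nat.card A
    · obtain ⟨x, y, hxy, hs⟩ := (exists_pair_two hA hab).2 h8
      obtain ⟨x', y', hxy', hs'⟩ := (exists_pair_two hB hnB).2 (hAB ▸ h8)
      obtain ⟨x'', y'', hxy'', hs''⟩ := (exists_pair_two hC hnC).2 (hBC ▸ hAB ▸ h8)
      obtain ⟨kA, cA, -⟩ := hA.centralizer_pair hxy
      obtain ⟨kB, cB, -⟩ := hB.centralizer_pair hxy'
      obtain ⟨kC, cC, -⟩ := hC.centralizer_pair hxy''
      rcases ih (centralizer ({x, y} : Set A)) (centralizer ({x', y'} : Set B))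
        (centralizer ({x'', y''} : Set C)) (by omega) (by omega) (by omega) kA kB kC with
        e | e | e
      · exact Or.inl
          (equiv_of_pairs hA hB hxy hxy' (iff_of_true hs.1 hs'.1) (iff_of_true hs.2 hs'.2) e.some)
      · exact Or.inr (Or.inl
          (equiv_of_pairs hB hC hxy' hxy'' (iff_of_true hs'.1 hs''.1) (iff_of_true hs'.2 hs''.2) e.some))
      · exact Or.inr (Or.inr
          (equiv_of_pairs hA hC hxy hxy'' (iff_of_true hs.1 hs''.1) (iff_of_true hs.2 hs''.2) e.some))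
    · obtain ⟨⟨a, pa⟩, -⟩ := exists_pair_two hA hab
      obtain ⟨⟨b, pb⟩, -⟩ := exists_pair_two hB hnB
      obtain ⟨⟨c, pc⟩, -⟩ := exists_pair_two hC hnC
      have h8A : Nat.card A = 8 := by
        obtain ⟨x, y, hxy, -⟩ := pa
        obtain ⟨kA, cA, -⟩ := hA.centralizer_pair hxy
        have := kA.card_center ▸ Subgroup.card_le_card_group (center (centralizer ({x, y} : Set A)))
        omega
      rcases Decidable.eq_or_ne a b with rfl | n1
      · exact Or.inl (equiv_card_eight hA hB h8A (hAB ▸ h8A) pa pb)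
      rcases Decidable.eq_or_ne b c with rfl | n2
      · exact Or.inr (Or.inl (equiv_card_eight hB hC (hAB ▸ h8A) (hBC ▸ hAB ▸ h8A) pb pc))
      have hac : a = c := by cases a <;> cases b <;> cases c <;> simp_all
      subst hac
      exact Or.inr (Or.inr (equiv_card_eight hA hC h8A (hBC ▸ hAB ▸ h8A) pa pc))

end Cfsg.Agent.H25
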