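import Cfsg.Agent.H24.AbelianPair
import Cfsg.Agent.H83.CentralOrderP
import Cfsg.Agent.H83.MajorSubsection
import Cfsg.Agent.BlockBasic.StabilizerDefect
import Cfsg.Agent.S4698
import Cfsg.Agent.S4710

/-!
# Two-blocks of defect two: local ranks, number of characters, inertial index
-/

set_option linter.unusedSectionVars false

open scoped ComplexConjugate

namespace Cfsg.Agent.H25.KleinDefect

open BlockBasic CharBasic Polynomial

universe u v

variable {G : Type u} [Group G] [Fintype G] [Fact (Nat.Prime 2)] {M : Ideal AlgInt}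

/-- A block of defect at most two of a group with a central involution has rank one. -/
theorem blockRank_eq_one (hM : IsPModular 2 M) {z : G} (hz : z ∈ Subgroup.center G)
    (hzo : orderOf z = 2) {b : Set (IrrCharacter G)} (hb : IsPBlock M b)
    (hd : blockDefect 2 b ≤ 2) : blockRank 2 b = 1 := by
  classical
  have hh : ∀ ψ ∈ b, blockHeight 2 b (ψ : G → ℂ) = 0 := fun ψ hψ => by
    have h := (S4710.result 2 M hM b hb _ rfl).2 ψ hψ
    rcases le_or_gt (blockDefect 2 b) 1 with h1 | h1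
    · exact h.1 h1
    · have := h.2 h1; omega
  set d := blockDefect 2 b
  set T := Finset.univ.filter (fun φ : IrrCharacter G => φ ∈ b ∧ H83.TrivAt z φ) with hT
  have hTb : ∀ {φ}, φ ∈ T → φ ∈ b := fun h => (Finset.mem_filter.1 h).2.1
  have hpos := H83.blockRank_pos hM hb
  have hsum := H83.pow_mul_blockRank hM hb hz hzo
  simp only [Nat.cast_ofNat, ← hT] at hsum
  have hodd : ∀ φ ∈ T, ∀ φ' ∈ T, ¬ (2 : ℤ) ∣ H83.entry 2 b φ φ' := fun φ h1 φ' h2 => by
    have h := H83.not_dvd_entry_of_height_zero hM hb (hTb h1) (hh φ (hTb h1)) (hTb h2)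
    rwa [hh φ' (hTb h2), zero_add, pow_one] at h
  have hrow : ∀ φ ∈ T, H83.entry 2 b φ φ ^ 2 + ((T.erase φ).card : ℤ) ≤
      ∑ φ' ∈ T, H83.entry 2 b φ φ' * H83.entry 2 b φ' φ := by
    intro φ hφ
    rw [← Finset.add_sum_erase T _ hφ, sq]
    refine add_le_add le_rfl ?_
    rw [← nsmul_one, ← Finset.sum_const]
    refine Finset.sum_le_sum fun φ' hφ' => ?_
    have h' := Finset.mem_of_mem_erase hφ'
    rw [H83.entry_symm hM hb (hTb h') (hTb hφ)]
    have : H83.entry 2 b φ φ' ≠ 0 := fun h => hodd φ hφ φ' h' (h ▸ dvd_zero _)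
    nlinarith [mul_self_pos.2 this]
  have hproj : ∀ φ ∈ T, (2 : ℤ) ^ d * H83.entry 2 b φ φ =
      2 * ∑ φ' ∈ T, H83.entry 2 b φ φ' * H83.entry 2 b φ' φ := fun φ hφ => by
    have := H83.entry_eq_sum_triv hM hb hz hzo (hTb hφ) (hTb hφ)
    simpa only [Nat.cast_ofNat, ← hT] using this
  obtain ⟨φ₀, hφ₀⟩ : T.Nonempty := by
    by_contra h
    rw [Finset.not_nonempty_iff_eq_empty.1 h, Finset.sum_empty, mul_zero] at hsum
    exact mul_ne_zero (pow_ne_zero _ two_ne_zero) (by exact_mod_cast hpos.ne') hsum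
  have key : ∀ φ ∈ T, H83.entry 2 b φ φ = 1 ∧ ((T.erase φ).card : ℤ) + 1 = 2 ^ d / 2 := by
    intro φ hφ
    have h1 := hrow φ hφ
    have h2 := hproj φ hφ
    have h3 := H83.entry_self_pos hM hb (hTb hφ)
    have h5 : (0 : ℤ) ≤ (T.erase φ).card := Nat.cast_nonneg _
    have h4 := hodd φ hφ φ hφ
    have hsingle : T.erase φ = ∅ → ∑ φ' ∈ T, H83.entry 2 b φ φ' * H83.entry 2 b φ' φ =
        H83.entry 2 b φ φ ^ 2 := fun h => by
      rw [← Finset.add_sum_erase T _ hφ, h, Finset.sum_empty, add_zero, sq]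
    generalize hS : ∑ φ' ∈ T, H83.entry 2 b φ φ' * H83.entry 2 b φ' φ = S at *
    generalize H83.entry 2 b φ φ = a at *
    have ha2 : a ≤ 2 := by
      interval_cases d <;> nlinarith
    have ha : a = 1 := by omega
    subst ha
    refine ⟨rfl, ?_⟩
    by_cases he : T.erase φ = ∅
    · have := hsingle he
      rw [he, Finset.card_empty]
      interval_cases d <;> norm_num at h2 this ⊢ <;> omega
    · have : (0 : ℤ) < (T.erase φ).card := by
        exact_mod_cast Finset.card_pos.2 (Finset.nonempty_iff_ne_empty.2 he)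
      interval_cases d <;> norm_num at h2 h1 ⊢ <;> omega
  rw [Finset.sum_congr rfl fun φ hφ => (key φ hφ).1, Finset.sum_const, nsmul_eq_mul, mul_one] at hsum
  have hc := (key φ₀ hφ₀).2
  have hcard : (T.erase φ₀).card + 1 = T.card := Finset.card_erase_add_one hφ₀
  rw [← hcard] at hsum
  push_cast at hsum
  rw [hc] at hsum
  have hd' : blockDefect 2 b = d := rfl
  rw [hd'] at hsum
  clear_value d
  interval_cases d <;> norm_num at hsum hc <;> omega

/-- A two-block of defect two has four characters. -/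
theorem card_eq_four (hM : IsPModular 2 M) {B : Set (IrrCharacter G)} (hB : IsPBlock M B)
    (hd : blockDefect 2 B = 2) : Nat.card B = 4 := by
  classical
  obtain ⟨z, hzo, b, hind, hbd⟩ := H83.exists_major_subsection hM hB (by omega)
  let _ : Fintype ↥(Subgroup.centralizer ({z} : Set G)) := Fintype.ofFinite _
  set zC : ↥(Subgroup.centralizer ({z} : Set G)) := ⟨z, Subgroup.mem_centralizer_singleton_iff.2 rfl⟩
  have hzC : zC ∈ Subgroup.center ↥(Subgroup.centralizer ({z} : Set G)) :=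
    Subgroup.mem_center_iff.2 fun c => Subtype.ext (H83.mem_centralizer_comm c).symm
  have hl := blockRank_eq_one hM hzC (by rw [← Subgroup.orderOf_coe]; exact hzo) hind.1 (by omega)
  obtain ⟨ζ, e, hζ, hsymm, hproj, htrace, hcongr, hT⟩ :=
    H83.exists_contrib hM (show orderOf z = 2 ^ 1 by rw [hzo, pow_one]) _ rfl hind
  rw [pow_one] at hζ
  have hζ' : ζ = algebraMap ℤ ℂ (-1) := by
    rw [hζ.eq_neg_one_of_two_right]
    simp
  set m : IrrCharacter G → IrrCharacter G → ℤ := fun χ χ' =>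
    (H83.contribPoly 2 (2 ^ 1) b e χ χ').eval (-1) with hm
  have hev : ∀ χ χ', aeval ζ (H83.contribPoly 2 (2 ^ 1) b e χ χ') = (m χ χ' : ℂ) := fun χ χ' => by
    rw [hζ', aeval_algebraMap_apply_eq_algebraMap_eval, eq_intCast]
  set Bf := Finset.univ.filter (fun χ : IrrCharacter G => χ ∈ B) with hBf
  have hh : ∀ χ ∈ B, blockHeight 2 B (χ : G → ℂ) = 0 := fun χ hχ => by
    have := ((S4710.result 2 M hM B hB _ rfl).2 χ hχ).2 (by omega)
    omega
  have hodd : ∀ χ ∈ Bf, ∀ χ' ∈ Bf, ¬ (2 : ℤ) ∣ m χ χ' := by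
    intro χ hχ χ' hχ' hdvd
    have h1 := hcongr χ χ'
    rw [hev, ← Int.cast_sub, memLocalIdeal_intCast_iff hM, Nat.cast_ofNat] at h1
    have h2 := hT χ (Finset.mem_filter.1 hχ).2 (hh χ (Finset.mem_filter.1 hχ).2) χ'
      (Finset.mem_filter.1 hχ').2 (hh χ' (Finset.mem_filter.1 hχ').2)
    rw [Nat.cast_ofNat] at h2
    omega
  have hm2 : ∀ χ χ', m χ' χ = m χ χ' := fun χ χ' => by
    have h := hsymm ζ (by rw [pow_one]; exact hζ.pow_eq_one) χ χ'
    rw [hev, hev, map_intCast] at h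
    exact_mod_cast h
  obtain ⟨χ₀, hχ₀⟩ := isPBlock_nonempty hM hB
  have hχf : χ₀ ∈ Bf := Finset.mem_filter.2 ⟨Finset.mem_univ _, hχ₀⟩
  have h4 : ∑ χ ∈ Bf, m χ₀ χ * m χ₀ χ = 4 * m χ₀ χ₀ := by
    have h := hproj χ₀
    simp only [hev, hbd, hd, ← hBf] at h
    rw [Finset.sum_congr rfl fun χ _ => show (m χ₀ χ : ℂ) * (m χ χ₀ : ℂ) =
      ((m χ₀ χ * m χ₀ χ : ℤ) : ℂ) by rw [hm2 χ₀ χ]; push_cast; rfl, ← Int.cast_sum] at h
    have : ((∑ χ ∈ Bf, m χ₀ χ * m χ₀ χ : ℤ) : ℂ) = ((4 * m χ₀ χ₀ : ℤ) : ℂ) := by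
      rw [h]; push_cast; ring
    exact_mod_cast this
  have h8 : (8 : ℤ) ∣ ∑ χ ∈ Bf, (m χ₀ χ * m χ₀ χ - 1) := Finset.dvd_sum fun χ hχ => by
    obtain ⟨j, hj⟩ : Odd (m χ₀ χ) := Int.not_even_iff_odd.1 fun h => hodd χ₀ hχf χ hχ h.two_dvd
    obtain ⟨i, hi⟩ := Int.even_mul_succ_self j
    exact ⟨i, by rw [hj]; linear_combination 4 * hi⟩
  rw [Finset.sum_sub_distrib, h4, Finset.sum_const, nsmul_eq_mul, mul_one] at h8
  have hk : Nat.card B = Bf.card := by
    rw [Nat.card_eq_fintype_card, Fintype.card_subtype, hBf]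
  have hle := (S4698.main hM _ G B hB rfl).1 hd.le
  rw [hd] at hle
  have := hodd χ₀ hχf χ₀ hχf
  omega

/-- The rank of a block is preserved by isomorphisms. -/
theorem blockRank_irrComp {p : ℕ} {H : Type v} [Group H] [Finite H] {K : Type v} [Group K]
    [Finite K] (φ : H ≃* K)
    (B : Set (IrrCharacter K)) :
    blockRank p (H83.irrComp φ '' B) = blockRank p B := by
  let L : (K → ℂ) ≃ₗ[ℂ] (H → ℂ) := LinearEquiv.funCongrLeft ℂ ℂ φ.toEquiv
  unfold Cfsg.blockRank
  rw [← LinearEquiv.finrank_map_eq L (Submodule.span ℂ ((fun χ : IrrCharacter K =>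
    pRegularPart p (χ : K → ℂ)) '' B)), Submodule.map_span, Set.image_image, Set.image_image]
  refine congrArg (fun S : Set (H → ℂ) => Module.finrank ℂ ↥(Submodule.span ℂ S))
    (Set.image_congr fun χ _ => funext fun x => ?_)
  show pRegularPart p (fun y => (χ : K → ℂ) (φ y)) x = pRegularPart p (χ : K → ℂ) (φ x)
  simp only [Cfsg.pRegularPart, Cfsg.IsPRegular, MulEquiv.orderOf_eq]
  by_cases h : p ∣ orderOf x <;> simp [h]

/-- The only block of the whole group inducing `B`. -/
theorem induced_of_eq_top {p : ℕ} [Fact p.Prime] (hM : IsPModular p M) {H : Subgroup G}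
    (hH : H = ⊤) {B : Set (IrrCharacter G)} (hB : IsPBlock M B) (φ : H ≃* G)
    (hφ : ∀ h : H, φ h = (h : G)) :
    {b : Set (IrrCharacter H) | IsInducedBlock M H b B} = {H83.irrComp φ '' B} := by
  classical
  let _ : Fintype H := Fintype.ofFinite _
  have hval : ∀ (ξ : IrrCharacter H) (g : G), inducedCentralChar H (ξ : H → ℂ) g =
      centralChar (H83.irrComp φ.symm ξ : G → ℂ) g := by
    intro ξ g
    have hg : g ∈ H := hH ▸ Subgroup.mem_top g
    have e : φ.symm g = ⟨g, hg⟩ :=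
      φ.injective (by rw [MulEquiv.apply_symm_apply, hφ])
    rw [inducedCentralChar, finsum_mem_eq_finite_toFinset_sum _ (Set.toFinite _),
      Finset.sum_congr rfl (g := fun _ => (ξ : H → ℂ) ⟨g, hg⟩ / (ξ : H → ℂ) 1) fun h hh => ?_,
      Finset.sum_const, nsmul_eq_mul, centralChar, ← card_conjugates_eq_index g,
      H83.irrComp_apply, H83.irrComp_apply, e, map_one, mul_div_assoc]
    · congr 2
      rw [← Set.ncard_eq_toFinset_card _ (Set.toFinite _), ← Nat.card_coe_set_eq]
      exact Nat.card_congr ⟨fun h => ⟨(h.1 : G), h.2⟩,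
        fun x => ⟨⟨x.1, hH ▸ Subgroup.mem_top x.1⟩, x.2⟩, fun h => rfl, fun x => rfl⟩
    · obtain ⟨c, hc⟩ : ∃ c, c * g * c⁻¹ = (h : G) :=
        by
          have h1 := (Set.Finite.mem_toFinset _).1 hh
          exact isConj_iff.1 h1
      have hcH : c ∈ H := hH ▸ Subgroup.mem_top c
      rw [show h = ⟨c, hcH⟩ * ⟨g, hg⟩ * (⟨c, hcH⟩ : H)⁻¹ from Subtype.ext hc.symm,
        IsIrr.isClassFunction ξ.2]
  refine Set.ext fun b => ⟨fun hb => ?_, ?_⟩
  · obtain ⟨ξ, hξ⟩ := isPBlock_nonempty hM hb.1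
    obtain ⟨χ, hχ⟩ := isPBlock_nonempty hM hB
    have hsame : blockOf M (H83.irrComp φ.symm ξ : G → ℂ) = B := by
      rw [isPBlock_eq_blockOf hM hB hχ]
      refine blockOf_eq_of_sameBlock hM fun g => ?_
      have := hb.2.2 ξ hξ χ hχ g
      rwa [hval] at this
    rw [Set.mem_singleton_iff, ← hsame, H82.image_irrComp_blockOf, H83.irrComp_symm',
      ← isPBlock_eq_blockOf hM hb.1 hξ]
  · rintro rfl
    refine ⟨H82.isPBlock_image_irrComp φ hB, hB, ?_⟩
    rintro _ ⟨χ', hχ', rfl⟩ χ hχ g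
    rw [hval, H83.irrComp_symm]
    exact isPBlock_sameBlock hM hB hχ' hχ g

/-- The inertial index of a block with Klein four defect group is one or three. -/
theorem index_eq (hM : IsPModular 2 M) {B : Set (IrrCharacter G)} {P : Subgroup G}
    (hPD : IsDefectGroup 2 M B P) (hV : IsKleinFour P)
    {c : Set (IrrCharacter (Subgroup.centralizer (P : Set G)))}
    (hc : IsInducedBlock M (Subgroup.centralizer (P : Set G)) c B) {T : Subgroup G}
    (hT : ∀ g : G, g ∈ T ↔ (g ∈ Subgroup.normalizer (P : Set G) ∧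
      StabilizesBlock (Subgroup.centralizer (P : Set G)) c g)) :
    (Subgroup.centralizer (P : Set G)).relIndex T = 1 ∨
      (Subgroup.centralizer (P : Set G)).relIndex T = 3 := by
  classical
  let _ : Fintype (Subgroup.centralizer (P : Set G)) := Fintype.ofFinite _
  have hPp : IsPGroup 2 P := IsPGroup.of_card (n := 2) (by rw [hV.card_four]; norm_num)
  have hPC : P ≤ (Subgroup.centralizer (P : Set G)) := fun x hx => Subgroup.mem_centralizer_iff.2 fun y hy =>
    congrArg Subtype.val (Commute.of_orderOf_dvd_two (a := (⟨y, hy⟩ : P)) (b := ⟨x, hx⟩) fun g => by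
      rw [← hV.exponent_two]; exact Monoid.order_dvd_exponent g).eq
  have hNC := H82.normalizer_le_normalizer_centralizer P
  have hTN : T ≤ Subgroup.normalizer (P : Set G) := fun g hg => ((hT g).1 hg).1
  have hchar : ∀ (n : G) (hn : n ∈ Subgroup.normalizer (P : Set G)) (θ θ' : IrrCharacter (Subgroup.centralizer (P : Set G))),
      IsConjCharOf (Subgroup.centralizer (P : Set G)) n⁻¹ (θ : (Subgroup.centralizer (P : Set G)) → ℂ) (θ' : (Subgroup.centralizer (P : Set G)) → ℂ) ↔ θ' = normTwist θ ⟨n, hNC hn⟩ := by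
    intro n hn θ θ'
    constructor
    · intro hrel
      apply Subtype.ext
      funext x
      have hx := (conj_mem_subgroup_of_normalizer (hNC hn) (x : G)).2 x.2
      rw [normTwist_apply θ ⟨n, hNC hn⟩ x hx]
      exact hrel ⟨_, hx⟩ x (by simp [mul_assoc])
    · rintro rfl h h' he
      have hx := (conj_mem_subgroup_of_normalizer (hNC hn) (h' : G)).2 h'.2
      rw [normTwist_apply θ ⟨n, hNC hn⟩ h' hx]
      exact congrArg _ (Subtype.ext (by simp [he, mul_assoc]))
  have hCT : (Subgroup.centralizer (P : Set G)) ≤ T := fun g hg => (hT g).2 ⟨Subgroup.centralizer_le_normalizer _ hg,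
    Subgroup.le_normalizer hg, fun χ hχ => ⟨χ, hχ, fun k k' he => by
      rw [show k' = ⟨g, hg⟩ * k * (⟨g, hg⟩ : (Subgroup.centralizer (P : Set G)))⁻¹ from Subtype.ext he, IsIrr.isClassFunction χ.2]⟩⟩
  have hI : IsInertia P (Subgroup.centralizer (P : Set G)) T c hNC :=
    { le := hTN
      le_sub := hCT
      twist := fun n hn θ hθ => by
        obtain ⟨θ', hθ', hrel⟩ := ((hT n⁻¹).1 (T.inv_mem hn)).2.2 θ hθ
        rwa [(hchar n (hTN hn) θ θ').1 hrel] at hθ'
      mem := fun n hn θ hθ hmem => by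
        rw [← T.inv_mem_iff]
        refine (hT n⁻¹).2 ⟨inv_mem hn, inv_mem (hNC hn), fun θ₂ hθ₂ =>
          ⟨normTwist θ₂ ⟨n, hNC hn⟩, ?_, (hchar n hn θ₂ _).2 rfl⟩⟩
        rw [isPBlock_eq_blockOf hM hc.1 hmem]
        exact sameBlock_aut _ (isPBlock_sameBlock hM hc.1 hθ hθ₂) }
  have hodd := not_dvd_relIndex_of_defect hM hPp hPC le_rfl
    (Subgroup.centralizer_le_normalizer _) hNC hc.1 hI hc hPD
  have h24 : (Subgroup.centralizer (P : Set G)).relIndex T ∣ 24 := by
    let f : T →* Equiv.Perm P :=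
      ((MulAut.toPerm P).comp P.normalizerMonoidHom).comp (Subgroup.inclusion hTN)
    have hker : f.ker = (Subgroup.centralizer (P : Set G)).subgroupOf T := by
      ext x
      rw [MonoidHom.mem_ker, Subgroup.mem_subgroupOf]
      constructor
      · intro hx
        refine Subgroup.mem_centralizer_iff.2 fun y hy => ?_
        have h1 := congrArg Subtype.val (Equiv.congr_fun hx ⟨y, hy⟩)
        exact (mul_inv_eq_iff_eq_mul.1 h1).symm
      · intro hx
        refine Equiv.ext fun y => Subtype.ext ?_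
        show (x : G) * (y : G) * (x : G)⁻¹ = (y : G)
        rw [← Subgroup.mem_centralizer_iff.1 hx y y.2, mul_inv_cancel_right]
    have h := Subgroup.index_ker f
    rw [hker] at h
    rw [show (Subgroup.centralizer (P : Set G)).relIndex T = ((Subgroup.centralizer (P : Set G)).subgroupOf T).index from rfl, h]
    refine (Subgroup.card_subgroup_dvd_card f.range).trans (dvd_of_eq ?_)
    rw [Nat.card_perm, hV.card_four]
    rfl
  have hle := Nat.le_of_dvd (by norm_num) h24
  interval_cases (Subgroup.centralizer (P : Set G)).relIndex T <;> omega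

end Cfsg.Agent.H25.KleinDefect
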