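import Cfsg.Agent.H25.PExtension
import Cfsg.Agent.H82.PairStab
import Cfsg.Agent.H82.NormalP
import Cfsg.Agent.H35.BlockInduction
import Cfsg.Prelude.Def_BlockFusion

/-!
# Nilpotent blocks in local subgroups of Brauer pairs
-/

namespace Cfsg.Agent.H25

open MonoidAlgebra BlockBasic CharBasic

universe u

variable {G : Type u} [Group G] [Fintype G] {p : ℕ} [Fact p.Prime] {M : Ideal AlgInt}

/-- A block with a central defect group is nilpotent. -/
theorem isNilpotentBlock_of_central (hM : IsPModular p M) {c : Set (IrrCharacter G)}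
    (hc : IsPBlock M c) {Z : Subgroup G} [Z.Normal] (hZp : IsPGroup p Z)
    (hZc : ∀ z ∈ Z, ∀ g : G, g * z = z * g) (hcard : p ^ blockDefect p c ≤ Nat.card Z) :
    IsNilpotentBlock p M c := by
  refine ⟨hc, fun R g hRg x _ _ _ => ?_⟩
  obtain ⟨P, e, hmax, hle⟩ := H82.exists_maximal_above hM hRg
  have hZP : Z ≤ P := H35.le_defectGroup_of_normal hM hc (S4659.result p M hM c P e hmax) Z hZp
  have hPZ : Z = P := Subgroup.eq_of_le_of_card_ge hZP
    ((H82.card_of_maximal hM hmax).trans_le hcard)
  exact Subgroup.mem_centralizer_iff.mpr fun r hr =>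
    (hZc r (hPZ ▸ H82.le_of_subpairLE hle hr) x).symm

omit [Fintype G] [Fact p.Prime] in
theorem centricOf_self {P Q : Subgroup G} {F : FusionSystem P} (hQP : Q ≤ P)
    (hcen : F.IsCentric Q) : FusionSystem.centralizerIn P Q ≤ Q := by
  refine hcen.2 Q ⟨conjHom Q (1 : G), F.conj_mem hQP P.one_mem, ?_⟩
  ext g
  simp [Cfsg.conjHom]

/-- A block with a centric subpair fixed by the whole group. -/
theorem centric_stable (hM : IsPModular p M) {B : Set (IrrCharacter G)} {P Q : Subgroup G}
    {e : Set (IrrCharacter (Subgroup.centralizer (P : Set G)))}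
    {f : Set (IrrCharacter (Subgroup.centralizer (Q : Set G)))}
    (hmax : IsMaximalBrauerPair p M B P e) (hle : SubpairLE p M Q f P e)
    (hcen : FusionSystem.centralizerIn P Q ≤ Q)
    (hG : ∀ x : G, x ∈ Subgroup.normalizer (Q : Set G) ∧
      StabilizesBlock (Subgroup.centralizer (Q : Set G)) f x) :
    (∀ g : G, blockCoeff B g = subgroupBlockCoeff (Subgroup.centralizer (Q : Set G)) f g) ∧
      ∃ F' : Set (IrrCharacter ↥(Q ⊔ Subgroup.centralizer (Q : Set G))), IsPBlock M F' ∧
        (∀ t : ↥(Q ⊔ Subgroup.centralizer (Q : Set G)),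
          blockCoeff F' t = subgroupBlockCoeff (Subgroup.centralizer (Q : Set G)) f (t : G)) ∧
        IsNilpotentBlock p M F' := by
  classical
  have : Q.Normal := ⟨fun n hn g => (Subgroup.mem_normalizer_iff.mp (hG g).1 n).mp hn⟩
  have hCn : (Subgroup.centralizer (Q : Set G)).Normal := Subgroup.normalizer_eq_top_iff.mp
    (eq_top_iff.mpr fun g _ => H82.normalizer_le_normalizer_centralizer Q (hG g).1)
  have hQf := H82.isBrauerPair_of_subpairLE hle hmax.1.1
  have hQfB := H82.isBrauerPairOf_of_le hM hmax.1 hle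
  constructor
  · intro g
    cases nonempty_fintype {k : Set (IrrCharacter (Subgroup.centralizer (Q : Set G))) // IsPBlock M k}
    rw [← coeff_blockElem, H82.blockElem_eq_sum_blockUp hM Q hQf.1 hmax.1.2.1,
      Finset.sum_eq_single ⟨f, hQf.2⟩]
    · exact H82.coeff_blockUp _ _ _
    · intro k hk hne
      obtain ⟨x, hx⟩ := H82.exists_conj_le hM hmax (Finset.mem_filter.mp hk).2
      have h2 : Relation.ReflTransGen (NormalSubpairRel p M) (H82.conjPair x ⟨Q, k.1⟩) ⟨P, e⟩ := hx
      have hfix := (H82.stabilizesBlock_iff_conjPair hM hQf.2).mp (hG x)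
      have h3 : H82.conjPair x (⟨Q, k.1⟩ : BrauerPairIdx G) = H82.conjPair x ⟨Q, f⟩ := by
        rw [H82.conjPair_of_normalizes k.1 (hG x).1] at h2 ⊢
        rw [hfix, H82.subpair_unique hM hmax.1.1 h2 hle]
      have h4 := congrArg (H82.conjPair x⁻¹) h3
      rw [H82.conjPair_inv, H82.conjPair_inv] at h4
      exact (hne (Subtype.ext (eq_of_heq (Sigma.mk.inj_iff.mp h4).2))).elim
    · exact fun h => (h (Finset.mem_filter.mpr ⟨Finset.mem_univ _, hQfB⟩)).elim
  obtain ⟨F, hF⟩ := H82.exists_localBlock hM hQf (H := Q ⊔ (Subgroup.centralizer (Q : Set G))) le_sup_right le_sup_left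
    fun h _ => hG h
  refine ⟨F, hF.block, hF.coeff, ?_⟩
  set N : Subgroup ↥(Q ⊔ (Subgroup.centralizer (Q : Set G))) := (Subgroup.centralizer (Q : Set G)).subgroupOf (Q ⊔ (Subgroup.centralizer (Q : Set G)))
  have : N.Normal := inferInstanceAs ((Subgroup.centralizer (Q : Set G)).subgroupOf (Q ⊔ (Subgroup.centralizer (Q : Set G)))).Normal
  cases nonempty_fintype ↥(Q ⊔ (Subgroup.centralizer (Q : Set G)))
  have hidx : ∃ k : ℕ, N.index = p ^ k := by
    obtain ⟨n, hn⟩ := hQf.1.exists_card_eq
    have h1 : N.index ∣ p ^ n := by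
      show (Subgroup.centralizer (Q : Set G)).relIndex (Q ⊔ (Subgroup.centralizer (Q : Set G))) ∣ _
      rw [Subgroup.relIndex_sup_right, ← hn]
      exact Subgroup.relIndex_dvd_card (Subgroup.centralizer (Q : Set G)) Q
    obtain ⟨k, -, hk⟩ := (Nat.dvd_prime_pow Fact.out).mp h1
    exact ⟨k, hk⟩
  let φ : N ≃* (Subgroup.centralizer (Q : Set G)) := Subgroup.subgroupOfEquivOfLe le_sup_right
  set c := H83.irrComp φ '' f
  have hc : IsPBlock M c := H82.isPBlock_image_irrComp φ hQf.2
  refine (isNilpotentBlock_iff_of_index hM hidx hc hF.block ?_).mp ?_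
  · intro t
    rw [hF.coeff, subgroupBlockCoeff, subgroupBlockCoeff]
    by_cases ht : (t : G) ∈ (Subgroup.centralizer (Q : Set G))
    · rw [dif_pos ht, dif_pos (show t ∈ N from ht), H82.blockCoeff_image_irrComp]
      rfl
    · rw [dif_neg ht, dif_neg (show ¬ t ∈ N from ht)]
  cases nonempty_fintype N
  set Z : Subgroup N := ((Q ⊓ (Subgroup.centralizer (Q : Set G))).comap ((Q ⊔ (Subgroup.centralizer (Q : Set G))).subtype.comp N.subtype))
  have hZcomm : ∀ z ∈ Z, ∀ g : N, g * z = z * g := fun z hz g => Subtype.ext (Subtype.ext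
    (Subgroup.mem_centralizer_iff.mp (show ((g : ↥(Q ⊔ (Subgroup.centralizer (Q : Set G)))) : G) ∈ (Subgroup.centralizer (Q : Set G)) from g.2) _ hz.1).symm)
  have : Z.Normal := ⟨fun z hz g => by
    rw [hZcomm z hz g, mul_inv_cancel_right]; exact hz⟩
  have hinj : Function.Injective ((Q ⊔ (Subgroup.centralizer (Q : Set G))).subtype.comp N.subtype) :=
    (Q ⊔ (Subgroup.centralizer (Q : Set G))).subtype_injective.comp N.subtype_injective
  have hmap : Z.map ((Q ⊔ (Subgroup.centralizer (Q : Set G))).subtype.comp N.subtype) = Q ⊓ (Subgroup.centralizer (Q : Set G)) := by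
    refine (Subgroup.map_comap_eq _ _).trans (inf_eq_right.mpr fun y hy => ?_)
    exact ⟨⟨⟨y, Subgroup.mem_sup_left hy.1⟩, hy.2⟩, rfl⟩
  have hZp : IsPGroup p Z :=
    (hmap ▸ hQf.1.to_le inf_le_left : IsPGroup p (Z.map ((Q ⊔ (Subgroup.centralizer (Q : Set G))).subtype.comp N.subtype))).of_equiv
      (Z.equivMapOfInjective _ hinj).symm
  refine isNilpotentBlock_of_central hM hc hZp hZcomm ?_
  rw [H82.blockDefect_image_irrComp, ← Subgroup.card_map_of_injective hinj, hmap]
  obtain ⟨x, -, hx⟩ := (H82.isLocalBlock_centralizer hM hQf).exists_conj_card hM hmax hQfB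
  rw [H82.map_conj_eq_of_mem_normalizer (by rw [Subgroup.normalizer_eq_top]; trivial)] at hx
  exact hx.trans (Subgroup.card_le_of_le (le_inf hcen inf_le_right))

omit [Fact p.Prime] in
theorem mem_normalizer_sup {A B : Subgroup G} {x : G} (hA : x ∈ Subgroup.normalizer (A : Set G))
    (hB : x ∈ Subgroup.normalizer (B : Set G)) :
    x ∈ Subgroup.normalizer ((A ⊔ B : Subgroup G) : Set G) :=
  H82.mem_normalizer_of_map_conj_eq (by
    rw [Subgroup.map_sup, H82.map_conj_eq_of_mem_normalizer hA,
      H82.map_conj_eq_of_mem_normalizer hB])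

/-- The blocks of the centralizers at pairs of a nilpotent block are nilpotent. -/
theorem isNilpotentBlock_local (hM : IsPModular p M) {B : Set (IrrCharacter G)}
    (hnil : IsNilpotentBlock p M B) {Q : Subgroup G}
    {f : Set (IrrCharacter (Subgroup.centralizer (Q : Set G)))}
    (hQf : IsBrauerPairOf p M B Q f) : IsNilpotentBlock p M f := by
  classical
  refine ⟨hQf.1.2, fun R' k hk x hxR hst hxr => ?_⟩
  obtain ⟨R, hRC, rfl⟩ : ∃ R : Subgroup G, R ≤ (Subgroup.centralizer (Q : Set G)) ∧ R' = R.subgroupOf (Subgroup.centralizer (Q : Set G)) :=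
    ⟨R'.map (Subgroup.centralizer (Q : Set G)).subtype, Subgroup.map_subtype_le R',
      (Subgroup.comap_map_eq_self_of_injective (Subgroup.centralizer (Q : Set G)).subtype_injective R').symm⟩
  have hloc := H82.isLocalBlock_centralizer hM hQf.1
  have hsplit : (Subgroup.centralizer (Q : Set G)) ≤ Subgroup.centralizer (Q : Set G) ∨ Q ≤ R := Or.inl le_rfl
  have hC := H82.centralizer_sup_eq_map hloc.cent_le hRC hsplit
  have hn := hloc.exists_normal_of_pair hM hRC hsplit hk
  set g := H83.irrComp (H82.localCent hC).symm '' k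
  have hSB : IsBrauerPairOf p M B (Q ⊔ R) g := by
    obtain ⟨ξ, hξ⟩ := isPBlock_nonempty hM hn.2.1.2
    obtain ⟨η, hη⟩ := isPBlock_nonempty hM hQf.1.2
    have hc := isCentralElt_blockElem B
    have h1 := H82.brOmega_congr_of_isNormalSubpair hM hn hξ hη
      (H82.isInvElt_of_isCentralElt hc _) (H82.isInvElt_of_isCentralElt hc _)
      (isIntElt_blockElem hM hQf.2.1)
    refine H82.isBrauerPairOf_of_mem hM hQf.2.1 hn.2.1 hξ ?_
    have := memLocalIdeal_add hM h1 (H82.brOmega_blockElem_of_isBrauerPairOf hQf hη)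
    rwa [sub_add_sub_cancel] at this
  have hxR' : (x : G) ∈ Subgroup.normalizer (R : Set G) :=
    H82.mem_normalizer_of_map_conj_eq (by
      have h := congrArg (Subgroup.map (Subgroup.centralizer (Q : Set G)).subtype) (H82.map_conj_eq_of_mem_normalizer hxR)
      rw [Subgroup.map_subgroupOf_eq_of_le hRC, Subgroup.map_map] at h
      conv_rhs => rw [← h]
      conv_lhs => rw [← Subgroup.map_subgroupOf_eq_of_le hRC, Subgroup.map_map]
      rfl)
  have hxS : (x : G) ∈ Subgroup.normalizer ((Q ⊔ R : Subgroup G) : Set G) :=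
    mem_normalizer_sup (Subgroup.centralizer_le_normalizer _ x.2) hxR'
  have hxC' := H82.normalizer_le_normalizer_centralizer _ hxS
  obtain ⟨hxk', hxk⟩ := (H82.stabilizesBlock_iff hM hk.1.2).mp hst
  have hsg : StabilizesBlock (Subgroup.centralizer ((Q ⊔ R : Subgroup G) : Set G)) g (x : G) := by
    refine (H82.stabilizesBlock_iff hM hn.2.1.2).mpr ⟨hxC', ?_⟩
    have hcomm : ∀ d, H82.nconj hxC' (H82.localCent hC d) =
        H82.localCent hC (H82.nconj hxk' d) := fun d => Subtype.ext rfl
    conv_rhs => rw [show g = H83.irrComp (H82.localCent hC).symm '' k from rfl, ← hxk]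
    rw [H82.conjSet_eq hxC', H82.conjSet_eq hxk', Set.image_image, Set.image_image]
    refine Set.image_congr fun χ _ => Subtype.ext (funext fun c => ?_)
    simp only [H83.irrComp_apply]
    obtain ⟨d, rfl⟩ : ∃ d, H82.nconj hxC' (H82.localCent hC d) = c :=
      ⟨(H82.localCent hC).symm ((H82.nconj hxC').symm c), by
        rw [MulEquiv.apply_symm_apply, MulEquiv.apply_symm_apply]⟩
    rw [MulEquiv.symm_apply_apply, MulEquiv.symm_apply_apply, hcomm, MulEquiv.symm_apply_apply,
      MulEquiv.symm_apply_apply]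
  have hx := hnil.2 _ g hSB x hxS hsg (by rw [IsPRegular, Subgroup.orderOf_coe]; exact hxr)
  exact Subgroup.mem_centralizer_iff.mpr fun r hr => Subtype.ext
    (Subgroup.mem_centralizer_iff.mp hx (r : G) (Subgroup.mem_sup_right hr))

/-- When every conjugate below the maximal pair is conjugate inside it, the centralizer is a
defect group. -/
theorem isDefectGroup_of_inner (hM : IsPModular p M) {B : Set (IrrCharacter G)} {P Q : Subgroup G}
    {e : Set (IrrCharacter (Subgroup.centralizer (P : Set G)))}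
    {f : Set (IrrCharacter (Subgroup.centralizer (Q : Set G)))}
    (hmax : IsMaximalBrauerPair p M B P e) (hle : SubpairLE p M Q f P e)
    (hinner : ∀ g : G, SubpairLE p M (Q.map (MulAut.conj g).toMonoidHom) (conjBlock Q g f) P e →
      ∃ u ∈ P, ∀ q ∈ Q, g * q * g⁻¹ = u * q * u⁻¹) :
    IsDefectGroup p M f ((P ⊓ Subgroup.centralizer (Q : Set G)).subgroupOf
      (Subgroup.centralizer (Q : Set G))) := by
  have hQf := H82.isBrauerPair_of_subpairLE hle hmax.1.1
  have hloc := H82.isLocalBlock_centralizer hM hQf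
  obtain ⟨x, hx, hcard⟩ := hloc.exists_conj_card hM hmax (H82.isBrauerPairOf_of_le hM hmax.1 hle)
  refine hloc.isDefectGroup_inf hM hmax.1.1 hle (hcard.trans_eq ?_)
  obtain ⟨u, hu, huq⟩ := hinner x hx
  have hw : u⁻¹ * x ∈ (Subgroup.centralizer (Q : Set G)) := Subgroup.mem_centralizer_iff.mpr fun q hq => by
    have h := huq q hq
    calc q * (u⁻¹ * x) = u⁻¹ * (u * q * u⁻¹) * x := by group
      _ = u⁻¹ * x * q := by rw [← h]; group
  rw [show (Subgroup.centralizer (Q : Set G)).map (MulAut.conj x).toMonoidHom = (Subgroup.centralizer (Q : Set G)).map (MulAut.conj u).toMonoidHom by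
      rw [show x = u * (u⁻¹ * x) by group, H82.map_conj_mul,
        H82.map_conj_eq_of_mem_normalizer (Subgroup.le_normalizer hw)]]
  conv_lhs => rw [← H82.map_conj_eq_of_mem_normalizer (Subgroup.le_normalizer hu : u ∈ _),
    ← Subgroup.map_inf _ _ _ (MulAut.conj u).injective]
  exact Subgroup.card_map_of_injective (MulAut.conj u).injective

end Cfsg.Agent.H25
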