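import Cfsg.Agent.H25.PairCover

/-!
# Nilpotent blocks and normal subgroups of `p`-power index
-/

namespace Cfsg.Agent.H25

open MonoidAlgebra BlockBasic CharBasic

universe u

variable {G : Type u} [Group G] [Fintype G] {p : ℕ} [Fact p.Prime] {M : Ideal AlgInt}
  {N : Subgroup G} [hN : N.Normal]

omit [Fintype G] [Fact p.Prime] hN in
theorem mem_centralizer_map {R : Subgroup N} {c : N} :
    (c : G) ∈ Subgroup.centralizer ((R.map N.subtype : Subgroup G) : Set G) ↔
      c ∈ Subgroup.centralizer (R : Set N) := by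
  simp only [Subgroup.mem_centralizer_iff, SetLike.mem_coe]
  constructor
  · exact fun h r hr => Subtype.ext (h (r : G) ⟨r, hr, rfl⟩)
  · rintro h _ ⟨r, hr, rfl⟩
    exact congrArg Subtype.val (h r hr)

/-- The centralizer in `N` is `N` intersected with the centralizer in `G`. -/
def innerCent (R : Subgroup N) : Subgroup.centralizer (R : Set N) ≃*
    N.subgroupOf (Subgroup.centralizer ((R.map N.subtype : Subgroup G) : Set G)) where
  toFun c := ⟨⟨((c : N) : G), mem_centralizer_map.mpr c.2⟩, Subgroup.mem_subgroupOf.mpr (c : N).2⟩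
  invFun k := ⟨⟨((k : Subgroup.centralizer ((R.map N.subtype : Subgroup G) : Set G)) : G),
    Subgroup.mem_subgroupOf.mp k.2⟩, mem_centralizer_map.mp
      (k : Subgroup.centralizer ((R.map N.subtype : Subgroup G) : Set G)).2⟩
  left_inv _ := rfl
  right_inv _ := rfl
  map_mul' _ _ := rfl

/-- A set of characters of a centralizer in `N`, lifted to the group algebra of `G`. -/
noncomputable def liftIn (R : Subgroup N)
    (g : Set (IrrCharacter (Subgroup.centralizer (R : Set N)))) : MonoidAlgebra ℂ G :=
  liftUp N _ (H83.irrComp (innerCent R).symm '' g)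

omit [Fact p.Prime] hN in
theorem coeff_liftIn (R : Subgroup N) (g : Set (IrrCharacter (Subgroup.centralizer (R : Set N))))
    (n : N) : (liftIn R g).coeff (n : G) =
      subgroupBlockCoeff (Subgroup.centralizer (R : Set N)) g n := by
  by_cases hn : n ∈ Subgroup.centralizer (R : Set N)
  · rw [subgroupBlockCoeff, dif_pos hn, liftIn,
      show (n : G) = ((innerCent R ⟨n, hn⟩ :
        Subgroup.centralizer ((R.map N.subtype : Subgroup G) : Set G)) : G) from rfl,
      coeff_liftUp, H82.blockCoeff_image_irrComp, MulEquiv.symm_apply_apply]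
  · rw [subgroupBlockCoeff, dif_neg hn, liftIn, coeff_liftUp_eq_zero]
    exact fun h => hn (mem_centralizer_map.mp h.1)

omit [Fact p.Prime] in
theorem liftIn_conjSet (R : Subgroup N) (g : Set (IrrCharacter (Subgroup.centralizer (R : Set N))))
    {x : N} (hx : x ∈ Subgroup.normalizer ((Subgroup.centralizer (R : Set N) : Subgroup N) : Set N)) :
    liftIn R (H82.conjSet (Subgroup.centralizer (R : Set N)) x g) =
      H82.conjElt (x : G) (liftIn R g) := by
  apply coeff_injective
  ext t
  by_cases ht : t ∈ N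
  · have h1 := H82.subgroupBlockCoeff_conjSet hx g (x⁻¹ * ⟨t, ht⟩ * x)
    rw [show x * (x⁻¹ * ⟨t, ht⟩ * x) * x⁻¹ = (⟨t, ht⟩ : N) by group] at h1
    rw [show t = ((⟨t, ht⟩ : N) : G) from rfl, coeff_liftIn, h1, H82.coeff_conjElt',
      ← coeff_liftIn]
    rfl
  · rw [H82.coeff_conjElt', liftIn, coeff_liftUp_eq_zero _ fun h => ht h.2, liftIn,
      coeff_liftUp_eq_zero]
    rintro ⟨-, h2⟩
    have := hN.conj_mem _ h2 (x : G)
    exact ht (by simpa [mul_assoc] using this)

omit [Fact p.Prime] in
theorem stabilizesBlock_iff_liftIn (hM : IsPModular p M) {R : Subgroup N}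
    {g : Set (IrrCharacter (Subgroup.centralizer (R : Set N)))} (hg : IsPBlock M g) {x : N}
    (hx : x ∈ Subgroup.normalizer (R : Set N)) :
    StabilizesBlock (Subgroup.centralizer (R : Set N)) g x ↔
      H82.conjElt (x : G) (liftIn R g) = liftIn R g := by
  have hxC := H82.normalizer_le_normalizer_centralizer R hx
  rw [H82.stabilizesBlock_iff hM hg, ← liftIn_conjSet R g hxC, and_iff_right hxC]
  refine ⟨fun h => by rw [h], fun h => H82.blockElem_injective fun c => ?_⟩
  have h1 := congrArg (fun z : MonoidAlgebra ℂ G => z.coeff ((c : N) : G)) h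
  simp only [coeff_liftIn] at h1
  simpa only [subgroupBlockCoeff, dif_pos c.2] using h1

omit [Fact p.Prime] hN in
/-- The Brauer map of `G` at a constituent in `N` is the Brauer map of `N`. -/
theorem brOmega_eq_inner [Fintype N] (R : Subgroup N) {z : MonoidAlgebra ℂ G}
    (hz : IsCentralElt z) (hzN : ∀ t, t ∉ N → z.coeff t = 0) {β : N → ℂ}
    (hβ : ∀ n : N, z.coeff (n : G) = β n)
    [Fintype (Subgroup.centralizer ((R.map N.subtype : Subgroup G) : Set G))]
    [Fintype (N.subgroupOf (Subgroup.centralizer ((R.map N.subtype : Subgroup G) : Set G)))]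
    (χ : IrrCharacter (Subgroup.centralizer ((R.map N.subtype : Subgroup G) : Set G)))
    (θ : IrrCharacter (Subgroup.centralizer (R : Set N)))
    (h : classInner
      (fun k : N.subgroupOf (Subgroup.centralizer ((R.map N.subtype : Subgroup G) : Set G)) =>
        (χ : Subgroup.centralizer ((R.map N.subtype : Subgroup G) : Set G) → ℂ) k) (H83.irrComp (innerCent R).symm θ : _ → ℂ) ≠ 0) :
    H82.brOmega (R.map N.subtype) (χ : _ → ℂ) z = brauerOmega R β (θ : _ → ℂ) := by
  classical
  rw [H82.brOmega_eq, omega_eq_omega_resMap χ _ h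
    (H82.isCentralElt_br (H82.isInvElt_of_isCentralElt hz _))
    (fun c hc => by rw [H82.coeff_br]; exact hzN _ fun h => hc (Subgroup.mem_subgroupOf.mpr h))]
  rw [omega, chiLin, brauerOmega, finsum_eq_sum_of_fintype, Finset.sum_div]
  refine (Fintype.sum_equiv (innerCent R).toEquiv _ _ fun c => ?_).symm
  simp only [MulEquiv.toEquiv_eq_coe, MulEquiv.coe_toEquiv, H83.irrComp_apply,
    MulEquiv.symm_apply_apply, map_one, coeff_resMap, H82.coeff_br]
  rw [show ((innerCent R c : Subgroup.centralizer ((R.map N.subtype : Subgroup G) : Set G)) : G) =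
    ((c : N) : G) from rfl, hβ]

omit [Fact p.Prime] hN in
theorem exists_constituent [Fintype N] (χ : IrrCharacter G) :
    ∃ θ : IrrCharacter N, classInner (fun n : N => (χ : G → ℂ) n) (θ : N → ℂ) ≠ 0 := by
  classical
  by_contra hc
  simp only [not_exists, not_not] at hc
  have hfc : IsClassFunction N (fun n : N => (χ : G → ℂ) n) :=
    fun a b => IsIrr.isClassFunction χ.2 (a : G) (b : G)
  have h1 := congrFun (classFunction_expansion hfc) 1
  simp only [hc, Finset.sum_apply, zero_smul, Pi.zero_apply, Finset.sum_const_zero,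
    OneMemClass.coe_one] at h1
  exact IsIrr.one_ne_zero χ.2 h1

/-- A block over a stable block of a normal subgroup of `p`-power index is nilpotent exactly when
the lower block is. -/
theorem isNilpotentBlock_iff_of_index (hM : IsPModular p M) (hidx : ∃ k : ℕ, N.index = p ^ k)
    {c : Set (IrrCharacter N)} (hc : IsPBlock M c) {B : Set (IrrCharacter G)} (hB : IsPBlock M B)
    (hBc : ∀ g : G, blockCoeff B g = subgroupBlockCoeff N c g) :
    IsNilpotentBlock p M c ↔ IsNilpotentBlock p M B := by
  classical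
  have hzN : ∀ t, t ∉ N → (blockElem B).coeff t = 0 := fun t ht => by
    rw [coeff_blockElem, hBc, subgroupBlockCoeff, dif_neg ht]
  have hβ : ∀ n : N, (blockElem B).coeff (n : G) = blockCoeff c n := fun n => by
    rw [coeff_blockElem, hBc, subgroupBlockCoeff, dif_pos n.2]
  have hzc := isCentralElt_blockElem B
  have hidx' : ∀ C : Subgroup G, ∃ k : ℕ, (N.subgroupOf C).index = p ^ k := fun C => by
    obtain ⟨k, hk⟩ := hidx
    have h1 : (N.subgroupOf C).index ∣ p ^ k := hk ▸ Subgroup.relIndex_dvd_index_of_normal N C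
    obtain ⟨j, -, hj⟩ := (Nat.dvd_prime_pow Fact.out).mp h1
    exact ⟨j, hj⟩
  constructor
  · intro hnil
    refine ⟨hB, fun Q f hQf x hxQ hxf hxr => ?_⟩
    have hxN : x ∈ N := mem_of_regular hidx hxr
    set R' : Subgroup N := Q.subgroupOf N with hR'
    set R : Subgroup G := R'.map N.subtype with hR
    have hRQ : R = Q ⊓ N := Subgroup.subgroupOf_map_subtype Q N
    have hle : R ≤ Q := hRQ.le.trans inf_le_left
    have hnorm : ∀ y ∈ Subgroup.normalizer (Q : Set G), y ∈ Subgroup.normalizer (R : Set G) := by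
      intro y hy
      rw [Subgroup.mem_normalizer_iff]
      intro t
      rw [hRQ, Subgroup.mem_inf, Subgroup.mem_inf]
      exact and_congr (Subgroup.mem_normalizer_iff.mp hy t)
        ⟨fun h => hN.conj_mem t h y, fun h => by
          simpa [mul_assoc] using hN.conj_mem _ h y⁻¹⟩
    obtain ⟨h, hRh, hhle⟩ := H82.exists_subpair hM hQf.1 hle
    have hRB := H82.isBrauerPairOf_of_le hM hQf hhle
    have hxh : StabilizesBlock (Subgroup.centralizer (R : Set G)) h x := by
      have h2 := H82.subpairLE_conjPair hM x hhle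
      rw [H82.conjPair_of_normalizes h (hnorm x hxQ),
        (H82.stabilizesBlock_iff_conjPair hM hQf.1.2).mp ⟨hxQ, hxf⟩] at h2
      exact (H82.stabilizesBlock_iff hM hRh.2).mpr
        ⟨H82.normalizer_le_normalizer_centralizer R (hnorm x hxQ),
          H82.subpair_unique hM hQf.1 h2 hhle⟩
    cases nonempty_fintype (Subgroup.centralizer (R : Set G))
    cases nonempty_fintype (N.subgroupOf (Subgroup.centralizer (R : Set G)))
    obtain ⟨χ, hχ⟩ := isPBlock_nonempty hM hRh.2
    obtain ⟨θ, hθ⟩ := exists_constituent (N := N.subgroupOf (Subgroup.centralizer (R : Set G))) χ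
    set g := blockOf M (θ : N.subgroupOf (Subgroup.centralizer (R : Set G)) → ℂ) with hg
    have hgb : IsPBlock M g := isPBlock_blockOf M θ
    have hcov : Covers h g := ⟨χ, hχ, θ, self_mem_blockOf hM θ, hθ⟩
    set gN := H83.irrComp (innerCent R') '' g with hgN
    have hgNb : IsPBlock M gN := H82.isPBlock_image_irrComp _ hgb
    have hlift : liftIn R' gN = liftUp N (Subgroup.centralizer (R : Set G)) g := by
      rw [liftIn, hgN, Set.image_image]
      congr 1
      refine (Set.image_congr fun t _ => ?_).trans (Set.image_id g)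
      exact H83.irrComp_symm (innerCent R') t
    have hpair : IsBrauerPairOf p M c R' gN := by
      refine H82.isBrauerPairOf_of_mem hM hc ⟨hQf.1.1.comap_subtype, hgNb⟩
        (ξ := H83.irrComp (innerCent R') θ) ⟨θ, self_mem_blockOf hM θ, rfl⟩ ?_
      rw [H82.brOmega, show (fun n => (blockElem c).coeff n) = blockCoeff c from
        funext (coeff_blockElem c), ← brOmega_eq_inner R' hzc hzN hβ χ]
      · exact H82.brOmega_blockElem_of_isBrauerPairOf hRB hχ
      · rwa [H83.irrComp_symm]
    have hxR' : (⟨x, hxN⟩ : N) ∈ Subgroup.normalizer (R' : Set N) := by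
      rw [Subgroup.mem_normalizer_iff]
      exact fun t => Subgroup.mem_normalizer_iff.mp hxQ (t : G)
    have hst : StabilizesBlock (Subgroup.centralizer (R' : Set N)) gN (⟨x, hxN⟩ : N) := by
      rw [stabilizesBlock_iff_liftIn hM hgNb hxR', hlift]
      exact conjElt_eq_self_of_covers hM (hidx' _) hRh.2 hgb hcov hxN hxr hxh
    have hxC : x ∈ Subgroup.centralizer (R : Set G) :=
      mem_centralizer_map.mpr (hnil.2 R' gN hpair ⟨x, hxN⟩ hxR' hst
        (by rw [IsPRegular, ← Subgroup.orderOf_coe]; exact hxr))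
    -- coprime action of `x` on `Q`
    rw [Subgroup.mem_centralizer_iff]
    intro q hq
    set r := x * q * x⁻¹ * q⁻¹ with hr
    have hrQ : r ∈ Q := Q.mul_mem ((Subgroup.mem_normalizer_iff.mp hxQ q).mp hq) (Q.inv_mem hq)
    have hrR : r ∈ R := by
      rw [hRQ]
      refine ⟨hrQ, ?_⟩
      rw [hr, mul_assoc, mul_assoc]
      refine N.mul_mem hxN ?_
      rw [← mul_assoc]
      exact hN.conj_mem _ (N.inv_mem hxN) q
    have hxrc : x * r * x⁻¹ = r := by
      rw [← Subgroup.mem_centralizer_iff.mp hxC r hrR, mul_inv_cancel_right]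
    have hpow : ∀ m : ℕ, x ^ m * q * (x ^ m)⁻¹ = r ^ m * q := by
      intro m
      induction m with
      | zero => simp
      | succ m ih =>
        rw [pow_succ' x, mul_inv_rev,
          show x * x ^ m * q * ((x ^ m)⁻¹ * x⁻¹) = x * (x ^ m * q * (x ^ m)⁻¹) * x⁻¹ by group, ih,
          show x * (r ^ m * q) * x⁻¹ = (x * r ^ m * x⁻¹) * (x * q * x⁻¹) by group, ← conj_pow,
          hxrc, show x * q * x⁻¹ = r * q by rw [hr]; group, ← mul_assoc, ← pow_succ]
    have h1 : r ^ orderOf x = 1 := by
      have := hpow (orderOf x)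
      rw [pow_orderOf_eq_one, one_mul, inv_one, mul_one] at this
      exact mul_eq_right.mp this.symm
    have hr1 : r = 1 := by
      obtain ⟨j, hj⟩ := hQf.1.1 ⟨r, hrQ⟩
      have h2 : r ^ p ^ j = 1 := by simpa using congrArg Subtype.val hj
      rw [← orderOf_eq_one_iff]
      exact Nat.eq_one_of_dvd_coprimes
        (Nat.Coprime.pow_left j ((Fact.out : p.Prime).coprime_iff_not_dvd.mpr hxr))
        (orderOf_dvd_of_pow_eq_one h2) (orderOf_dvd_of_pow_eq_one h1)
    rw [hr, mul_inv_eq_one] at hr1
    exact (mul_inv_eq_iff_eq_mul.mp hr1).symm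
  · intro hnil
    refine ⟨hc, fun R' gN hpair x' hxR' hst hxr => ?_⟩
    set R : Subgroup G := R'.map N.subtype with hR
    cases nonempty_fintype (Subgroup.centralizer (R : Set G))
    cases nonempty_fintype (N.subgroupOf (Subgroup.centralizer (R : Set G)))
    set g := H83.irrComp (innerCent R').symm '' gN with hg
    have hgb : IsPBlock M g := H82.isPBlock_image_irrComp _ hpair.1.2
    obtain ⟨h, hh, χ, hχ, θ, hθg, hθ⟩ := exists_covering_block hM
      (N.subgroupOf (Subgroup.centralizer (R : Set G))) hgb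
    obtain ⟨θ', hθ', rfl⟩ := hθg
    have hRB : IsBrauerPairOf p M B R h := by
      refine H82.isBrauerPairOf_of_mem hM hB ⟨hpair.1.1.map _, hh⟩ hχ ?_
      rw [brOmega_eq_inner R' hzc hzN hβ χ θ' hθ,
        show blockCoeff c = fun n => (blockElem c).coeff n from
          funext fun n => (coeff_blockElem c n).symm]
      exact H82.brOmega_blockElem_of_isBrauerPairOf hpair hθ'
    have hxR : (x' : G) ∈ Subgroup.normalizer (R : Set G) :=
      Subgroup.le_normalizer_map N.subtype ⟨x', hxR', rfl⟩
    have hxh : StabilizesBlock (Subgroup.centralizer (R : Set G)) h (x' : G) :=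
      stabilizesBlock_of_covers hM (hidx' _) hh hgb ⟨χ, hχ, _, ⟨θ', hθ', rfl⟩, hθ⟩
        (H82.normalizer_le_normalizer_centralizer R hxR)
        ((stabilizesBlock_iff_liftIn hM hpair.1.2 hxR').mp hst)
    exact mem_centralizer_map.mp (hnil.2 R h hRB x' hxR hxh
      (by rw [IsPRegular, Subgroup.orderOf_coe]; exact hxr))

end Cfsg.Agent.H25
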