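import Cfsg.Agent.H82.PairConj
import Cfsg.Agent.BlockBasic.Covering
import Cfsg.Agent.BlockBasic.CoverDefect

/-!
# Blocks of a normal `p`-power index subgroup of a centralizer, with conjugation from outside

For subgroups `C` and `N` of `G` with `N` normal, blocks of `N.subgroupOf C` are lifted to the group
algebra of `G`; conjugation by elements normalizing `C` permutes them.
-/

namespace Cfsg.Agent.H25

open MonoidAlgebra BlockBasic CharBasic

universe u

variable {G : Type u} [Group G] [Finite G] {p : ℕ} {M : Ideal AlgInt} {N : Subgroup G}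
  {C : Subgroup G}

/-- The idempotent of a set of characters of `N.subgroupOf C`, in the group algebra of `G`. -/
noncomputable def liftUp (N C : Subgroup G) (g : Set (IrrCharacter (N.subgroupOf C))) :
    MonoidAlgebra ℂ G :=
  ofFun fun t => open scoped Classical in
    if h : t ∈ C ∧ t ∈ N then blockCoeff g ⟨⟨t, h.1⟩, Subgroup.mem_subgroupOf.mpr h.2⟩ else 0

theorem coeff_liftUp (g : Set (IrrCharacter (N.subgroupOf C))) (k : N.subgroupOf C) :
    (liftUp N C g).coeff ((k : C) : G) = blockCoeff g k := by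
  rw [liftUp, coeff_ofFun,
    dif_pos (show ((k : C) : G) ∈ C ∧ ((k : C) : G) ∈ N from ⟨(k : C).2, Subgroup.mem_subgroupOf.mp k.2⟩)]

theorem coeff_liftUp_eq_zero (g : Set (IrrCharacter (N.subgroupOf C))) {t : G}
    (h : ¬ (t ∈ C ∧ t ∈ N)) : (liftUp N C g).coeff t = 0 := by
  rw [liftUp, coeff_ofFun, dif_neg h]

theorem liftUp_injective {g g' : Set (IrrCharacter (N.subgroupOf C))}
    (h : liftUp N C g = liftUp N C g') : g = g' :=
  H82.blockElem_injective fun k => by rw [← coeff_liftUp, ← coeff_liftUp, h]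

theorem conjElt_liftUp_self {d : G} (hdC : d ∈ C) (hdN : d ∈ N)
    (g : Set (IrrCharacter (N.subgroupOf C))) : H82.conjElt d (liftUp N C g) = liftUp N C g := by
  apply coeff_injective
  ext t
  rw [H82.coeff_conjElt']
  by_cases ht : t ∈ C ∧ t ∈ N
  · let k : N.subgroupOf C := ⟨⟨t, ht.1⟩, Subgroup.mem_subgroupOf.mpr ht.2⟩
    let k0 : N.subgroupOf C := ⟨⟨d, hdC⟩, Subgroup.mem_subgroupOf.mpr hdN⟩
    rw [show d⁻¹ * t * d = (((k0⁻¹ * k * k0⁻¹⁻¹ : N.subgroupOf C) : C) : G) by simp [k, k0],
      show t = ((k : C) : G) from rfl, coeff_liftUp, coeff_liftUp]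
    exact isClassFunction_blockCoeff g k k0⁻¹
  · rw [coeff_liftUp_eq_zero g ht, coeff_liftUp_eq_zero]
    rintro ⟨h1, h2⟩
    exact ht ⟨by simpa [mul_assoc] using C.mul_mem (C.mul_mem hdC h1) (C.inv_mem hdC),
      by simpa [mul_assoc] using N.mul_mem (N.mul_mem hdN h2) (N.inv_mem hdN)⟩

/-- The elements fixing an element of the group algebra under conjugation. -/
noncomputable def stabElt (z : MonoidAlgebra ℂ G) : Subgroup G where
  carrier := {t | H82.conjElt t z = z}
  one_mem' := by
    apply coeff_injective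
    ext t
    rw [H82.coeff_conjElt']
    simp
  mul_mem' {a b} ha hb := show H82.conjElt (a * b) z = z by rw [H82.conjElt_mul, hb, ha]
  inv_mem' {a} ha := show H82.conjElt a⁻¹ z = z by
    conv_lhs => rw [← ha]
    rw [← H82.conjElt_mul, inv_mul_cancel]
    apply coeff_injective
    ext t
    rw [H82.coeff_conjElt']
    simp

omit [Finite G] in
theorem mem_stabElt {z : MonoidAlgebra ℂ G} {t : G} : t ∈ stabElt z ↔ H82.conjElt t z = z :=
  Iff.rfl

variable [hN : N.Normal]

/-- Conjugation of `N.subgroupOf C` by an element normalizing `C`. -/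
def subConj {x : G} (hx : x ∈ Subgroup.normalizer (C : Set G)) :
    N.subgroupOf C ≃* N.subgroupOf C where
  toFun k := ⟨H82.nconj hx (k : C), by
    rw [Subgroup.mem_subgroupOf, H82.nconj_apply]
    exact hN.conj_mem _ (Subgroup.mem_subgroupOf.mp k.2) x⟩
  invFun k := ⟨(H82.nconj hx).symm (k : C), by
    rw [Subgroup.mem_subgroupOf]
    have h := H82.nconj_apply hx ((H82.nconj hx).symm (k : C))
    rw [MulEquiv.apply_symm_apply] at h
    have h1 := hN.conj_mem _ (Subgroup.mem_subgroupOf.mp k.2) x⁻¹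
    rw [h] at h1
    simpa [mul_assoc] using h1⟩
  left_inv k := Subtype.ext ((H82.nconj hx).symm_apply_apply _)
  right_inv k := Subtype.ext ((H82.nconj hx).apply_symm_apply _)
  map_mul' a b := Subtype.ext (map_mul (H82.nconj hx) _ _)

omit [Finite G] in
theorem subConj_apply {x : G} (hx : x ∈ Subgroup.normalizer (C : Set G)) (k : N.subgroupOf C) :
    ((subConj hx k : C) : G) = x * ((k : C) : G) * x⁻¹ := rfl

/-- The conjugate of a set of characters of `N.subgroupOf C`. -/
def conjSub {x : G} (hx : x ∈ Subgroup.normalizer (C : Set G))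
    (g : Set (IrrCharacter (N.subgroupOf C))) : Set (IrrCharacter (N.subgroupOf C)) :=
  H83.irrComp (subConj hx).symm '' g

theorem liftUp_conjSub {x : G} (hx : x ∈ Subgroup.normalizer (C : Set G))
    (g : Set (IrrCharacter (N.subgroupOf C))) :
    liftUp N C (conjSub hx g) = H82.conjElt x (liftUp N C g) := by
  apply coeff_injective
  ext t
  by_cases ht : t ∈ C ∧ t ∈ N
  · set k : N.subgroupOf C := ⟨⟨t, ht.1⟩, Subgroup.mem_subgroupOf.mpr ht.2⟩
    rw [show t = ((k : C) : G) from rfl, coeff_liftUp, conjSub, H82.blockCoeff_image_irrComp,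
      ← coeff_liftUp, H82.coeff_conjElt']
    congr 1
  · rw [coeff_liftUp_eq_zero _ ht, H82.coeff_conjElt', coeff_liftUp_eq_zero]
    rintro ⟨h1, h2⟩
    have e : x * (x⁻¹ * t * x) * x⁻¹ = t := by group
    have h1' := (Subgroup.mem_normalizer_iff.mp hx _).mp h1
    have h2' := hN.conj_mem _ h2 x
    rw [e] at h1' h2'
    exact ht ⟨h1', h2'⟩

theorem isPBlock_conjSub {x : G} (hx : x ∈ Subgroup.normalizer (C : Set G))
    {g : Set (IrrCharacter (N.subgroupOf C))} (hg : IsPBlock M g) :
    IsPBlock M (conjSub hx g) :=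
  H82.isPBlock_image_irrComp _ hg

variable [Fintype (N.subgroupOf C)]

/-- The block `h` of `C` covers the block `g` of `N.subgroupOf C`. -/
def Covers (h : Set (IrrCharacter C)) (g : Set (IrrCharacter (N.subgroupOf C))) : Prop :=
  ∃ χ ∈ h, ∃ θ ∈ g, classInner (fun n : N.subgroupOf C => (χ : C → ℂ) n) (θ : _ → ℂ) ≠ 0

theorem covers_conj {x : G} (hx : x ∈ Subgroup.normalizer (C : Set G))
    {h : Set (IrrCharacter C)} {g : Set (IrrCharacter (N.subgroupOf C))} (hc : Covers h g) :
    Covers (H82.conjSet C x h) (conjSub hx g) := by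
  obtain ⟨χ, hχ, θ, hθ, hne⟩ := hc
  refine ⟨H83.irrComp (H82.nconj hx).symm χ, ?_, H83.irrComp (subConj hx).symm θ, ⟨θ, hθ, rfl⟩, ?_⟩
  · rw [H82.conjSet_eq hx]
    exact ⟨χ, hχ, rfl⟩
  · intro h0
    refine hne (h0 ▸ ?_)
    unfold classInner
    congr 1
    refine Fintype.sum_equiv (subConj hx).toEquiv _ _ fun k => ?_
    simp only [MulEquiv.toEquiv_eq_coe, MulEquiv.coe_toEquiv, H83.irrComp_apply,
      MulEquiv.symm_apply_apply]
    rw [show ((subConj hx k : N.subgroupOf C) : C) = H82.nconj hx (k : C) from rfl,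
      MulEquiv.symm_apply_apply]

omit [Finite G] [Fintype (N.subgroupOf C)] in
theorem mem_normalizer_self {y : G} (hy : y ∈ C) : y ∈ Subgroup.normalizer (C : Set G) :=
  Subgroup.le_normalizer hy

/-- Blocks covered by one block are conjugate in `C`. -/
theorem exists_conj_of_covers (hM : IsPModular p M) {h : Set (IrrCharacter C)} (hh : IsPBlock M h)
    {g g' : Set (IrrCharacter (N.subgroupOf C))} (hg : IsPBlock M g) (hg' : IsPBlock M g')
    (hc : Covers h g) (hc' : Covers h g') :
    ∃ y ∈ C, liftUp N C g' = H82.conjElt y (liftUp N C g) := by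
  classical
  cases nonempty_fintype C
  obtain ⟨χ, hχ, θ, hθ, hne⟩ := hc
  obtain ⟨χ', hχ', φ, hφ, hne'⟩ := hc'
  obtain ⟨d, hd⟩ := BlockBasic.mem_twistOrbit (N := N.subgroupOf C) hM hh hχ hχ' hne hne'
  refine ⟨((d⁻¹ : C) : G), (d⁻¹ : C).2, ?_⟩
  rw [← liftUp_conjSub (mem_normalizer_self (d⁻¹ : C).2)]
  congr 1
  rw [isPBlock_eq_blockOf hM hg hθ, conjSub, H82.image_irrComp_blockOf,
    isPBlock_eq_blockOf hM hg' hφ,
    show H83.irrComp (subConj (mem_normalizer_self (d⁻¹ : C).2)).symm θ =
      H80.conjTwist (N.subgroupOf C) θ d from ?_]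
  · exact (blockOf_eq_of_sameBlock hM hd).symm
  · refine Subtype.ext (funext fun k => ?_)
    rw [H83.irrComp_apply, H80.conjTwist_apply]
    refine congrArg (θ : N.subgroupOf C → ℂ) ?_
    apply (subConj (mem_normalizer_self (d⁻¹ : C).2)).injective
    rw [MulEquiv.apply_symm_apply]
    refine Subtype.ext (Subtype.ext ?_)
    rw [subConj_apply]
    simp [mul_assoc]

/-- A `p`-regular element of `N` stabilizing a block of `C` fixes each block of `N.subgroupOf C`
covered by it, when the index is a power of `p`. -/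
theorem conjElt_eq_self_of_covers (hM : IsPModular p M) [Fact p.Prime]
    (hidx : ∃ k : ℕ, (N.subgroupOf C).index = p ^ k)
    {h : Set (IrrCharacter C)} (hh : IsPBlock M h) {g : Set (IrrCharacter (N.subgroupOf C))}
    (hg : IsPBlock M g) (hc : Covers h g) {x : G} (hxN : x ∈ N) (hxr : ¬ p ∣ orderOf x)
    (hx : StabilizesBlock C h x) : H82.conjElt x (liftUp N C g) = liftUp N C g := by
  classical
  set E := liftUp N C g with hE
  obtain ⟨hxC, hxh⟩ := (H82.stabilizesBlock_iff hM hh).mp hx
  have hc' : Covers h (conjSub hxC g) := by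
    have := covers_conj hxC hc
    rwa [hxh] at this
  obtain ⟨y, hy, hyE⟩ := exists_conj_of_covers hM hh hg (isPBlock_conjSub hxC hg) hc hc'
  rw [liftUp_conjSub] at hyE
  -- `x` acts on the orbit like `y`, and commutes with the action of `C`
  have hcomm : ∀ z ∈ C, H82.conjElt x (H82.conjElt z E) = H82.conjElt z (H82.conjElt x E) := by
    intro z hz
    have hdC : x⁻¹ * z⁻¹ * x * z ∈ C := by
      refine C.mul_mem ?_ hz
      have := (Subgroup.mem_normalizer_iff.mp (Subgroup.inv_mem _ hxC) z⁻¹).mp (C.inv_mem hz)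
      rwa [inv_inv] at this
    have hdN : x⁻¹ * z⁻¹ * x * z ∈ N := by
      rw [mul_assoc, mul_assoc]
      refine N.mul_mem (N.inv_mem hxN) ?_
      have := hN.conj_mem x hxN z⁻¹
      rwa [inv_inv, mul_assoc] at this
    calc H82.conjElt x (H82.conjElt z E) = H82.conjElt (x * z) E := (H82.conjElt_mul x z E).symm
      _ = H82.conjElt (z * x * (x⁻¹ * z⁻¹ * x * z)) E := by congr 1; group
      _ = H82.conjElt (z * x) (H82.conjElt (x⁻¹ * z⁻¹ * x * z) E) := H82.conjElt_mul _ _ E
      _ = H82.conjElt z (H82.conjElt x E) := by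
        rw [hE, conjElt_liftUp_self hdC hdN, H82.conjElt_mul]
  have hpow : ∀ m : ℕ, H82.conjElt (x ^ m) E = H82.conjElt (y ^ m) E := by
    intro m
    induction m with
    | zero => rw [pow_zero, pow_zero]
    | succ m ih =>
      rw [pow_succ', H82.conjElt_mul, ih, hcomm _ (C.pow_mem hy m), hyE, ← H82.conjElt_mul,
        ← pow_succ]
  have h1 : y ^ orderOf x ∈ stabElt E := by
    rw [mem_stabElt, ← hpow, pow_orderOf_eq_one]
    exact mem_stabElt.mp (one_mem _)
  obtain ⟨k, hk⟩ := hidx
  have h2 : y ^ p ^ k ∈ stabElt E := by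
    have hm := Subgroup.pow_index_mem (N.subgroupOf C) ⟨y, hy⟩
    rw [hk, Subgroup.mem_subgroupOf] at hm
    exact conjElt_liftUp_self (C.pow_mem hy _) (by simpa using hm) g
  have hy' : y ∈ stabElt E := by
    have hco : Nat.Coprime (p ^ k) (orderOf x) :=
      Nat.Coprime.pow_left k ((Fact.out : p.Prime).coprime_iff_not_dvd.mpr hxr)
    have := Int.gcd_eq_gcd_ab (p ^ k : ℕ) (orderOf x)
    rw [Int.gcd_natCast_natCast, hco.gcd_eq_one, Nat.cast_one] at this
    rw [← zpow_one y, this, zpow_add, zpow_mul, zpow_mul, zpow_natCast, zpow_natCast]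
    exact mul_mem (zpow_mem h2 _) (zpow_mem h1 _)
  rw [hyE]
  exact hy'

/-- If the covered block is fixed, so is the covering block. -/
theorem stabilizesBlock_of_covers (hM : IsPModular p M) [Fact p.Prime]
    (hidx : ∃ k : ℕ, (N.subgroupOf C).index = p ^ k)
    {h : Set (IrrCharacter C)} (hh : IsPBlock M h) {g : Set (IrrCharacter (N.subgroupOf C))}
    (hg : IsPBlock M g) (hc : Covers h g) {x : G} (hxC : x ∈ Subgroup.normalizer (C : Set G))
    (hxg : H82.conjElt x (liftUp N C g) = liftUp N C g) : StabilizesBlock C h x := by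
  classical
  cases nonempty_fintype C
  refine (H82.stabilizesBlock_iff hM hh).mpr ⟨hxC, ?_⟩
  have hc' := covers_conj hxC hc
  rw [liftUp_injective ((liftUp_conjSub hxC g).trans hxg)] at hc'
  exact covering_block_unique hM hidx hg (H82.isPBlock_conjSet hxC hh) hh hc' hc

end Cfsg.Agent.H25
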