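import Cfsg.Agent.H25.Q8Data
import Cfsg.Agent.Cores.ThirdMain
import Cfsg.Agent.CharInduce.Induce
import Cfsg.Agent.CharBasic.Virtual
import Cfsg.Agent.CharBasic.Kernel
import Cfsg.Agent.BlockBasic.Orth

/-!
# The generalised character supported on the elements of order divisible by four

For a group with a quaternion Sylow 2-subgroup of order eight and fused elements of order four,
the function equal to `4` on the elements of order divisible by four is a generalised character of
norm four and equals the sum of `χ(y) χ` over the principal 2-block.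
-/

set_option autoImplicit false
set_option linter.unusedSectionVars false

namespace Cfsg.Agent.H25

open Finset Cfsg.Agent.BlockBasic Cfsg.Agent.CharBasic Cfsg.Agent.CharInduce
open scoped ComplexConjugate

universe u

variable {G : Type u} [Group G]

/-- The function equal to `4` on the elements of order divisible by four. -/
noncomputable def fourFun (G : Type u) [Group G] : G → ℂ :=
  fun g => if 4 ∣ orderOf g then 4 else 0

theorem fourFun_of_four {g : G} (h : 4 ∣ orderOf g) : fourFun G g = 4 := if_pos h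

theorem fourFun_of_not {g : G} (h : ¬ 4 ∣ orderOf g) : fourFun G g = 0 := if_neg h

theorem orderOf_conj' (w g : G) : orderOf (w⁻¹ * g * w) = orderOf g := by
  have h := MulEquiv.orderOf_eq (MulAut.conj w⁻¹) g
  simpa using h

open scoped Classical in
/-- The number of elements carrying `a` to a conjugate `b` is the order of the centraliser of
`b`. -/
theorem card_filter_conj_eq [Fintype G] {a b : G} (h : IsConj b a) :
    #((univ : Finset G).filter fun w => w⁻¹ * a * w = b) =
      Nat.card (Subgroup.centralizer ({b} : Set G)) := by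
  obtain ⟨w₀, rfl⟩ := isConj_iff.mp h
  rw [← Fintype.card_subtype, ← Nat.card_eq_fintype_card]
  refine Nat.card_congr
    { toFun := fun w => ⟨w₀⁻¹ * w.1, Subgroup.mem_centralizer_singleton_iff.mpr ?_⟩
      invFun := fun c => ⟨w₀ * (c : G), ?_⟩
      left_inv := fun w => Subtype.ext (by simp)
      right_inv := fun c => Subtype.ext (by simp) }
  · calc w₀⁻¹ * w.1 * b = w₀⁻¹ * w.1 * (w.1⁻¹ * (w₀ * b * w₀⁻¹) * w.1) := by rw [w.2]
      _ = b * (w₀⁻¹ * w.1) := by group
  · have hc := Subgroup.mem_centralizer_singleton_iff.mp c.2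
    calc (w₀ * (c : G))⁻¹ * (w₀ * b * w₀⁻¹) * (w₀ * (c : G)) = (c : G)⁻¹ * (b * (c : G)) := by
          group
      _ = b := by rw [← hc, inv_mul_cancel_left]

namespace Q8Conf

variable [Fintype G] {x y : G}

theorem exists_phi (h : Q8Conf x y) :
    ∃ μ : Subgroup.centralizer ({y} : Set G) →* ℂˣ,
      (∀ c : Subgroup.centralizer ({y} : Set G),
        (1 : ℂ) - ((μ c : ℂˣ) : ℂ) ^ 2 = if 4 ∣ orderOf (c : G) then 2 else 0) ∧
      ∃ N : Subgroup (Subgroup.centralizer ({y} : Set G)), N.Normal ∧ ¬ 2 ∣ Nat.card N ∧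
        ∀ c, Odd (orderOf c) → c ∈ N := by
  have : Fact (Nat.Prime 2) := ⟨Nat.prime_two⟩
  obtain ⟨μ, hμy, -, hodd, hN⟩ := h.exists_mu
  refine ⟨μ, fun c => ?_, hN⟩
  have hy : y ∈ Subgroup.centralizer ({y} : Set G) := Subgroup.mem_centralizer_singleton_iff.mpr rfl
  have hcy : Commute y (c : G) := (Subgroup.mem_centralizer_singleton_iff.mp c.2).symm
  have hq : Commute y (pPart (p := 2) (c : G)) := Q8Conf.commute_pPart_of_commute hcy
  obtain ⟨n, hn⟩ : ∃ n : ℤ, y ^ n = pPart (p := 2) (c : G) :=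
    h.mem_zpowers_of_commute h.orderOf_y (exists_orderOf_pPart _) hq.symm
  set yC : Subgroup.centralizer ({y} : Set G) := ⟨y, hy⟩ with hyC
  set r := (yC ^ n)⁻¹ * c with hr
  have hr' : (r : G) = pReg (p := 2) (c : G) := by
    rw [hr, pReg, ← hn]; simp [hyC]
  have hro : Odd (orderOf r) := by
    rw [← Nat.not_even_iff_odd, even_iff_two_dvd, ← Subgroup.orderOf_coe, hr']
    exact not_dvd_orderOf_pReg _
  have hμ : μ c = μ yC ^ n := by
    have hc' : c = yC ^ n * r := by rw [hr, mul_inv_cancel_left]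
    conv_lhs => rw [hc']
    rw [map_mul, hodd r hro, mul_one, map_zpow]
  have hμ2 : ((μ c : ℂˣ) : ℂ) ^ 2 = (-1) ^ n := by
    rw [← Units.val_pow_eq_pow_val, hμ, ← zpow_natCast, ← zpow_mul, mul_comm, zpow_mul,
      zpow_natCast, hμy]
    simp
  rw [hμ2]
  rcases h.orderOf_pPart_cases (c : G) with ⟨ho, h2⟩ | ⟨ho, -, h4⟩ | ⟨ho, h4⟩
  · rw [if_neg fun h4 => h2 (dvd_trans (by norm_num) h4)]
    rw [← hn, ← orderOf_dvd_iff_zpow_eq_one, h.orderOf_y] at ho
    obtain ⟨j, rfl⟩ := ho
    rw [Even.neg_one_zpow ⟨2 * j, by push_cast; ring⟩, sub_self]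
  · rw [if_neg h4]
    rw [← hn] at ho
    have h2 : (y ^ n) ^ 2 = 1 := orderOf_dvd_iff_pow_eq_one.mp ho.dvd
    rw [← zpow_natCast, ← zpow_mul, ← orderOf_dvd_iff_zpow_eq_one, h.orderOf_y] at h2
    have h3 : (2 : ℤ) ∣ n := by push_cast at h2; omega
    rw [Even.neg_one_zpow (even_iff_two_dvd.mpr h3), sub_self]
  · rw [if_pos h4]
    have h3 : Odd n := by
      rw [← Int.not_even_iff_odd]
      rintro ⟨j, rfl⟩
      rw [← hn] at ho
      have h2 : (y ^ (j + j)) ^ 2 = 1 := by
        rw [← zpow_natCast, ← zpow_mul, ← orderOf_dvd_iff_zpow_eq_one, h.orderOf_y]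
        push_cast
        omega
      have := orderOf_dvd_of_pow_eq_one h2
      rw [ho] at this
      omega
    rw [h3.neg_one_zpow]
    norm_num

theorem fourFun_eq_indFun (h : Q8Conf x y) :
    fourFun G = indFun (Subgroup.centralizer ({y} : Set G))
      (fun c => if 4 ∣ orderOf (c : G) then 2 else 0) := by
  classical
  have : Fact (Nat.Prime 2) := ⟨Nat.prime_two⟩
  funext g
  rw [indFun_apply]
  set φ : Subgroup.centralizer ({y} : Set G) → ℂ := fun c => if 4 ∣ orderOf (c : G) then 2 else 0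
    with hφ
  by_cases hg : 4 ∣ orderOf g
  swap
  · rw [fourFun_of_not hg, sum_eq_zero fun w _ => ?_, mul_zero]
    by_cases hw : w⁻¹ * g * w ∈ Subgroup.centralizer ({y} : Set G)
    · rw [extendByZero_of_mem _ hw, hφ]
      exact if_neg (by simpa only [orderOf_conj'] using hg)
    · exact extendByZero_of_not_mem _ hw
  set t := pPart (p := 2) g with ht
  have htc : ∀ w : G, pPart (p := 2) (w⁻¹ * g * w) = w⁻¹ * t * w := fun w => by
    have := pPart_conj (p := 2) g w⁻¹
    simpa using this
  have hval : ∀ w : G, extendByZero (Subgroup.centralizer ({y} : Set G)) φ (w⁻¹ * g * w) =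
      (if w⁻¹ * t * w = y then 2 else 0) + (if w⁻¹ * t * w = y⁻¹ then 2 else 0) := by
    intro w
    by_cases hw : w⁻¹ * g * w ∈ Subgroup.centralizer ({y} : Set G)
    · rw [extendByZero_of_mem _ hw, hφ]
      simp only
      rw [if_pos (by rw [orderOf_conj']; exact hg)]
      have hc : Commute y (w⁻¹ * t * w) := by
        rw [← htc]
        exact Q8Conf.commute_pPart_of_commute (Subgroup.mem_centralizer_singleton_iff.mp hw).symm
      have ho : orderOf (w⁻¹ * t * w) = 4 := by rw [orderOf_conj', ht]; exact h.orderOf_pPart_of_four hg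
      obtain ⟨n, hn⟩ : ∃ n : ℤ, y ^ n = w⁻¹ * t * w :=
        h.mem_zpowers_of_commute h.orderOf_y ⟨2, by rw [ho]; norm_num⟩ hc.symm
      have hmod : n % 4 = 1 ∨ n % 4 = 3 := by
        have h4 : ¬ (4 : ℤ) ∣ 2 * n := fun hd => by
          have h2 : (w⁻¹ * t * w) ^ (2 : ℕ) = 1 := by
            rw [← hn, ← zpow_natCast, ← zpow_mul, ← orderOf_dvd_iff_zpow_eq_one, h.orderOf_y]
            push_cast
            rwa [mul_comm]
          have := orderOf_dvd_of_pow_eq_one h2
          rw [ho] at this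
          omega
        omega
      have hy1 : y ^ n = y ^ (n % 4) := by
        rw [zpow_eq_zpow_iff_modEq, h.orderOf_y]
        exact (Int.mod_modEq n 4).symm
      rcases hmod with e | e <;> rw [← hn, hy1, e]
      · rw [zpow_one, if_pos rfl, if_neg h.y_ne_inv, add_zero]
      · have e3 : y ^ (3 : ℤ) = y⁻¹ := by
          rw [← zpow_neg_one, zpow_eq_zpow_iff_modEq, h.orderOf_y]
          decide
        rw [e3, if_neg h.y_ne_inv.symm, if_pos rfl, zero_add]
    · rw [extendByZero_of_not_mem _ hw]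
      have hne : ∀ b : G, Commute y b → w⁻¹ * t * w = b → b ∈ Subgroup.zpowers y → orderOf b = 4 →
          False := by
        intro b _ hb hbm hbo
        apply hw
        obtain ⟨n, hn⟩ := hbm
        obtain ⟨k, hk⟩ : ∃ k : ℤ, b ^ k = y := by
          have heq : Subgroup.zpowers b = Subgroup.zpowers y := by
            refine Subgroup.eq_of_le_of_card_ge (Subgroup.zpowers_le.mpr ⟨n, hn⟩) ?_
            rw [Nat.card_zpowers, Nat.card_zpowers, hbo, h.orderOf_y]
          exact (heq ▸ Subgroup.mem_zpowers y : y ∈ Subgroup.zpowers b)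
        have hcb : Commute b (w⁻¹ * g * w) := by
          rw [← hb, ← htc]
          simpa [pPart_mul_pReg] using
            ((Commute.refl (pPart (p := 2) (w⁻¹ * g * w))).mul_right
              (commute_pPart_pReg (p := 2) (w⁻¹ * g * w)))
        rw [Subgroup.mem_centralizer_singleton_iff, ← hk]
        exact (hcb.zpow_left k).symm.eq
      rw [if_neg fun e => hne y (Commute.refl y) e (Subgroup.mem_zpowers y) h.orderOf_y,
        if_neg fun e => hne y⁻¹ (Commute.refl y).inv_right e (inv_mem (Subgroup.mem_zpowers y))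
          (by rw [orderOf_inv]; exact h.orderOf_y), add_zero]
  simp only [hval]
  have hcy : IsConj y t := h.fused t (h.orderOf_pPart_of_four hg)
  rw [fourFun_of_four hg, sum_add_distrib, ← sum_filter, ← sum_filter, sum_const, sum_const,
    nsmul_eq_mul, nsmul_eq_mul, card_filter_conj_eq hcy,
    card_filter_conj_eq (h.isConj_inv.symm.trans hcy)]
  have hC : Subgroup.centralizer ({y⁻¹} : Set G) = Subgroup.centralizer ({y} : Set G) := by
    ext w
    simp only [Subgroup.mem_centralizer_singleton_iff]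
    exact ⟨fun e => (Commute.inv_right_iff.mp e).eq, fun e => (Commute.inv_right e).eq⟩
  rw [hC]
  field_simp
  norm_num

theorem isGeneralized_fourFun (h : Q8Conf x y) :
    Cfsg.IsGeneralizedCharacter G (fourFun G) ∧
      Cfsg.classInner (fourFun G) (fun _ => 1) = 1 ∧
      Cfsg.classInner (fourFun G) (fourFun G) = 4 := by
  classical
  obtain ⟨μ, hμ, -⟩ := h.exists_phi
  let C := Subgroup.centralizer ({y} : Set G)
  let ν : C →* ℂˣ := μ * μ
  have hν : (fun c : C => if 4 ∣ orderOf (c : G) then (2 : ℂ) else 0) =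
      (fun _ : C => (1 : ℂ)) - fun c => ((ν c : ℂˣ) : ℂ) := by
    funext c
    rw [← hμ c]
    simp [ν, sq]
  have i0 : Cfsg.IsIrrCharacter C (fun _ : C => (1 : ℂ)) := isIrrCharacter_one
  have i1 : Cfsg.IsIrrCharacter C (fun c => ((ν c : ℂˣ) : ℂ)) := isIrrCharacter_hom ν
  have hne : (fun c => ((ν c : ℂˣ) : ℂ)) ≠ fun _ : C => (1 : ℂ) := by
    intro e
    have := congrFun hν ⟨y, Subgroup.mem_centralizer_singleton_iff.mpr rfl⟩
    simp [e, h.four_dvd_orderOf] at this
  have hone : Cfsg.classInner (fourFun G) (fun _ => 1) = 1 := by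
    rw [h.fourFun_eq_indFun, classInner_indFun_left _ _ _ (fun _ _ => rfl), hν]
    rw [classInner_sub_left, classInner_irr_self i0, classInner_irr_of_ne i1 i0 hne, sub_zero]
  refine ⟨?_, hone, ?_⟩
  · rw [h.fourFun_eq_indFun, hν]
    exact IsGen.ind C (CharInduce.IsGen.sub (IsGen.of_char (IsIrr.isCharacter i0))
      (IsGen.of_char (IsIrr.isCharacter i1)))
  · rw [show (4 : ℂ) = 4 * Cfsg.classInner (fourFun G) (fun _ => 1) by rw [hone, mul_one],
      classInner_def, classInner_def, mul_left_comm (4 : ℂ)]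
    congr 1
    rw [mul_sum]
    refine sum_congr rfl fun g _ => ?_
    by_cases hg : 4 ∣ orderOf g <;> simp [fourFun, hg, map_ofNat]

theorem sum_four (h : Q8Conf x y) :
    ∑ g : G with 4 ∣ orderOf g, (1 : ℂ) = (Nat.card G : ℂ) / 4 := by
  have h1 := h.isGeneralized_fourFun.2.1
  rw [classInner_def, inv_mul_eq_iff_eq_mul₀ (card_ne_zero_complex G)] at h1
  simp only [fourFun, map_one, mul_one, ← sum_filter, sum_const, nsmul_eq_mul] at h1 ⊢
  linear_combination h1 / 4

/-- A member of the principal 2-block is constant on the elements of order divisible by four. -/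
theorem apply_four (h : Q8Conf x y) {M : Ideal AlgInt} (hM : IsPModular 2 M)
    {χ : IrrCharacter G} (hχ : χ ∈ principalBlock M G) {g : G} (hg : 4 ∣ orderOf g) :
    (χ : G → ℂ) g = (χ : G → ℂ) y := by
  have : Fact (Nat.Prime 2) := ⟨Nat.prime_two⟩
  obtain ⟨μ, -, N, hNn, hN2, hN⟩ := h.exists_phi
  obtain ⟨w, hw⟩ := isConj_iff.mp (h.fused _ (h.orderOf_pPart_of_four hg)).symm
  have hp : pPart (p := 2) (w * g * w⁻¹) = y := by rw [pPart_conj, hw]
  have hmem : pReg (p := 2) (w * g * w⁻¹) ∈ Subgroup.centralizer ({y} : Set G) := by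
    refine Subgroup.mem_centralizer_singleton_iff.mpr ?_
    have := commute_pPart_pReg (p := 2) (w * g * w⁻¹)
    rw [hp] at this
    exact this.eq.symm
  have hodd : Odd (orderOf (⟨_, hmem⟩ : Subgroup.centralizer ({y} : Set G))) := by
    rw [Subgroup.orderOf_mk, ← Nat.not_even_iff_odd, even_iff_two_dvd]
    exact not_dvd_orderOf_pReg _
  have := Cores.principalBlock_apply_mul hM (e := 2) (h.orderOf_y.trans (by norm_num)) hχ N hN2
    (hN _ hodd)
  rw [← IsIrr.isClassFunction χ.2 g w, ← pPart_mul_pReg (p := 2) (w * g * w⁻¹), hp]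
  exact this

open scoped Classical in
/-- The coefficients of `fourFun`. -/
theorem fourFun_coeff (h : Q8Conf x y) {M : Ideal AlgInt} (hM : IsPModular 2 M) :
    ∃ m : IrrCharacter G → ℤ, (∀ χ : IrrCharacter G, Cfsg.classInner (fourFun G) (χ : G → ℂ) = m χ) ∧
      (∀ χ ∈ principalBlock M G, (χ : G → ℂ) y = m χ) ∧
      (∀ χ : IrrCharacter G, χ ∉ principalBlock M G → m χ = 0) ∧
      (∑ χ : IrrCharacter G, m χ * m χ = 4) ∧ m trivialIrr = 1 := by
  have : Fact (Nat.Prime 2) := ⟨Nat.prime_two⟩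
  obtain ⟨hgen, hone, hnorm⟩ := h.isGeneralized_fourFun
  obtain ⟨m, hm, -⟩ := CharBasic.IsGen.exists_int_mult hgen
  set B := principalBlock M G with hB
  let f : G → ℂ := fun g => blockKernel B g y
  have hfsum : f = ∑ χ : IrrCharacter G,
      (if χ ∈ B then conj ((χ : G → ℂ) y) else 0) • (χ : G → ℂ) := by
    funext g
    simp only [f, blockKernel, finsum_mem_eq_sum_ite, Finset.sum_apply, Pi.smul_apply, smul_eq_mul]
    refine sum_congr rfl fun χ _ => ?_
    split_ifs <;> ring
  have hfc : ∀ ψ : IrrCharacter G,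
      Cfsg.classInner f (ψ : G → ℂ) = if ψ ∈ B then conj ((ψ : G → ℂ) y) else 0 := fun ψ => by
    rw [hfsum, classInner_sum_irr]
  have hf : ∀ g : G, f g = f y / 4 * fourFun G g := by
    intro g
    by_cases hg : 4 ∣ orderOf g
    · rw [fourFun_of_four hg, div_mul_cancel₀ _ (by norm_num : (4 : ℂ) ≠ 0)]
      simp only [f, blockKernel, finsum_mem_eq_sum_ite]
      refine sum_congr rfl fun χ _ => ?_
      split_ifs with hχ
      · rw [h.apply_four hM hχ hg]
      · rfl
    · rw [fourFun_of_not hg, mul_zero]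
      refine blockKernel_eq_zero hM (isPBlock_principalBlock M) fun hc => hg ?_
      rw [(pPart_eq_self_iff (p := 2) y).2 ⟨2, h.orderOf_y.trans (by norm_num)⟩] at hc
      obtain ⟨w, hw⟩ := isConj_iff.mp hc.symm
      have h4 : orderOf (pPart (p := 2) g) = 4 := by
        rw [← hw, ← MulAut.conj_apply, MulEquiv.orderOf_eq, h.orderOf_y]
      rcases h.orderOf_pPart_cases g with ⟨h1, -⟩ | ⟨h1, -, -⟩ | ⟨-, h1⟩
      · simp [h1] at h4
      · omega
      · exact h1
  have hfα : f = (f y / 4) • fourFun G := funext fun g => by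
    rw [hf g]; rfl
  have hT : trivialIrr ∈ B := sameBlock_refl hM _
  have hr : f y / 4 = 1 := by
    have h1 := hfc trivialIrr
    rw [if_pos hT, hfα, classInner_smul_left] at h1
    simpa [trivialIrr, hone] using h1
  rw [hr, one_smul] at hfα
  have hmc : ∀ ψ : IrrCharacter G, (m ψ : ℂ) = if ψ ∈ B then conj ((ψ : G → ℂ) y) else 0 :=
    fun ψ => by rw [← hm ψ, ← hfα, hfc]
  refine ⟨m, hm, fun χ hχ => ?_, fun χ hχ => ?_, ?_, ?_⟩
  · have h1 := congrArg conj (hmc χ)
    rw [if_pos hχ, map_intCast, Complex.conj_conj] at h1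
    exact h1.symm
  · exact_mod_cast (hmc χ).trans (if_neg hχ)
  · have h1 := classInner_eq_sum (ψ := fourFun G) (CharBasic.IsGen.isClassFunction hgen)
    simp only [hm, map_intCast, hnorm] at h1
    exact_mod_cast h1.symm
  · have h1 := hmc trivialIrr
    rw [if_pos hT] at h1
    simp [trivialIrr] at h1
    exact_mod_cast h1

/-- The values of a character at `y` and `y ^ 2` have the same parity. -/
theorem parity (h : Q8Conf x y) {χ : G → ℂ} (hχ : Cfsg.IsCharacter G χ) {m : ℤ}
    (hm : χ y = m) : ∃ p : ℤ, χ (y ^ 2) = p ∧ 2 ∣ p - m := by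
  classical
  set Y := Subgroup.zpowers y
  let yY : Y := ⟨y, Subgroup.mem_zpowers y⟩
  have hgen : ∀ w : Y, w ∈ Subgroup.zpowers yY := fun w => by
    obtain ⟨i, hi⟩ := w.2
    exact ⟨i, Subtype.ext (by simpa [yY] using hi)⟩
  let iU : ℂˣ := Units.mk0 Complex.I Complex.I_ne_zero
  have hi4 : iU ^ 4 = 1 := Units.ext (by simp [iU, Complex.I_pow_four])
  have hyo : orderOf yY = 4 := by rw [← Subgroup.orderOf_coe]; exact h.orderOf_y
  let l : Y →* ℂˣ := monoidHomOfForallMemZpowers hgen (g' := iU) (by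
    rw [hyo]; exact orderOf_dvd_of_pow_eq_one hi4)
  have hl : ∀ i : ℕ, ((l (yY ^ i) : ℂˣ) : ℂ) = Complex.I ^ i := fun i => by
    rw [map_pow, monoidHomOfForallMemZpowers_apply_gen]; simp [iU]
  have hsum : ∀ F : Y → ℂ, ∑ w, F w = F (yY ^ 0) + F (yY ^ 1) + F (yY ^ 2) + F (yY ^ 3) := by
    intro F
    rw [← Equiv.sum_comp (finEquivZPowers (isOfFinOrder_of_finite y)) F]
    rw [show (fun i : Fin (orderOf y) => F (finEquivZPowers (isOfFinOrder_of_finite y) i)) =
      fun i : Fin (orderOf y) => (fun j : ℕ => F (yY ^ j)) i from funext fun i => by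
        congr 1]
    rw [Fin.sum_univ_eq_sum_range (fun j : ℕ => F (yY ^ j)) (orderOf y), h.orderOf_y]
    simp [sum_range_succ]
  have hres := IsChar.res hχ Y
  obtain ⟨a, ha⟩ := classInner_isChar_nat hres (IsIrr.isCharacter isIrrCharacter_one)
  obtain ⟨b, hb⟩ := classInner_isChar_nat hres (CharInduce.isCharacter_hom l)
  have hcard : (Nat.card Y : ℂ) = 4 := by rw [Nat.card_zpowers, h.orderOf_y]; norm_num
  have h3 : χ (y ^ 3) = χ y := by
    rw [← IsChar.isClassFunction hχ y x, h.conj_y]
    congr 1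
    refine eq_inv_of_mul_eq_one_left ?_
    rw [← pow_succ, h.two_pow_y]
  rw [classInner_def, hsum, hcard] at ha hb
  simp only [hl] at hb
  simp only [SubgroupClass.coe_pow, yY, pow_zero, pow_one, map_one, mul_one, map_pow,
    Complex.conj_I, h3, hm, OneMemClass.coe_one] at ha hb
  simp only [show (-Complex.I) ^ 2 = -1 by simp [Complex.I_sq],
    show (-Complex.I) ^ 3 = Complex.I by rw [pow_succ, neg_sq, Complex.I_sq]; ring] at hb
  refine ⟨2 * ((a : ℤ) - b) - m, ?_, ⟨(a : ℤ) - b - m, by ring⟩⟩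
  push_cast
  linear_combination 2 * ha - 2 * hb

end Q8Conf

end Cfsg.Agent.H25
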