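import Cfsg.Agent.H25.Q8Centre
import Cfsg.Agent.CharInduce.Brauer
import Cfsg.Agent.H25.Transfer
import Mathlib.GroupTheory.SchurZassenhaus

/-!
# Functions supported on elements of order twice an odd number

If the involution `z` is central and `f` is a generalised character invariant under `z` and
vanishing on the elements of order divisible by four, then twice the restriction of `f` to the
elements of order twice an odd number is a generalised character.
-/

set_option autoImplicit false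
set_option linter.unusedSectionVars false

namespace Cfsg.Agent.H25

open Finset Cfsg.Agent.BlockBasic Cfsg.Agent.CharBasic Cfsg.Agent.CharInduce
open scoped ComplexConjugate

universe u

variable {G : Type u} [Group G] [Fintype G]

/-- Twice `f` on the elements of order twice an odd number, zero elsewhere. -/
noncomputable def twoFun (f : G → ℂ) : G → ℂ :=
  fun g => if 2 ∣ orderOf g ∧ ¬ 4 ∣ orderOf g then 2 * f g else 0

theorem twoFun_of_two {f : G → ℂ} {g : G} (h : 2 ∣ orderOf g ∧ ¬ 4 ∣ orderOf g) :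
    twoFun f g = 2 * f g := if_pos h

theorem twoFun_of_not {f : G → ℂ} {g : G} (h : ¬ (2 ∣ orderOf g ∧ ¬ 4 ∣ orderOf g)) :
    twoFun f g = 0 := if_neg h

/-- In a nilpotent group the odd part is a homomorphism. -/
theorem exists_pReg_hom (E : Type u) [Group E] [Finite E] [Group.IsNilpotent E]
    [Fact (Nat.Prime 2)] : ∃ φ : E →* E, ∀ e, φ e = pReg (p := 2) e := by
  obtain ⟨P⟩ : Nonempty (Sylow 2 E) := inferInstance
  have hPn : (P : Subgroup E).Normal :=
    P.normal_of_normalizerCondition Group.normalizerCondition_of_isNilpotent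
  obtain ⟨O, hO⟩ := Subgroup.exists_right_complement'_of_coprime P.card_coprime_index
  have hOcard : ¬ 2 ∣ Nat.card O := by rw [← (Subgroup.IsComplement'.symm hO).index_eq_card]; exact P.not_dvd_index
  have hmemP : ∀ q : E, (∃ k, orderOf q = 2 ^ k) → q ∈ (P : Subgroup E) := by
    intro q hq
    obtain ⟨k, hk⟩ := hq
    have hQ : IsPGroup 2 (Subgroup.zpowers q) :=
      IsPGroup.of_card (n := k) (by rw [Nat.card_zpowers, hk])
    obtain ⟨S, hS⟩ := hQ.exists_le_sylow
    have := P.unique_of_normal hPn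
    rw [Subsingleton.elim P S]
    exact hS (Subgroup.mem_zpowers q)
  have hodd : ∀ o : O, ¬ 2 ∣ orderOf (o : E) := fun o hd =>
    hOcard (hd.trans (by rw [Subgroup.orderOf_coe]; exact orderOf_dvd_natCard o))
  have hPpow : ∀ q ∈ (P : Subgroup E), ∃ k, orderOf q = 2 ^ k := fun q hq => by
    obtain ⟨k, hk⟩ := IsPGroup.iff_orderOf.mp P.isPGroup' ⟨q, hq⟩
    exact ⟨k, by rw [← hk, Subgroup.orderOf_mk]⟩
  have hcomm : ∀ q ∈ (P : Subgroup E), ∀ o : O, Commute q (o : E) := by
    intro q hq o
    obtain ⟨k, hk⟩ := hPpow q hq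
    refine commute_of_coprime_orderOf q o ?_
    rw [hk]
    exact (Nat.prime_two.coprime_iff_not_dvd.mpr (hodd o)).pow_left k
  have hmemO : ∀ a : E, ¬ 2 ∣ orderOf a → a ∈ O := by
    intro a ha
    obtain ⟨⟨⟨q, hq⟩, o⟩, he⟩ := (Subgroup.isComplement'_def.mp hO).2 a
    have he' : q * (o : E) = a := he
    have h1 := pPart_mul_of (p := 2) (hcomm q hq o) (hPpow q hq) (hodd o)
    rw [he', (pPart_eq_one_iff a).2 ha] at h1
    rw [← he', ← h1, one_mul]
    exact o.2
  refine ⟨MonoidHom.mk' (fun e => pReg (p := 2) e) fun a b => ?_, fun _ => rfl⟩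
  have hqa := hmemP _ (exists_orderOf_pPart (p := 2) a)
  have hqb := hmemP _ (exists_orderOf_pPart (p := 2) b)
  have hoa := hmemO _ (not_dvd_orderOf_pReg (p := 2) a)
  have hob := hmemO _ (not_dvd_orderOf_pReg (p := 2) b)
  have hab : a * b = (pPart (p := 2) a * pPart (p := 2) b) *
      (pReg (p := 2) a * pReg (p := 2) b) := by
    conv_lhs => rw [← pPart_mul_pReg (p := 2) a, ← pPart_mul_pReg (p := 2) b]
    have := (hcomm _ hqb ⟨_, hoa⟩).eq
    simp only [mul_assoc]
    rw [← mul_assoc (pReg (p := 2) a), ← this, mul_assoc]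
  have h1 := pPart_mul_of (p := 2) (hcomm _ (mul_mem hqa hqb) ⟨_, mul_mem hoa hob⟩)
    (hPpow _ (mul_mem hqa hqb)) (hodd ⟨_, mul_mem hoa hob⟩)
  conv_lhs => rw [pReg, hab, h1, inv_mul_cancel_left]

namespace Q8Conf

variable {x y : G}

theorem isGeneralized_twoFun (h : Q8Conf x y) (hc : ∀ g : G, Commute (y ^ 2) g) {f : G → ℂ}
    (hf : Cfsg.IsGeneralizedCharacter G f) (hfz : ∀ g, f (y ^ 2 * g) = f g)
    (hf4 : ∀ g, 4 ∣ orderOf g → f g = 0) :
    Cfsg.IsGeneralizedCharacter G (twoFun f) := by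
  classical
  have : Fact (Nat.Prime 2) := ⟨Nat.prime_two⟩
  have hfc := CharBasic.IsGen.isClassFunction hf
  refine isGeneralized_of_elem (fun g k => ?_) fun E hE => ?_
  · have ho : orderOf (k * g * k⁻¹) = orderOf g := by
      rw [← MulAut.conj_apply, MulEquiv.orderOf_eq]
    simp only [twoFun, ho, hfc g k]
  haveI := Fintype.ofFinite E
  by_cases hzE : y ^ 2 ∈ E
  swap
  · have hzero : (fun e : E => twoFun f (e : G)) = 0 := by
      funext e
      refine twoFun_of_not fun he => hzE ?_
      have hp := h.orderOf_pPart_cases (e : G)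
      rcases hp with ⟨-, h2⟩ | ⟨ho, -, -⟩ | ⟨-, h4⟩
      · exact absurd he.1 h2
      · have h2 : (pPart (p := 2) (e : G)) ^ 2 = 1 := orderOf_dvd_iff_pow_eq_one.mp ho.dvd
        rw [← h.eq_z (hc _).symm (by rw [← sq]; exact h2) fun e1 => by simp [e1] at ho]
        obtain ⟨w, hw, hc', h1, h2'⟩ := isPPart_pPart (p := 2) (e : G)
        have he2 : pPart (p := 2) (e : G) = ((pPart (p := 2) e : E) : G) := by
          refine pPart_eq_of_isPPart ⟨(pReg (p := 2) e : E), ?_, ?_, ?_, ?_⟩
          · rw [← Subgroup.coe_mul, pPart_mul_pReg]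
          · exact congrArg Subtype.val (commute_pPart_pReg (p := 2) e).eq
          · obtain ⟨k, hk⟩ := exists_orderOf_pPart (p := 2) e
            exact ⟨k, by rw [Subgroup.orderOf_coe, hk]⟩
          · rw [Subgroup.orderOf_coe]; exact not_dvd_orderOf_pReg e
        rw [he2]
        exact SetLike.coe_mem _
      · exact absurd h4 he.2
    rw [hzero]
    exact CharInduce.IsGen.zero
  set zE : E := ⟨y ^ 2, hzE⟩ with hzEdef
  have hzz : zE * zE = 1 := Subtype.ext h.z_sq
  have hsplit : ∀ e : E, (2 ∣ orderOf e ∧ ¬ 4 ∣ orderOf e) ↔ ¬ 2 ∣ orderOf (zE * e) := by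
    intro e
    simp only [← Subgroup.orderOf_coe, Subgroup.coe_mul]
    exact h.two_iff (hc e)
  have hnil : Group.IsNilpotent E := by
    obtain ⟨p, hp, hEp⟩ := hE
    have : Fact p.Prime := ⟨hp⟩
    exact isNilpotent_of_isElementary hEp
  obtain ⟨φ, hφ⟩ := exists_pReg_hom E
  have hφo : ∀ e : E, ¬ 2 ∣ orderOf e → φ e = e := fun e he => by
    rw [hφ, pReg, (pPart_eq_one_iff e).2 he, inv_one, one_mul]
  have hφz : ∀ e : E, ¬ 2 ∣ orderOf e → φ (zE * e) = e := fun e he => by
    rw [hφ, pReg, pPart_mul_of (Subtype.ext (hc e).eq) ⟨1, by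
      rw [← Subgroup.orderOf_coe, pow_one]; exact h.orderOf_z⟩ he, inv_mul_cancel_left]
  refine isGeneralizedCharacter_of_coeff (fun a k => ?_) fun ξ => ?_
  · have ho : orderOf ((k * a * k⁻¹ : E) : G) = orderOf (a : G) := by
      push_cast
      rw [← MulAut.conj_apply, MulEquiv.orderOf_eq]
    simp only [twoFun, ho]
    congr 2
    push_cast
    exact hfc _ _
  obtain ⟨d, ρ, hirr, hρ⟩ := ξ.2
  obtain ⟨ω, -, -, hω⟩ := exists_central_scalar ρ (z := zE)
    (Subgroup.mem_center_iff.mpr fun e => Subtype.ext (hc e).eq.symm)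
  have hω' : ∀ e : E, (ξ : E → ℂ) (zE * e) = ω * (ξ : E → ℂ) e := fun e => by
    rw [show zE * e = e * zE from Subtype.ext (hc e).eq, ← hρ]; exact hω e
  have hω1 : ω = 1 ∨ ω = -1 := by
    have h0 := hω' 1
    rw [mul_one] at h0
    have h1 := hω' zE
    rw [hzz, h0, ← mul_assoc] at h1
    exact mul_self_eq_one_iff.mp ((mul_eq_right₀ (IsIrr.one_ne_zero ξ.2)).mp h1.symm)
  obtain ⟨k, hk⟩ := CharInduce.IsGen.exists_int_coeff
    (CharInduce.IsGen.comp hf E.subtype) (IsChar.comp (IsIrr.isCharacter ξ.2) φ)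
  have hmain : Cfsg.classInner (fun e : E => twoFun f (e : G)) (ξ : E → ℂ) = conj ω * k := by
    rw [← hk, classInner_def, classInner_def, mul_left_comm (conj ω)]
    congr 1
    rw [sum_split hzz hsplit, sum_split hzz hsplit, mul_add, mul_add]
    have z4 : ∀ F : E → ℂ, (∀ e : E, 4 ∣ orderOf e → F e = 0) →
        ∑ e : E with 4 ∣ orderOf e, F e = 0 := fun F hF =>
      sum_eq_zero fun e he => hF e (mem_filter.mp he).2
    rw [z4 _ fun e he => by
        rw [twoFun_of_not (fun h' => h'.2 (by rwa [Subgroup.orderOf_coe])), zero_mul],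
      z4 _ fun e he => by
        show f (e : G) * _ = 0
        rw [hf4 _ (by rwa [Subgroup.orderOf_coe]), zero_mul],
      mul_zero, add_zero, add_zero,
      sum_eq_zero (s := (univ : Finset E).filter fun e => ¬ 2 ∣ orderOf e) fun e he => by
        rw [twoFun_of_not (fun h' => (mem_filter.mp he).2 (by rw [← Subgroup.orderOf_coe]; exact h'.1)),
          zero_mul],
      zero_add, mul_sum, mul_sum, ← sum_add_distrib]
    refine sum_congr rfl fun e he => ?_
    have he' := (mem_filter.mp he).2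
    have htwo : 2 ∣ orderOf ((zE * e : E) : G) ∧ ¬ 4 ∣ orderOf ((zE * e : E) : G) := by
      rw [Subgroup.orderOf_coe]
      refine (hsplit (zE * e)).mpr ?_
      rwa [← mul_assoc, hzz, one_mul]
    rw [twoFun_of_two htwo, hω', map_mul]
    simp only [hφo e he', hφz e he']
    simp only [Subgroup.coe_subtype, Subgroup.coe_mul, hzEdef, hfz]
    ring
  rcases hω1 with rfl | rfl
  · exact ⟨k, by rw [hmain]; simp⟩
  · exact ⟨-k, by rw [hmain]; simp⟩

end Q8Conf

end Cfsg.Agent.H25
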