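import Cfsg.Agent.H25.Q8Alpha

/-!
# The principal block of a group with a quaternion Sylow subgroup and central involution

Four irreducible characters of the principal 2-block have the central involution in their kernel;
up to sign they describe the block on elements of odd order.
-/

set_option autoImplicit false
set_option linter.unusedSectionVars false

namespace Cfsg.Agent.H25

open Finset Cfsg.Agent.BlockBasic Cfsg.Agent.CharBasic Cfsg.Agent.CharInduce
open scoped ComplexConjugate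

universe u

variable {G : Type u} [Group G] [Fintype G]

open scoped Classical in
/-- The inner product taken over the elements of odd order. -/
noncomputable def regPair (φ ψ : G → ℂ) : ℂ :=
  (Nat.card G : ℂ)⁻¹ * ∑ g : G with ¬ 2 ∣ orderOf g, φ g * conj (ψ g)

open scoped Classical in
theorem regPair_def (φ ψ : G → ℂ) : regPair φ ψ =
    (Nat.card G : ℂ)⁻¹ * ∑ g : G with ¬ 2 ∣ orderOf g, φ g * conj (ψ g) := rfl

theorem conj_regPair (φ ψ : G → ℂ) : conj (regPair φ ψ) = regPair ψ φ := by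
  classical
  rw [regPair, regPair, map_mul, map_inv₀, map_natCast, map_sum]
  congr 1
  refine sum_congr rfl fun g _ => ?_
  rw [map_mul, Complex.conj_conj, mul_comm]

theorem regPair_smul (a b : ℂ) (φ ψ : G → ℂ) :
    regPair (a • φ) (b • ψ) = a * conj b * regPair φ ψ := by
  classical
  rw [regPair, regPair, mul_left_comm (a * conj b), mul_sum (a := a * conj b)]
  congr 1
  refine sum_congr rfl fun g _ => ?_
  simp only [Pi.smul_apply, smul_eq_mul, map_mul]
  ring

/-- Multiplication by a central involution preserves divisibility of the order by four. -/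
theorem four_mul_iff {z : G} (hz : z * z = 1)
    (hsplit : ∀ g : G, (2 ∣ orderOf g ∧ ¬ 4 ∣ orderOf g) ↔ ¬ 2 ∣ orderOf (z * g)) {g : G}
    (hg : 4 ∣ orderOf g) : 4 ∣ orderOf (z * g) := by
  have h2 : 2 ∣ orderOf g := dvd_trans (by norm_num) hg
  have h1 : 2 ∣ orderOf (z * g) := by
    by_contra h
    exact ((hsplit g).mpr h).2 hg
  by_contra h4
  have := (hsplit (z * g)).mp ⟨h1, h4⟩
  rw [← mul_assoc, hz, one_mul] at this
  exact this h2

open scoped Classical in
/-- The three types of elements: odd order, `z` times odd order, order divisible by four. -/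
theorem sum_split {z : G} (hz : z * z = 1)
    (hsplit : ∀ g : G, (2 ∣ orderOf g ∧ ¬ 4 ∣ orderOf g) ↔ ¬ 2 ∣ orderOf (z * g)) (F : G → ℂ) :
    ∑ g : G, F g = (∑ g : G with ¬ 2 ∣ orderOf g, F g) +
      (∑ g : G with ¬ 2 ∣ orderOf g, F (z * g)) + ∑ g : G with 4 ∣ orderOf g, F g := by
  have h4 : ∀ g : G, 4 ∣ orderOf g → 2 ∣ orderOf g := fun g hg => dvd_trans (by norm_num) hg
  have htwo : ∑ g : G with ¬ 2 ∣ orderOf g, F (z * g) =
      ∑ g : G with 2 ∣ orderOf g ∧ ¬ 4 ∣ orderOf g, F g := by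
    rw [sum_filter, sum_filter, ← Equiv.sum_comp (Equiv.mulLeft z)
      (fun g => if 2 ∣ orderOf g ∧ ¬ 4 ∣ orderOf g then F g else 0)]
    refine sum_congr rfl fun g _ => ?_
    have := hsplit (z * g)
    rw [← mul_assoc, hz, one_mul] at this
    simp only [Equiv.coe_mulLeft]
    exact if_congr this.symm rfl rfl
  rw [htwo, sum_filter, sum_filter, sum_filter, ← sum_add_distrib, ← sum_add_distrib]
  refine sum_congr rfl fun g _ => ?_
  by_cases a : 2 ∣ orderOf g <;> by_cases b : 4 ∣ orderOf g <;> simp [a, b]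
  exact absurd (h4 g b) a

namespace Q8Conf

variable {x y : G}

theorem hsplit_of_central (h : Q8Conf x y) (hc : ∀ g : G, Commute (y ^ 2) g) :
    ∀ g : G, (2 ∣ orderOf g ∧ ¬ 4 ∣ orderOf g) ↔ ¬ 2 ∣ orderOf (y ^ 2 * g) :=
  fun g => h.two_iff (hc g)

open scoped Classical in
theorem exists_family (h : Q8Conf x y) (hc : ∀ g : G, Commute (y ^ 2) g) {M : Ideal AlgInt}
    (hM : IsPModular 2 M) :
    ∃ (V : Fin 3 → G → ℂ) (n : Fin 3 → ℤ),
      (∀ l, Cfsg.IsGeneralizedCharacter G (V l)) ∧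
      (∀ l, V l 1 = n l) ∧ (∀ l, ¬ 2 ∣ n l) ∧ n 0 + n 1 + n 2 = -1 ∧
      (∀ l g, V l (y ^ 2 * g) = V l g) ∧ (∀ l g, 4 ∣ orderOf g → V l g = 1) ∧
      regPair (fun _ : G => (1 : ℂ)) (fun _ => 1) = 3 / 8 ∧
      (∀ l, regPair (V l) (fun _ => 1) = -1 / 8) ∧
      (∀ l k, regPair (V l) (V k) = if l = k then 3 / 8 else -1 / 8) ∧
      ∀ (θ : G → ℂ) (o : G), ¬ 2 ∣ orderOf o →
        blockPart (principalBlock M G) θ o = 2 * regPair θ (fun _ => 1) +
          ∑ l, 2 * regPair θ (V l) * V l o := by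
  have : Fact (Nat.Prime 2) := ⟨Nat.prime_two⟩
  obtain ⟨m, hm, hmy, hm0, hsq, hmT⟩ := h.fourFun_coeff hM
  set z := y ^ 2 with hz
  have hz2 : z * z = 1 := h.z_sq
  have hsplit := h.hsplit_of_central hc
  set B := principalBlock M G with hB
  set T : IrrCharacter G := trivialIrr with hT
  have hTB : T ∈ B := sameBlock_refl hM _
  have hmB : ∀ ξ : IrrCharacter G, m ξ ≠ 0 → ξ ∈ B := fun ξ hξ => by_contra fun e => hξ (hm0 ξ e)
  have hzc : z ∈ Subgroup.center G := Subgroup.mem_center_iff.mpr fun g => (hc g).eq.symm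
  have heps : ∀ ξ : IrrCharacter G, ∃ ε : ℂ, (ε = 1 ∨ ε = -1) ∧
      ∀ g, (ξ : G → ℂ) (z * g) = ε * (ξ : G → ℂ) g := by
    intro ξ
    obtain ⟨d, ρ, hirr, hρ⟩ := ξ.2
    obtain ⟨ω, -, -, hω⟩ := exists_central_scalar ρ hzc
    have hω' : ∀ g, (ξ : G → ℂ) (z * g) = ω * (ξ : G → ℂ) g := fun g => by
      rw [(hc g).eq, ← hρ]; exact hω g
    refine ⟨ω, ?_, hω'⟩
    have h0 := hω' 1
    rw [mul_one] at h0
    have h1 := hω' z
    rw [hz2, h0, ← mul_assoc] at h1
    have h2 : ω * ω = 1 := (mul_eq_right₀ (IsIrr.one_ne_zero ξ.2)).mp h1.symm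
    exact mul_self_eq_one_iff.mp h2
  have hy4 : ∀ ξ : IrrCharacter G, ξ ∈ B → ∀ g : G, 4 ∣ orderOf g → (ξ : G → ℂ) g = m ξ :=
    fun ξ hξ g hg => (h.apply_four hM hξ hg).trans (hmy ξ hξ)
  have hfix : ∀ ξ : IrrCharacter G, m ξ ≠ 0 → ∀ g, (ξ : G → ℂ) (z * g) = (ξ : G → ℂ) g := by
    intro ξ hξ g
    obtain ⟨ε, -, hε⟩ := heps ξ
    have h1 := hε y
    rw [hy4 ξ (hmB ξ hξ) _ (four_mul_iff hz2 hsplit h.four_dvd_orderOf),
      hy4 ξ (hmB ξ hξ) y h.four_dvd_orderOf] at h1
    have : ε = 1 := (mul_eq_right₀ (Int.cast_ne_zero.mpr hξ)).mp h1.symm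
    rw [hε, this, one_mul]
  have hneg : ∀ ξ : IrrCharacter G, ξ ∈ B → m ξ = 0 → ∀ g,
      (ξ : G → ℂ) (z * g) = -(ξ : G → ℂ) g := by
    intro ξ hξ hξ0 g
    obtain ⟨ε, hε1, hε⟩ := heps ξ
    rcases hε1 with rfl | rfl
    swap
    · rw [hε, neg_one_mul]
    exfalso
    have hne : (ξ : G → ℂ) ≠ fun _ => 1 := by
      intro e
      rw [show ξ = T from Subtype.ext e, hmT] at hξ0
      omega
    have h0 : Cfsg.classInner (ξ : G → ℂ) (fun _ => 1) = 0 :=
      classInner_irr_of_ne ξ.2 isIrrCharacter_one hne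
    rw [classInner_def, mul_eq_zero] at h0
    have hsum := h0.resolve_left (inv_ne_zero (card_ne_zero_complex G))
    simp only [map_one, mul_one] at hsum
    rw [sum_split hz2 hsplit] at hsum
    rw [sum_eq_zero (s := (univ : Finset G).filter fun g => 4 ∣ orderOf g) fun g hg => by
      rw [hy4 ξ hξ g (mem_filter.mp hg).2, hξ0, Int.cast_zero], add_zero] at hsum
    simp only [hε, one_mul, ← two_mul, mul_eq_zero, OfNat.ofNat_ne_zero, false_or] at hsum
    have hcong := omega_congr hM (IsIrr.isClassFunction ξ.2) (IsIrr.isClassFunction T.2)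
      (sameBlock_symm (show SameBlock M (fun _ : G => (1 : ℂ)) (ξ : G → ℂ) from hξ))
      (Cores.isCentralElt_regElt 2) (Cores.isIntElt_regElt hM)
    have hzero : omega (ξ : G → ℂ) (Cores.regElt 2) = 0 := by
      rw [omega, chiLin]
      simp only [Cores.regElt, coeff_ofFun, ite_mul, one_mul, zero_mul]
      rw [← sum_filter, hsum, zero_div]
    rw [hzero, zero_sub] at hcong
    exact Cores.not_memLocalIdeal_omega_regElt (G := G) hM
      (by simpa [hT, trivialIrr] using memLocalIdeal_neg hcong)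
  -- the four members
  set S := (univ : Finset (IrrCharacter G)).filter fun ξ => m ξ ≠ 0 with hS
  have hTS : T ∈ S := by rw [hS, mem_filter, hmT]; exact ⟨mem_univ _, one_ne_zero⟩
  have hsum3 : ∑ ξ ∈ S.erase T, m ξ * m ξ = 3 := by
    have h1 : ∑ ξ ∈ S, m ξ * m ξ = 4 := by
      rw [← hsq]
      refine sum_subset (subset_univ _) fun ξ _ hξ => ?_
      have : m ξ = 0 := by simpa [hS] using hξ
      simp [this]
    rw [← add_sum_erase _ _ hTS, hmT] at h1
    omega
  have hunit : ∀ ξ ∈ S, m ξ * m ξ = 1 := by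
    intro ξ hξ
    rcases eq_or_ne ξ T with rfl | hne
    · rw [hmT, one_mul]
    have hle : m ξ * m ξ ≤ 3 := hsum3 ▸ single_le_sum (f := fun ξ => m ξ * m ξ)
      (fun _ _ => mul_self_nonneg _) (mem_erase.mpr ⟨hne, hξ⟩)
    have h0 : m ξ ≠ 0 := by simpa [hS] using hξ
    have : m ξ ≤ 1 ∧ -1 ≤ m ξ := ⟨by nlinarith, by nlinarith⟩
    rcases (show m ξ = 1 ∨ m ξ = -1 by omega) with e | e <;> simp [e]
  have hcard : #(S.erase T) = 3 := by
    have h1 : ∑ ξ ∈ S.erase T, m ξ * m ξ = ∑ _ξ ∈ S.erase T, (1 : ℤ) :=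
      sum_congr rfl fun ξ hξ => hunit ξ (mem_of_mem_erase hξ)
    rw [hsum3, sum_const, nsmul_eq_mul, mul_one] at h1
    exact_mod_cast h1.symm
  set e := (S.erase T).equivFinOfCardEq hcard with he
  let σ : Fin 3 → IrrCharacter G := fun l => (e.symm l).1
  have hσ : ∀ l, σ l ∈ S.erase T := fun l => (e.symm l).2
  have hσS : ∀ l, σ l ∈ S := fun l => mem_of_mem_erase (hσ l)
  have hσm : ∀ l, m (σ l) ≠ 0 := fun l => (mem_filter.mp (hσS l)).2
  have hsumS : ∀ F : IrrCharacter G → ℂ, ∑ ξ ∈ S, F ξ = F T + ∑ l, F (σ l) := fun F => by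
    rw [← add_sum_erase _ _ hTS, ← Finset.sum_coe_sort, ← Equiv.sum_comp e.symm]
  let V : Fin 3 → G → ℂ := fun l => (m (σ l) : ℂ) • (σ l : G → ℂ)
  have hVapp : ∀ l g, V l g = (m (σ l) : ℂ) * (σ l : G → ℂ) g := fun _ _ => rfl
  have hTfun : (fun _ : G => (1 : ℂ)) = (m T : ℂ) • (T : G → ℂ) := by
    rw [hmT, Int.cast_one, one_smul]; rfl
  -- the table
  have hfour : ∑ g : G with 4 ∣ orderOf g, (1 : ℂ) = (Nat.card G : ℂ) / 4 := h.sum_four
  have htab : ∀ ξ ∈ S, ∀ η ∈ S, regPair ((m ξ : ℂ) • (ξ : G → ℂ)) ((m η : ℂ) • (η : G → ℂ)) =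
      if ξ = η then 3 / 8 else -1 / 8 := by
    intro ξ hξ η hη
    have hξ0 := (mem_filter.mp hξ).2
    have hη0 := (mem_filter.mp hη).2
    have h1 := classInner_irrCharacter ξ η
    rw [classInner_def, sum_split hz2 hsplit] at h1
    simp only [hfix ξ hξ0, hfix η hη0] at h1
    rw [sum_congr rfl (g := fun _ => (m ξ : ℂ) * (m η : ℂ) * 1)
      (s₁ := (univ : Finset G).filter fun g => 4 ∣ orderOf g) (fun g hg => by
        rw [hy4 ξ (hmB ξ hξ0) g (mem_filter.mp hg).2, hy4 η (hmB η hη0) g (mem_filter.mp hg).2,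
          map_intCast, mul_one]), ← mul_sum, hfour, mul_add, mul_add, ← regPair_def] at h1
    rw [regPair_smul, map_intCast]
    have ha : (m ξ : ℂ) * m ξ = 1 := by exact_mod_cast hunit ξ hξ
    have hb : (m η : ℂ) * m η = 1 := by exact_mod_cast hunit η hη
    have hG : (Nat.card G : ℂ)⁻¹ * ((m ξ : ℂ) * m η * ((Nat.card G : ℂ) / 4)) =
        (m ξ : ℂ) * m η / 4 := by field_simp [card_ne_zero_complex G]
    rw [hG] at h1
    by_cases e : ξ = η
    · subst e
      rw [if_pos rfl] at h1 ⊢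
      linear_combination ((m ξ : ℂ) * m ξ / 2) * h1 + (1 / 2 - (m ξ : ℂ) * m ξ / 8 - 1 / 8) * ha
    · rw [if_neg e] at h1 ⊢
      linear_combination ((m ξ : ℂ) * m η / 2) * h1 -
        ((m η : ℂ) * m η / 8) * ha - (1 / 8 : ℂ) * hb
  have hn : ∀ l, ∃ k : ℤ, V l 1 = k ∧ ¬ 2 ∣ k := by
    intro l
    obtain ⟨d, -, hd⟩ := IsIrr.exists_degree (σ l).2
    obtain ⟨p, hp, hpm⟩ := h.parity (IsIrr.isCharacter (σ l).2)
      (hmy (σ l) (hmB _ (hσm l)))
    have hpd : p = (d : ℤ) := by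
      have h1 := hfix (σ l) (hσm l) 1
      rw [mul_one, hp, hd] at h1
      exact_mod_cast h1
    refine ⟨m (σ l) * d, by rw [hVapp, hd]; push_cast; rfl, fun hdvd => ?_⟩
    have h1 := hunit (σ l) (hσS l)
    rcases Int.eq_one_or_neg_one_of_mul_eq_one h1 with e | e <;> rw [e] at hdvd hpm <;> omega
  choose n hn hodd using hn
  refine ⟨V, n, fun l => ?_, hn, hodd, ?_, fun l g => ?_, fun l g hg => ?_, ?_, fun l => ?_,
    fun l k => ?_, fun θ o ho => ?_⟩
  · exact CharInduce.IsGen.zsmul (IsGen.of_char (IsIrr.isCharacter (σ l).2)) (m (σ l)) |> fun h => by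
      simpa [V, Int.cast_smul_eq_zsmul] using h
  · have hexp : fourFun G 1 = ∑ ξ : IrrCharacter G, (m ξ : ℂ) * (ξ : G → ℂ) 1 := by
      conv_lhs =>
        rw [classFunction_expansion (CharBasic.IsGen.isClassFunction h.isGeneralized_fourFun.1)]
      simp [hm]
    have h1 : ∑ ξ ∈ S, (m ξ : ℂ) * (ξ : G → ℂ) 1 = 0 := by
      rw [sum_subset (subset_univ S) fun ξ _ hξ => ?_, ← hexp, fourFun_of_not]
      · rw [orderOf_one]; norm_num
      · have : m ξ = 0 := by simpa [hS] using hξ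
        simp [this]
    rw [hsumS, hmT] at h1
    simp only [← hVapp, hn, Fin.sum_univ_three] at h1
    have h2 : ((1 + (n 0 + n 1 + n 2) : ℤ) : ℂ) = 0 := by
      rw [← h1]; simp [hT, trivialIrr]
    have h3 : 1 + (n 0 + n 1 + n 2) = 0 := by exact_mod_cast h2
    omega
  · rw [hVapp, hVapp, hfix _ (hσm l)]
  · rw [hVapp, hy4 _ (hmB _ (hσm l)) g hg]
    exact_mod_cast hunit _ (hσS l)
  · rw [hTfun, htab T hTS T hTS, if_pos rfl]
  · rw [hTfun, htab _ (hσS l) T hTS, if_neg (mem_erase.mp (hσ l)).1]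
  · rw [htab _ (hσS l) _ (hσS k)]
    refine if_congr ⟨fun hlk => ?_, fun hlk => hlk ▸ rfl⟩ rfl rfl
    exact e.symm.injective (Subtype.ext hlk)
  -- the expansion
  rw [blockPart, finsum_mem_eq_sum_ite, Subsingleton.elim (Fintype.ofFinite G) ‹Fintype G›]
  have hK : ∀ g : G, ¬ 2 ∣ orderOf g → blockKernel B o g =
      2 * ∑ ξ ∈ S, (ξ : G → ℂ) o * conj ((ξ : G → ℂ) g) := by
    intro g hg
    have h0 : blockKernel B (z * o) g = 0 := by
      refine blockKernel_eq_zero hM (isPBlock_principalBlock M) fun hcj => ?_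
      rw [(pPart_eq_one_iff g).2 hg, isConj_one_left, pPart_eq_one_iff] at hcj
      exact hcj ((hsplit (z * o)).mpr (by rwa [← mul_assoc, hz2, one_mul])).1
    rw [← add_zero (blockKernel B o g), ← h0, blockKernel, blockKernel, finsum_mem_eq_sum_ite,
      finsum_mem_eq_sum_ite, ← sum_add_distrib, mul_sum, hS, sum_filter]
    refine sum_congr rfl fun ξ _ => ?_
    by_cases hξ : m ξ ≠ 0
    · rw [if_pos hξ, if_pos (hmB ξ hξ), if_pos (hmB ξ hξ), hfix ξ hξ]; ring
    · rw [if_neg hξ]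
      split_ifs with hξB
      · rw [hneg ξ hξB (not_not.mp hξ)]; ring
      · rw [add_zero]
  have h2 : ∀ g : G, θ g * blockKernel B o g = if ¬ 2 ∣ orderOf g then
      θ g * (2 * ∑ ξ ∈ S, (ξ : G → ℂ) o * conj ((ξ : G → ℂ) g)) else 0 := by
    intro g
    by_cases hg : 2 ∣ orderOf g
    · rw [if_neg (not_not.mpr hg),
        blockKernel_eq_zero_of_regular_of_singular hM (isPBlock_principalBlock M) ho hg, mul_zero]
    · rw [if_pos hg, hK g hg]
  calc ∑ χ : IrrCharacter G,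
        (if χ ∈ B then Cfsg.classInner θ (χ : G → ℂ) * (χ : G → ℂ) o else 0)
      = (Nat.card G : ℂ)⁻¹ * ∑ g : G, θ g * blockKernel B o g := by
        simp only [blockKernel, finsum_mem_eq_sum_ite, mul_sum, classInner_def]
        rw [sum_comm]
        refine sum_congr rfl fun ξ _ => ?_
        split_ifs
        · rw [sum_mul]; exact sum_congr rfl fun g _ => by ring
        · simp
    _ = ∑ ξ ∈ S, 2 * regPair θ (ξ : G → ℂ) * (ξ : G → ℂ) o := by
        simp only [h2, ← sum_filter, regPair_def, mul_sum, sum_mul]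
        rw [sum_comm]
        exact sum_congr rfl fun ξ _ => sum_congr rfl fun g _ => by ring
    _ = _ := by
        rw [hsumS]
        congr 1
        · simp [hT, trivialIrr]
        · refine sum_congr rfl fun l _ => ?_
          have hu : (m (σ l) : ℂ) * m (σ l) = 1 := by exact_mod_cast hunit _ (hσS l)
          rw [hVapp, show regPair θ (V l) = conj (m (σ l) : ℂ) * regPair θ (σ l : G → ℂ) by
            rw [show θ = (1 : ℂ) • θ from (one_smul _ _).symm, regPair_smul, one_smul, one_mul],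
            map_intCast]
          linear_combination (-(2 * regPair θ (σ l : G → ℂ) * (σ l : G → ℂ) o)) * hu

end Q8Conf

end Cfsg.Agent.H25
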