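import Cfsg.Agent.H25.QuaternionSylow
import Cfsg.Agent.BlockBasic.PPart
import Cfsg.Agent.Fusion.PComplement
import Mathlib.Analysis.Complex.Basic
import Mathlib.GroupTheory.Transfer

/-!
# Groups with a quaternion Sylow 2-subgroup of order eight and fused elements of order four
-/

set_option autoImplicit false
set_option linter.unusedSectionVars false

namespace Cfsg.Agent.H25

open Subgroup Cfsg.Agent.BlockBasic

universe u

/-- `x, y` generate a quaternion Sylow 2-subgroup of order eight and all elements of order four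
are conjugate to `y`. -/
structure Q8Conf {G : Type u} [Group G] (x y : G) : Prop where
  orderOf_y : orderOf y = 4
  conj_y : x * y * x⁻¹ = y⁻¹
  sq_x : x * x = y ^ 2
  gen : ∃ P : Sylow 2 G, x ∈ (P : Subgroup G) ∧ y ∈ (P : Subgroup G) ∧
    ∀ q ∈ (P : Subgroup G), ∃ i : ℕ, q = y ^ i ∨ q = x * y ^ i
  fused : ∀ a : G, orderOf a = 4 → IsConj y a

variable {G : Type u} [Group G]

/-- A conjugate of a member of a Sylow subgroup carrying a given 2-subgroup into it. -/
theorem exists_conj_into [Finite G] {p : ℕ} [Fact p.Prime] (P : Sylow p G) {Q : Subgroup G}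
    (hQ : IsPGroup p Q) : ∃ g : G, ∀ q ∈ Q, g * q * g⁻¹ ∈ (P : Subgroup G) := by
  obtain ⟨S, hS⟩ := hQ.exists_le_sylow
  obtain ⟨g, hg⟩ := MulAction.exists_smul_eq G S P
  refine ⟨g, fun q hq => ?_⟩
  rw [← hg]
  exact ⟨q, hS hq, rfl⟩

/-- Two commuting elements of 2-power order generate a 2-group. -/
theorem exists_isPGroup_of_commute [Finite G] {a b : G} (hc : Commute a b)
    (ha : ∃ k, orderOf a = 2 ^ k) (hb : ∃ k, orderOf b = 2 ^ k) :
    ∃ Q : Subgroup G, IsPGroup 2 Q ∧ a ∈ Q ∧ b ∈ Q := by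
  have : Fact (Nat.Prime 2) := ⟨Nat.prime_two⟩
  obtain ⟨i, hi⟩ := ha
  obtain ⟨j, hj⟩ := hb
  have hA : IsPGroup 2 (zpowers a) := IsPGroup.of_card (n := i) (by rw [Nat.card_zpowers, hi])
  have hB : IsPGroup 2 (zpowers b) := IsPGroup.of_card (n := j) (by rw [Nat.card_zpowers, hj])
  have hn : zpowers b ≤ normalizer (zpowers a : Set G) := by
    refine le_trans ?_ (centralizer_le_normalizer _)
    rw [zpowers_le]
    refine mem_centralizer_iff.mpr fun w hw => ?_
    obtain ⟨k, rfl⟩ := hw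
    exact hc.zpow_left k
  exact ⟨_, hA.to_sup_of_normal_left' hB hn, mem_sup_left (mem_zpowers a),
    mem_sup_right (mem_zpowers b)⟩

namespace Q8Conf

variable {x y : G}

theorem two_pow_y (h : Q8Conf x y) (i : ℕ) : y ^ i = 1 ↔ 4 ∣ i := by
  rw [← orderOf_dvd_iff_pow_eq_one, h.orderOf_y]

theorem z_sq (h : Q8Conf x y) : y ^ 2 * y ^ 2 = 1 := by
  rw [← pow_add, h.two_pow_y]

theorem z_ne_one (h : Q8Conf x y) : y ^ 2 ≠ 1 := fun e => by
  have := (h.two_pow_y 2).mp e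
  omega

theorem z_inv (h : Q8Conf x y) : (y ^ 2)⁻¹ = y ^ 2 := inv_eq_of_mul_eq_one_right h.z_sq

theorem x_comm_z (h : Q8Conf x y) : Commute x (y ^ 2) :=
  h.sq_x ▸ (Commute.refl x).mul_right (Commute.refl x)

theorem sq_outer (h : Q8Conf x y) (i : ℕ) : (x * y ^ i) * (x * y ^ i) = y ^ 2 := by
  have h1 : x * y ^ i * x⁻¹ = (y ^ i)⁻¹ := by rw [← conj_pow, h.conj_y, inv_pow]
  calc (x * y ^ i) * (x * y ^ i) = (x * y ^ i * x⁻¹) * (x * x) * y ^ i := by group
    _ = (y ^ i)⁻¹ * y ^ 2 * y ^ i := by rw [h1, h.sq_x]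
    _ = y ^ 2 := by rw [mul_assoc, pow_mul_comm, inv_mul_cancel_left]

theorem mul_self_eq_one_of_mem (h : Q8Conf x y) {P : Sylow 2 G}
    (hgen : ∀ q ∈ (P : Subgroup G), ∃ i : ℕ, q = y ^ i ∨ q = x * y ^ i)
    {q : G} (hq : q ∈ (P : Subgroup G)) (hqq : q * q = 1) : q = 1 ∨ q = y ^ 2 := by
  obtain ⟨i, rfl | rfl⟩ := hgen q hq
  · rw [← pow_add, h.two_pow_y] at hqq
    obtain ⟨j, hj⟩ := hqq
    have hi : i = 2 * j := by omega
    rcases Nat.even_or_odd' j with ⟨l, rfl | rfl⟩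
    · left; rw [h.two_pow_y]; omega
    · right
      rw [hi, show 2 * (2 * l + 1) = 4 * l + 2 by ring, pow_add, pow_mul, (h.two_pow_y 4).mpr dvd_rfl,
        one_pow, one_mul]
  · exact absurd ((h.sq_outer i).symm.trans hqq) h.z_ne_one

theorem pow_four_of_mem (h : Q8Conf x y) {P : Sylow 2 G}
    (hgen : ∀ q ∈ (P : Subgroup G), ∃ i : ℕ, q = y ^ i ∨ q = x * y ^ i)
    {q : G} (hq : q ∈ (P : Subgroup G)) : q ^ 4 = 1 := by
  obtain ⟨i, rfl | rfl⟩ := hgen q hq
  · rw [← pow_mul, h.two_pow_y]; exact dvd_mul_left 4 i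
  · rw [show 4 = 2 * 2 by rfl, pow_mul, sq (x * y ^ i), h.sq_outer, sq, h.z_sq]

theorem exists_conj (h : Q8Conf x y) [Finite G] {a : G} (ha : a * a = 1) (ha1 : a ≠ 1) :
    IsConj (y ^ 2) a := by
  have : Fact (Nat.Prime 2) := ⟨Nat.prime_two⟩
  obtain ⟨P, -, -, hgen⟩ := h.gen
  obtain ⟨Q, hQ, haQ, -⟩ := exists_isPGroup_of_commute (Commute.refl a)
    ⟨1, by rw [pow_one]; exact orderOf_eq_prime (by rw [sq]; exact ha) ha1⟩
    ⟨1, by rw [pow_one]; exact orderOf_eq_prime (by rw [sq]; exact ha) ha1⟩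
  obtain ⟨g, hg⟩ := exists_conj_into P hQ
  rcases h.mul_self_eq_one_of_mem hgen (hg a haQ)
    (by rw [show g * a * g⁻¹ * (g * a * g⁻¹) = g * (a * a) * g⁻¹ by group, ha]; group) with e | e
  · exact absurd (conj_eq_one_iff.mp e) ha1
  · exact (isConj_iff.mpr ⟨g, e⟩).symm

theorem eq_of_commute (h : Q8Conf x y) [Finite G] {a b : G} (hab : Commute a b) (ha : a * a = 1)
    (ha1 : a ≠ 1) (hb : b * b = 1) (hb1 : b ≠ 1) : a = b := by
  have : Fact (Nat.Prime 2) := ⟨Nat.prime_two⟩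
  obtain ⟨P, -, -, hgen⟩ := h.gen
  obtain ⟨Q, hQ, haQ, hbQ⟩ := exists_isPGroup_of_commute hab
    ⟨1, by rw [pow_one]; exact orderOf_eq_prime (by rw [sq]; exact ha) ha1⟩
    ⟨1, by rw [pow_one]; exact orderOf_eq_prime (by rw [sq]; exact hb) hb1⟩
  obtain ⟨g, hg⟩ := exists_conj_into P hQ
  have key : ∀ c ∈ Q, c * c = 1 → c ≠ 1 → g * c * g⁻¹ = y ^ 2 := by
    intro c hc hcc hc1
    exact (h.mul_self_eq_one_of_mem hgen (hg c hc)
      (by rw [show g * c * g⁻¹ * (g * c * g⁻¹) = g * (c * c) * g⁻¹ by group, hcc]; group)).resolve_left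
      (fun e => hc1 (conj_eq_one_iff.mp e))
  simpa using (key a haQ ha ha1).trans (key b hbQ hb hb1).symm

/-- In the centraliser of the involution it is the only involution. -/
theorem eq_z (h : Q8Conf x y) [Finite G] {a : G} (hc : Commute a (y ^ 2)) (ha : a * a = 1)
    (ha1 : a ≠ 1) : a = y ^ 2 := h.eq_of_commute hc ha ha1 h.z_sq h.z_ne_one

theorem pow_four_of_two (h : Q8Conf x y) [Finite G] {a : G} (ha : ∃ k, orderOf a = 2 ^ k) :
    a ^ 4 = 1 := by
  have : Fact (Nat.Prime 2) := ⟨Nat.prime_two⟩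
  obtain ⟨P, -, -, hgen⟩ := h.gen
  obtain ⟨Q, hQ, haQ, -⟩ := exists_isPGroup_of_commute (Commute.refl a) ha ha
  obtain ⟨g, hg⟩ := exists_conj_into P hQ
  have := h.pow_four_of_mem hgen (hg a haQ)
  rwa [conj_pow, conj_eq_one_iff] at this

/-- Elements of 2-power order commuting with one of order four are its powers. -/
theorem mem_zpowers_of_commute (h : Q8Conf x y) [Finite G] {a b : G} (hb : orderOf b = 4)
    (ha : ∃ k, orderOf a = 2 ^ k) (hab : Commute a b) : a ∈ zpowers b := by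
  have : Fact (Nat.Prime 2) := ⟨Nat.prime_two⟩
  obtain ⟨g, rfl⟩ := isConj_iff.mp (h.fused b hb)
  obtain ⟨P, -, hyP, hgen⟩ := h.gen
  have hc : Commute (g⁻¹ * a * g) y := by
    have := hab.map (MulAut.conj g⁻¹).toMonoidHom
    simpa [mul_assoc] using this
  obtain ⟨k, hk⟩ := ha
  obtain ⟨Q, hQ, h1, h2⟩ := exists_isPGroup_of_commute hc
    ⟨k, by
      rw [← hk, ← MulEquiv.orderOf_eq (MulAut.conj g⁻¹) a]; simp⟩
    ⟨2, h.orderOf_y.trans (by norm_num)⟩
  obtain ⟨c, hc'⟩ := exists_conj_into P hQ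
  -- move `y` back to itself inside `P`
  obtain ⟨i, hi | hi⟩ := hgen _ (hc' y h2) <;> obtain ⟨j, hj | hj⟩ := hgen _ (hc' _ h1)
  all_goals
    have hcm : Commute (c * (g⁻¹ * a * g) * c⁻¹) (c * y * c⁻¹) := hc.map (MulAut.conj c).toMonoidHom
  · -- both in `⟨y⟩`
    have hgen' : zpowers (c * y * c⁻¹) = zpowers y := by
      refine eq_of_le_of_card_ge (zpowers_le.mpr (hi ▸ pow_mem (mem_zpowers y) i)) ?_
      rw [Nat.card_zpowers, Nat.card_zpowers]
      exact (MulEquiv.orderOf_eq (MulAut.conj c) y).ge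
    have hmem : c * (g⁻¹ * a * g) * c⁻¹ ∈ zpowers (c * y * c⁻¹) :=
      hgen' ▸ hj ▸ pow_mem (mem_zpowers y) j
    obtain ⟨n, hn⟩ := hmem
    refine ⟨n, ?_⟩
    have hn' : (c * y * c⁻¹) ^ n = c * (g⁻¹ * a * g) * c⁻¹ := hn
    rw [conj_zpow] at hn'
    show (g * y * g⁻¹) ^ n = a
    rw [conj_zpow, mul_left_cancel (mul_right_cancel hn')]
    group
  · -- `y` in `⟨y⟩`, the other outside
    exfalso
    rw [hi, hj] at hcm
    have hodd : ¬ 2 ∣ i := fun ⟨r, hr⟩ => by
      have : (c * y * c⁻¹) ^ 2 = 1 := by rw [hi, ← pow_mul, h.two_pow_y]; omega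
      rw [conj_pow, conj_eq_one_iff] at this
      exact h.z_ne_one this
    have h3 : x * y ^ i * x⁻¹ = y ^ i := by
      have e := hcm.eq
      rw [mul_inv_eq_iff_eq_mul]
      have e' : x * y ^ i * y ^ j = y ^ i * x * y ^ j := by
        rw [mul_assoc, pow_mul_comm, ← mul_assoc, e, ← mul_assoc]
      exact mul_right_cancel e'
    rw [← conj_pow, h.conj_y, inv_pow, inv_eq_iff_mul_eq_one, ← pow_add, h.two_pow_y] at h3
    omega
  · -- `y` outside, the other in `⟨y⟩`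
    rw [hi, hj] at hcm
    have hw : (c * (g⁻¹ * a * g) * c⁻¹) ^ 2 = 1 := by
      have e := hcm.eq
      have e' : x * y ^ j * x⁻¹ = y ^ j := by
        rw [mul_inv_eq_iff_eq_mul]
        have : x * y ^ j * y ^ i = y ^ j * x * y ^ i := by
          rw [mul_assoc, pow_mul_comm, ← mul_assoc, ← e, ← mul_assoc]
        exact mul_right_cancel this
      rw [← conj_pow, h.conj_y, inv_pow, inv_eq_iff_mul_eq_one] at e'
      rw [hj, sq]; exact e'
    rcases h.mul_self_eq_one_of_mem hgen (hc' _ h1) (by rw [← sq]; exact hw) with e | e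
    · rw [conj_eq_one_iff] at e
      have : a = 1 := by simpa [mul_assoc] using congrArg (fun t => g * t * g⁻¹) e
      rw [this]; exact one_mem _
    · have e2 : (c * y * c⁻¹) ^ 2 = y ^ 2 := by rw [hi, sq, h.sq_outer]
      rw [← e2, conj_pow] at e
      refine ⟨2, ?_⟩
      show (g * y * g⁻¹) ^ (2 : ℤ) = a
      rw [conj_zpow, zpow_ofNat, ← mul_left_cancel (mul_right_cancel e)]
      group
  · -- both outside
    rw [hi, hj] at hcm
    have h1 : x * y ^ j * x⁻¹ = (y ^ j)⁻¹ := by rw [← conj_pow, h.conj_y, inv_pow]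
    have h2 : x * y ^ i * x⁻¹ = (y ^ i)⁻¹ := by rw [← conj_pow, h.conj_y, inv_pow]
    have e1 : x * y ^ j * (x * y ^ i) = (y ^ j)⁻¹ * y ^ i * y ^ 2 := by
      calc x * y ^ j * (x * y ^ i) = x * y ^ j * x⁻¹ * (x * x) * y ^ i := by group
        _ = (y ^ j)⁻¹ * (y ^ 2 * y ^ i) := by rw [h1, h.sq_x, mul_assoc]
        _ = _ := by rw [pow_mul_comm, mul_assoc]
    have e2 : x * y ^ i * (x * y ^ j) = (y ^ i)⁻¹ * y ^ j * y ^ 2 := by
      calc x * y ^ i * (x * y ^ j) = x * y ^ i * x⁻¹ * (x * x) * y ^ j := by group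
        _ = (y ^ i)⁻¹ * (y ^ 2 * y ^ j) := by rw [h2, h.sq_x, mul_assoc]
        _ = _ := by rw [pow_mul_comm, mul_assoc]
    have e3 : (y ^ j)⁻¹ * y ^ i = (y ^ i)⁻¹ * y ^ j :=
      mul_right_cancel (e1.symm.trans (hcm.eq.trans e2))
    have e4 : y ^ (2 * i) = y ^ (2 * j) := by
      rw [two_mul, two_mul, pow_add, pow_add]
      calc y ^ i * y ^ i = y ^ i * (y ^ j * ((y ^ j)⁻¹ * y ^ i)) := by group
        _ = y ^ i * (y ^ j * ((y ^ i)⁻¹ * y ^ j)) := by rw [e3]
        _ = y ^ i * y ^ j * (y ^ i)⁻¹ * y ^ j := by group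
        _ = y ^ j * y ^ i * (y ^ i)⁻¹ * y ^ j := by rw [pow_mul_comm]
        _ = y ^ j * y ^ j := by rw [mul_inv_cancel_right]
    have hmod : ∃ n : ℕ, c * (g⁻¹ * a * g) * c⁻¹ = (c * y * c⁻¹) ^ n := by
      rw [hi, hj]
      rw [pow_eq_pow_iff_modEq, h.orderOf_y] at e4
      have e4' : (2 * i) % 4 = (2 * j) % 4 := e4
      have hij : i % 4 = j % 4 ∨ (i + 2) % 4 = j % 4 := by omega
      rcases hij with e | e
      · refine ⟨1, ?_⟩
        rw [pow_one]
        congr 1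
        rw [pow_eq_pow_iff_modEq, h.orderOf_y]
        exact e.symm
      · refine ⟨3, ?_⟩
        rw [pow_succ, sq, h.sq_outer, ← mul_assoc, ← h.x_comm_z.eq, mul_assoc]
        congr 1
        rw [← pow_add, pow_eq_pow_iff_modEq, h.orderOf_y]
        show j % 4 = (2 + i) % 4
        omega
    obtain ⟨n, hn⟩ := hmod
    rw [conj_pow] at hn
    refine ⟨n, ?_⟩
    show (g * y * g⁻¹) ^ (n : ℤ) = a
    rw [zpow_natCast, conj_pow, ← mul_left_cancel (mul_right_cancel hn)]
    group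

/-- The three types of elements, by the power of two dividing the order. -/
theorem pPart_pow_four (h : Q8Conf x y) [Finite G] [Fact (Nat.Prime 2)] (g : G) :
    pPart (p := 2) g ^ 4 = 1 :=
  h.pow_four_of_two (exists_orderOf_pPart g)

theorem orderOf_pPart_cases (h : Q8Conf x y) [Finite G] [Fact (Nat.Prime 2)] (g : G) :
    (pPart (p := 2) g = 1 ∧ ¬ 2 ∣ orderOf g) ∨
      (orderOf (pPart (p := 2) g) = 2 ∧ 2 ∣ orderOf g ∧ ¬ 4 ∣ orderOf g) ∨
      (orderOf (pPart (p := 2) g) = 4 ∧ 4 ∣ orderOf g) := by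
  have hd : orderOf (pPart (p := 2) g) ∣ 4 := orderOf_dvd_of_pow_eq_one (h.pPart_pow_four g)
  have hmul := (commute_pPart_pReg (p := 2) g).orderOf_mul_eq_mul_orderOf_of_coprime
  have hodd := not_dvd_orderOf_pReg (p := 2) g
  obtain ⟨k, hk⟩ := exists_orderOf_pPart (p := 2) g
  rw [pPart_mul_pReg] at hmul
  have hcop : Nat.Coprime (orderOf (pPart (p := 2) g)) (orderOf (pReg (p := 2) g)) := by
    rw [hk]; exact (Nat.prime_two.coprime_iff_not_dvd.mpr hodd).pow_left k
  have he := hmul hcop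
  have hle := Nat.le_of_dvd (by norm_num) hd
  have hpos := orderOf_pos (pPart (p := 2) g)
  interval_cases hc : orderOf (pPart (p := 2) g)
  · left
    exact ⟨orderOf_eq_one_iff.mp hc, by rw [he, one_mul]; exact hodd⟩
  · right; left
    exact ⟨rfl, by rw [he]; exact dvd_mul_right 2 _, by rw [he]; omega⟩
  · norm_num at hd
  · right; right
    exact ⟨rfl, by rw [he]; exact dvd_mul_right 4 _⟩

theorem orderOf_pPart_of_four (h : Q8Conf x y) [Finite G] [Fact (Nat.Prime 2)] {g : G}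
    (hg : 4 ∣ orderOf g) : orderOf (pPart (p := 2) g) = 4 := by
  rcases h.orderOf_pPart_cases g with ⟨-, h2⟩ | ⟨-, -, h2⟩ | ⟨h2, -⟩
  · omega
  · exact absurd hg h2
  · exact h2

/-- The centraliser of `y` has a linear character sending `y` to a square root of `-1`. -/
theorem exists_mu (h : Q8Conf x y) [Finite G] :
    ∃ μ : centralizer ({y} : Set G) →* ℂˣ,
      (μ ⟨y, mem_centralizer_singleton_iff.mpr rfl⟩ ^ 2 = -1) ∧
      (∀ c, μ c ^ 4 = 1) ∧ (∀ c, Odd (orderOf c) → μ c = 1) ∧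
      ∃ N : Subgroup (centralizer ({y} : Set G)), N.Normal ∧ ¬ 2 ∣ Nat.card N ∧
        ∀ c, Odd (orderOf c) → c ∈ N := by
  have : Fact (Nat.Prime 2) := ⟨Nat.prime_two⟩
  set C := centralizer ({y} : Set G) with hC
  have hyC : y ∈ C := mem_centralizer_singleton_iff.mpr rfl
  let yC : C := ⟨y, hyC⟩
  have hyord : orderOf yC = 4 := by rw [← Subgroup.orderOf_coe]; exact h.orderOf_y
  have hcen : yC ∈ center C :=
    mem_center_iff.mpr fun c => Subtype.ext (mem_centralizer_singleton_iff.mp c.2)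
  have hmax : ∀ {Q : Subgroup C}, IsPGroup 2 Q → zpowers yC ≤ Q → Q = zpowers yC := by
    intro Q hQ hle
    refine le_antisymm (fun q hq => ?_) hle
    obtain ⟨k, hk⟩ := IsPGroup.iff_orderOf.mp hQ ⟨q, hq⟩
    obtain ⟨n, hn⟩ := h.mem_zpowers_of_commute h.orderOf_y
      ⟨k, by rw [← hk]; simp⟩
      (mem_centralizer_singleton_iff.mp q.2)
    exact ⟨n, Subtype.ext (by simpa using hn)⟩
  let S : Sylow 2 C :=
    { toSubgroup := zpowers yC
      isPGroup' := IsPGroup.of_card (n := 2) (by rw [Nat.card_zpowers, hyord]; norm_num)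
      is_maximal' := hmax }
  have hS : normalizer ((S : Subgroup C) : Set C) ≤ centralizer ((S : Subgroup C) : Set C) := by
    intro c _
    refine mem_centralizer_iff.mpr ?_
    rintro w ⟨n, rfl⟩
    exact (mem_center_iff.mp (zpow_mem hcen n) c).symm
  let f : C →* (S : Subgroup C) := MonoidHom.transferSylow S hS
  let yS : (S : Subgroup C) := ⟨yC, mem_zpowers yC⟩
  have hgen : ∀ w : (S : Subgroup C), w ∈ zpowers yS := fun w => by
    obtain ⟨i, hi⟩ := w.2
    exact ⟨i, Subtype.ext (by simpa [yS] using hi)⟩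
  let iU : ℂˣ := Units.mk0 Complex.I Complex.I_ne_zero
  have hi4 : iU ^ 4 = 1 := Units.ext (by simp [iU, Complex.I_pow_four])
  let χ₀ : (S : Subgroup C) →* ℂˣ := monoidHomOfForallMemZpowers hgen (g' := iU) (by
    rw [← Subgroup.orderOf_coe yS, hyord]
    exact orderOf_dvd_of_pow_eq_one hi4)
  have hc4 : ∀ c : C, χ₀.comp f c ^ 4 = 1 := fun c => by
    obtain ⟨i, hi⟩ := hgen (f c)
    have hi' : yS ^ i = f c := hi
    rw [MonoidHom.comp_apply, ← hi', map_zpow, monoidHomOfForallMemZpowers_apply_gen, ← zpow_natCast,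
      ← zpow_mul, mul_comm, zpow_mul, zpow_natCast, hi4, one_zpow]
  have hker : ∀ c : C, Odd (orderOf c) → f c = 1 := by
    intro c hc
    obtain ⟨k, hk⟩ := IsPGroup.iff_orderOf.mp S.isPGroup' (f c)
    refine orderOf_eq_one_iff.mp (Nat.eq_one_of_dvd_coprimes
      ((Nat.coprime_two_right.mpr hc).pow_right k) (orderOf_map_dvd f c) (dvd_of_eq hk))
  refine ⟨χ₀.comp f, ?_, hc4, fun c hc => by rw [MonoidHom.comp_apply, hker c hc, map_one],
    f.ker, inferInstance, ?_, fun c hc => hker c hc⟩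
  · have hd : Odd (S : Subgroup C).index := Nat.odd_iff.mpr (by
      have := S.not_dvd_index
      omega)
    show χ₀ (f (yS : C)) ^ 2 = -1
    rw [MonoidHom.transferSylow_eq_pow S hS (yS : C) yS.2,
      show (⟨(yS : C) ^ (S : Subgroup C).index, _⟩ : (S : Subgroup C)) =
        yS ^ (S : Subgroup C).index from Subtype.ext rfl, map_pow,
      monoidHomOfForallMemZpowers_apply_gen, ← pow_mul, mul_comm, pow_mul]
    refine Units.ext ?_
    simp [iU, Complex.I_sq, hd.neg_one_pow]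
  · exact Fusion.not_dvd_card_of_isComplement' S (MonoidHom.ker_transferSylow_isComplement' S hS)

theorem isConj_inv (h : Q8Conf x y) : IsConj y y⁻¹ := isConj_iff.mpr ⟨x, h.conj_y⟩

theorem orderOf_z (h : Q8Conf x y) : orderOf (y ^ 2) = 2 :=
  orderOf_eq_prime (by rw [sq (y ^ 2)]; exact h.z_sq) h.z_ne_one

theorem four_dvd_orderOf (h : Q8Conf x y) : 4 ∣ orderOf y := dvd_of_eq h.orderOf_y.symm

theorem y_ne_inv (h : Q8Conf x y) : y ≠ y⁻¹ := fun e => h.z_ne_one (by
  rw [sq]; exact mul_eq_one_iff_eq_inv.mpr e)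

theorem commute_pPart_of_commute [Finite G] [Fact (Nat.Prime 2)] {a g : G} (hc : Commute a g) :
    Commute a (pPart (p := 2) g) := by
  have h := pPart_conj (p := 2) g a
  rw [hc.eq, mul_inv_cancel_right] at h
  exact (mul_inv_eq_iff_eq_mul.mp h.symm)

/-- For `g` commuting with the involution `z`, `g` has order twice an odd number exactly when
`z * g` has odd order. -/
theorem two_iff (h : Q8Conf x y) [Finite G] {g : G} (hc : Commute (y ^ 2) g) :
    (2 ∣ orderOf g ∧ ¬ 4 ∣ orderOf g) ↔ ¬ 2 ∣ orderOf (y ^ 2 * g) := by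
  have : Fact (Nat.Prime 2) := ⟨Nat.prime_two⟩
  constructor
  · rintro ⟨h2, h4⟩
    rcases h.orderOf_pPart_cases g with ⟨-, h'⟩ | ⟨ho, -, -⟩ | ⟨-, h'⟩
    · exact absurd h2 h'
    · have he : pPart (p := 2) g = y ^ 2 := by
        refine h.eq_z (commute_pPart_of_commute hc).symm ?_ fun e => by simp [e] at ho
        rw [← sq]
        exact orderOf_dvd_iff_pow_eq_one.mp ho.dvd
      rw [← pPart_mul_pReg (p := 2) g, he, ← mul_assoc, h.z_sq, one_mul]
      exact not_dvd_orderOf_pReg g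
    · exact absurd h' h4
  · intro hodd
    have he : pPart (p := 2) g = y ^ 2 := by
      have h1 : g = y ^ 2 * (y ^ 2 * g) := by rw [← mul_assoc, h.z_sq, one_mul]
      conv_lhs => rw [h1]
      exact pPart_mul_of ((Commute.refl (y ^ 2)).mul_right hc) ⟨1, by rw [h.orderOf_z, pow_one]⟩ hodd
    rcases h.orderOf_pPart_cases g with ⟨h', -⟩ | ⟨-, h2, h4⟩ | ⟨h', -⟩
    · exact absurd (he.symm.trans h') h.z_ne_one
    · exact ⟨h2, h4⟩
    · rw [he, h.orderOf_z] at h'
      omega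

/-- Products of two conjugates of the involution have odd order. -/
theorem odd_mul (h : Q8Conf x y) [Finite G] {a b : G} (ha : a * a = 1) (ha1 : a ≠ 1)
    (hb : b * b = 1) (hb1 : b ≠ 1) : ¬ 2 ∣ orderOf (a * b) := by
  intro hd
  obtain ⟨k, hk⟩ := hd
  have hai : a⁻¹ = a := inv_eq_of_mul_eq_one_right ha
  have hbi : b⁻¹ = b := inv_eq_of_mul_eq_one_right hb
  have hinv : ∀ i : ℕ, a * (a * b) ^ i * a⁻¹ = ((a * b) ^ i)⁻¹ := fun i => by
    rw [← conj_pow, ← inv_pow]
    congr 1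
    rw [mul_inv_rev, hai, hbi, ← mul_assoc, ha, one_mul]
  have hpos := orderOf_pos (a * b)
  have hd2 : (a * b) ^ k * (a * b) ^ k = 1 := by
    rw [← pow_add, ← two_mul, ← hk, pow_orderOf_eq_one]
  have hd1 : (a * b) ^ k ≠ 1 := pow_ne_one_of_lt_orderOf (by omega) (by omega)
  have hc : Commute a ((a * b) ^ k) := by
    have h1 := hinv k
    rw [inv_eq_of_mul_eq_one_right hd2] at h1
    exact mul_inv_eq_iff_eq_mul.mp h1
  have he := h.eq_of_commute hc ha ha1 hd2 hd1
  have hc2 : Commute a (a * b) := by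
    have := Commute.pow_self (a * b) k
    rwa [← he] at this
  have h1 := hinv 1
  rw [pow_one, hc2.eq, mul_inv_cancel_right] at h1
  have h2 : a * b * (a * b) = 1 := by
    nth_rewrite 2 [h1]
    exact mul_inv_cancel _
  rcases eq_or_ne (a * b) 1 with e | e
  · rw [e, orderOf_one] at hk
    omega
  · exact hb1 (mul_left_cancel ((h.eq_of_commute hc2 ha ha1 h2 e).symm.trans (mul_one a).symm))

/-- The centraliser of the involution inherits the configuration. -/
theorem centralizer (h : Q8Conf x y) [Finite G] :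
    ∃ (x' y' : Subgroup.centralizer ({y ^ 2} : Set G)), Q8Conf x' y' ∧ (x' : G) = x ∧
      (y' : G) = y := by
  obtain ⟨P, hxP, hyP, hgen⟩ := h.gen
  have hyc : y ∈ Subgroup.centralizer ({y ^ 2} : Set G) :=
    mem_centralizer_singleton_iff.mpr (Commute.self_pow y 2).eq
  have hxc : x ∈ Subgroup.centralizer ({y ^ 2} : Set G) :=
    mem_centralizer_singleton_iff.mpr h.x_comm_z.eq
  have hPC : (P : Subgroup G) ≤ Subgroup.centralizer ({y ^ 2} : Set G) := by
    intro q hq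
    obtain ⟨i, rfl | rfl⟩ := hgen q hq
    · exact pow_mem hyc i
    · exact mul_mem hxc (pow_mem hyc i)
  refine ⟨⟨x, hxc⟩, ⟨y, hyc⟩, ?_, rfl, rfl⟩
  refine ⟨by rw [Subgroup.orderOf_mk]; exact h.orderOf_y, Subtype.ext h.conj_y,
    Subtype.ext (by simpa using h.sq_x), ⟨P.subtype hPC, hxP, hyP, fun q hq => ?_⟩, fun a ha => ?_⟩
  · obtain ⟨i, hi⟩ := hgen q hq
    exact ⟨i, hi.imp (fun e => Subtype.ext (by simpa using e))
      fun e => Subtype.ext (by simpa using e)⟩
  · obtain ⟨g, hg⟩ := isConj_iff.mp (h.fused a (by rw [Subgroup.orderOf_coe]; exact ha))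
    refine isConj_iff.mpr ⟨⟨g, mem_centralizer_singleton_iff.mpr ?_⟩, Subtype.ext hg⟩
    have h1 : g * y ^ 2 * g⁻¹ = y ^ 2 := by
      refine h.eq_z ?_ ?_ fun e => h.z_ne_one (conj_eq_one_iff.mp e)
      · rw [← conj_pow, hg]
        exact (show Commute (a : G) (y ^ 2) from mem_centralizer_singleton_iff.mp a.2).pow_left 2
      · rw [show g * y ^ 2 * g⁻¹ * (g * y ^ 2 * g⁻¹) = g * (y ^ 2 * y ^ 2) * g⁻¹ by group, h.z_sq]
        group
    exact mul_inv_eq_iff_eq_mul.mp h1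

end Q8Conf

end Cfsg.Agent.H25
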