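import Cfsg.Prelude.Def_LocalEven
import Cfsg.Agent.H49.ChiefDeg
import Cfsg.Agent.Fusion.PComplement

/-!
An element acting with degree less than `p` on an irreducible section, normalising an abelian
`p'`-group of operators, commutes with it. Consequences for groups with a normal series
`p`, abelian `p'`, `p`.
-/

set_option autoImplicit false
set_option linter.unusedSectionVars false

namespace Cfsg.Agent.H25

open Subgroup
open scoped commutatorElement

/-- A unit `x` with `(x - 1) ^ (p - 1) = 0` normalising a commuting set of elements of exponent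
prime to `p` in a ring of characteristic `p` commutes with that set. -/
theorem commute_of_short {E : Type*} [Ring E] {p : ℕ} [hp : Fact p.Prime] (hp0 : (p : E) = 0)
    (A : Set E) (hcomm : ∀ a ∈ A, ∀ b ∈ A, a * b = b * a) (x : Eˣ)
    (hx : ((x : E) - 1) ^ (p - 1) = 0) (hA : ∀ a ∈ A, (x : E) * a * ↑x⁻¹ ∈ A)
    {N : ℕ} (hN : N.Coprime p) (hAN : ∀ a ∈ A, a ^ N = 1) : ∀ a ∈ A, Commute (x : E) a := by
  intro a₀ ha₀
  rcases subsingleton_or_nontrivial E with hE | hE
  · exact Subsingleton.elim _ _
  have : CharP E p := (CharP.charP_iff_prime_eq_zero hp.out).mpr hp0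
  set m := p - 1 with hm
  have hxp : x ^ p = 1 := by
    have h : ((x : E) - 1) ^ p = 0 :=
      pow_eq_zero_of_le (by omega) hx
    rw [sub_pow_char_of_commute (p := p) (Commute.one_right (x : E)), one_pow, sub_eq_zero] at h
    exact Units.ext (by rw [Units.val_pow_eq_pow_val, h, Units.val_one])
  let hB : CommRing (Subring.closure A) := Subring.closureCommRingOfComm hcomm
  have hσ : ∀ (i : ℕ), ∀ a ∈ A, (↑(x ^ i) : E) * a * ↑(x ^ i)⁻¹ ∈ A := by
    intro i
    induction i with
    | zero => intro a ha; simpa using ha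
    | succ i ih =>
      intro a ha
      have := hA _ (ih a ha)
      simpa [pow_succ', mul_assoc] using this
  let σ : ℕ → A → Subring.closure A := fun i a =>
    ⟨(↑(x ^ i) : E) * (a : E) * ↑(x ^ i)⁻¹, Subring.subset_closure (hσ i a a.2)⟩
  have hσmul : ∀ (i : ℕ) (a : A), (σ i a : E) * (x : E) ^ i = (x : E) ^ i * a := by
    intro i a
    simp only [σ, ← Units.val_pow_eq_pow_val, mul_assoc, Units.inv_mul, mul_one]
  -- expansion of `(x - 1) ^ m`
  let c : ℕ → ℤ := fun i => (-1) ^ (m - i) * (m.choose i : ℤ)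
  have hsum : ∑ i ∈ Finset.range (m + 1), (c i : E) * (x : E) ^ i = 0 := by
    rw [← hx, sub_eq_add_neg, (Commute.one_right (x : E)).neg_right.add_pow]
    refine Finset.sum_congr rfl fun i _ => ?_
    simp only [c, Int.cast_mul, Int.cast_pow, Int.cast_neg, Int.cast_one, Int.cast_natCast]
    rw [mul_assoc ((x : E) ^ i)]
    exact (Commute.mul_left (((Commute.one_left _).neg_left).pow_left _) (Nat.cast_commute _ _)).eq
  -- for each prime of the commutative ring, some power of `σ` is trivial modulo it
  have hprime : ∀ P : Ideal (Subring.closure A), P.IsPrime →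
      ∃ k < m, ∀ a : A, σ m a - σ k a ∈ P := by
    intro P hP
    by_contra hcon
    push Not at hcon
    choose f hf using hcon
    let g : ℕ → A := fun k => if hk : k < m then f k hk else ⟨a₀, ha₀⟩
    let D : ℕ → ℕ → Subring.closure A :=
      fun j i => ∏ l ∈ Finset.range j, (σ i (g l) - σ l (g l))
    have key : ∀ (d s : E) (z : ℤ) (y a : E), s * y = y * a →
        d * s * ((z : E) * y) = d * ((z : E) * y) * a := by
      intro d s z y a h
      rw [mul_assoc, ← mul_assoc s, ← (Int.cast_commute z s).eq, mul_assoc (z : E), h,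
        ← mul_assoc (z : E), ← mul_assoc]
    have hS : ∀ j ≤ m, ∑ i ∈ Finset.range (m + 1), (D j i : E) * ((c i : E) * (x : E) ^ i) = 0 := by
      intro j hj
      induction j with
      | zero => simpa [D] using hsum
      | succ j ih =>
        have h0 := ih (by omega)
        have e : ∀ i, (D (j + 1) i : E) * ((c i : E) * (x : E) ^ i) =
            (D j i : E) * ((c i : E) * (x : E) ^ i) * (g j : E) -
              (σ j (g j) : E) * ((D j i : E) * ((c i : E) * (x : E) ^ i)) := by
          intro i
          have hd : D (j + 1) i = D j i * σ i (g j) - σ j (g j) * D j i := by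
            simp only [D, Finset.prod_range_succ]; ring
          rw [hd, AddSubgroupClass.coe_sub, sub_mul, Subring.coe_mul, Subring.coe_mul]
          congr 1
          · exact key (D j i : E) (σ i (g j) : E) (c i) _ _ (hσmul i (g j))
          · rw [mul_assoc]
        simp only [e, Finset.sum_sub_distrib, ← Finset.sum_mul, ← Finset.mul_sum, h0, zero_mul,
          mul_zero, sub_zero]
    have hlow : ∀ i < m, D m i = 0 := fun i hi =>
      Finset.prod_eq_zero (Finset.mem_range.mpr hi) (sub_self _)
    have h1 := hS m le_rfl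
    rw [Finset.sum_range_succ, Finset.sum_eq_zero (fun i hi => by
      rw [hlow i (Finset.mem_range.mp hi)]; simp), zero_add] at h1
    have h2 : (c m : E) = 1 := by simp [c]
    rw [h2, one_mul, ← Units.val_pow_eq_pow_val] at h1
    have hDm : D m m = 0 := Subtype.ext (by simpa using (Units.mul_left_eq_zero _).mp h1)
    have : D m m ∈ P := hDm ▸ P.zero_mem
    obtain ⟨l, hl, hlP⟩ := hP.prod_mem_iff.mp this
    have hl' := Finset.mem_range.mp hl
    exact hf l hl' (by simpa [g, hl'] using hlP)
  have hperiod : ∀ (i : ℕ) (a : A), σ (i + p) a = σ i a := by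
    intro i a
    exact Subtype.ext (by simp only [σ, pow_add, hxp, mul_one])
  have hperiod' : ∀ (q i : ℕ) (a : A), σ (i + q * p) a = σ i a := by
    intro q
    induction q with
    | zero => simp
    | succ q ih => intro i a; rw [add_mul, one_mul, ← add_assoc, hperiod, ih]
  have hfix : ∀ P : Ideal (Subring.closure A), P.IsPrime → σ 1 ⟨a₀, ha₀⟩ - σ 0 ⟨a₀, ha₀⟩ ∈ P := by
    intro P hP
    obtain ⟨k, hk, hkP⟩ := hprime P hP
    set j := m - k with hj
    have hcomp : ∀ (i l : ℕ) (a : A), σ i ⟨_, hσ l a a.2⟩ = σ (i + l) a := by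
      intro i l a
      exact Subtype.ext (by simp [σ, pow_add, mul_assoc])
    have hj' : ∀ a : A, σ j a - σ 0 a ∈ P := by
      intro a
      have h := hkP ⟨_, hσ (p - k) a a.2⟩
      have e1 : m + (p - k) = j + p := by omega
      have e2 : k + (p - k) = 0 + p := by omega
      rwa [hcomp, hcomp, e1, e2, hperiod, hperiod] at h
    have hiter : ∀ (t : ℕ) (a : A), σ (j * t) a - σ 0 a ∈ P := by
      intro t
      induction t with
      | zero => intro a; simp
      | succ t ih =>
        intro a
        have h := hj' ⟨_, hσ (j * t) a a.2⟩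
        rw [hcomp, hcomp, zero_add] at h
        have e : j * (t + 1) = j + j * t := by ring
        rw [e, show σ (j + j * t) a - σ 0 a =
          (σ (j + j * t) a - σ (j * t) a) + (σ (j * t) a - σ 0 a) by ring]
        exact P.add_mem h (ih a)
    have hcop : j.Coprime p :=
      ((Nat.Prime.coprime_iff_not_dvd hp.out).mpr fun hd => by
        have := Nat.le_of_dvd (by omega) hd
        omega).symm
    obtain ⟨t, -, ht⟩ := Nat.exists_mul_mod_eq_one_of_coprime hcop hp.out.one_lt
    have h := hiter t ⟨a₀, ha₀⟩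
    have e : j * t = 1 + (j * t / p) * p := by
      have := Nat.div_add_mod (j * t) p
      rw [ht] at this
      rw [Nat.mul_comm (j * t / p) p]; omega
    rwa [e, hperiod'] at h
  -- the ring is reduced
  set b := σ 1 ⟨a₀, ha₀⟩ - σ 0 ⟨a₀, ha₀⟩ with hb
  have hnil : IsNilpotent b := by
    rw [← mem_nilradical, nilradical_eq_sInf]
    exact Submodule.mem_sInf.mpr fun P hP => hfix P hP
  have : Nontrivial (Subring.closure A) := ⟨⟨0, 1, fun h => zero_ne_one (congrArg Subtype.val h)⟩⟩
  have : CharP (Subring.closure A) p := (CharP.charP_iff_prime_eq_zero hp.out).mpr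
    (Subtype.ext (by simpa using hp0))
  have : ExpChar (Subring.closure A) p := ExpChar.prime hp.out
  have hN0 : 0 < N := Nat.pos_of_ne_zero fun h => by
    rw [h, Nat.coprime_zero_left] at hN; exact hp.out.one_lt.ne' hN
  set r := N.totient with hr
  have hr0 : 0 < r := Nat.totient_pos.mpr hN0
  have hF : ∀ z : Subring.closure A, z ^ p ^ r = z := by
    rintro ⟨z, hz⟩
    induction hz using Subring.closure_induction with
    | mem z hz =>
      refine Subtype.ext ?_
      rw [SubmonoidClass.coe_pow]
      have hmod : p ^ r % N = 1 % N := Nat.ModEq.pow_totient (Nat.Coprime.symm hN)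
      conv_lhs => rw [← Nat.div_add_mod (p ^ r) N, pow_add, pow_mul, hAN z hz, one_pow, one_mul,
        hmod]
      rcases eq_or_ne N 1 with h1 | h1
      · have := hAN z hz
        rw [h1, pow_one] at this
        simp [h1, this]
      · rw [Nat.one_mod_eq_one.mpr h1, pow_one]
    | zero => exact zero_pow (pow_ne_zero r hp.out.ne_zero)
    | one => exact one_pow _
    | add a b ha hb iha ihb =>
      have := map_add (iterateFrobenius (Subring.closure A) p r) ⟨a, ha⟩ ⟨b, hb⟩
      simp only [iterateFrobenius_def] at this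
      rw [iha, ihb] at this
      exact this
    | neg a ha iha =>
      have := map_neg (iterateFrobenius (Subring.closure A) p r) ⟨a, ha⟩
      simp only [iterateFrobenius_def] at this
      rw [iha] at this
      exact this
    | mul a b ha hb iha ihb =>
      show ((⟨a, ha⟩ : Subring.closure A) * ⟨b, hb⟩) ^ p ^ r = _
      rw [mul_pow, iha, ihb]; rfl
  obtain ⟨n, hn⟩ := hnil
  have hb0 : b = 0 := by
    have hk : ∀ k, b ^ (p ^ r) ^ k = b := by
      intro k
      induction k with
      | zero => simp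
      | succ k ih => rw [pow_succ, pow_mul, ih, hF]
    rw [← hk n]
    exact pow_eq_zero_of_le
      (Nat.lt_pow_self (Nat.one_lt_pow hr0.ne' hp.out.one_lt)).le hn
  have h := congrArg Subtype.val (sub_eq_zero.mp hb0)
  simp only [σ, pow_one, pow_zero, inv_one, Units.val_one, mul_one, one_mul] at h
  exact (Units.mul_inv_eq_iff_eq_mul _).mp h

/-- A normal series `1 ≤ P₀ ≤ M ≤ G` with `p`-groups at both ends and abelian `p'`-factor. -/
def IsPAbelianP (p : ℕ) (G : Type*) [Group G] : Prop :=
  ∃ P₀ M : Subgroup G, P₀.Normal ∧ M.Normal ∧ IsPGroup p P₀ ∧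
    (∀ x : G, ∃ k : ℕ, x ^ p ^ k ∈ M) ∧
    (∀ m ∈ M, ∀ m' ∈ M, ⁅m, m'⁆ ∈ P₀) ∧ ∀ m ∈ M, ∃ k : ℕ, k.Coprime p ∧ m ^ k ∈ P₀

variable {G : Type*} [Group G] {p : ℕ}

theorem IsPAbelianP.of_injective {H : Type*} [Group H] (h : IsPAbelianP p G) (f : H →* G)
    (hf : Function.Injective f) : IsPAbelianP p H := by
  obtain ⟨P₀, M, hP, hM, hp, h1, h2, h3⟩ := h
  refine ⟨P₀.comap f, M.comap f, hP.comap f, hM.comap f, hp.comap_of_injective f hf,
    fun x => ?_, fun m hm m' hm' => ?_, fun m hm => ?_⟩
  · obtain ⟨k, hk⟩ := h1 (f x)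
    exact ⟨k, by rwa [Subgroup.mem_comap, map_pow]⟩
  · rw [Subgroup.mem_comap, map_commutatorElement]
    exact h2 _ hm _ hm'
  · obtain ⟨k, hk, hk'⟩ := h3 _ hm
    exact ⟨k, hk, by rwa [Subgroup.mem_comap, map_pow]⟩

theorem IsPAbelianP.of_surjective {H : Type*} [Group H] (h : IsPAbelianP p G) (f : G →* H)
    (hf : Function.Surjective f) : IsPAbelianP p H := by
  obtain ⟨P₀, M, hP, hM, hp, h1, h2, h3⟩ := h
  refine ⟨P₀.map f, M.map f, hP.map f hf, hM.map f hf, hp.map f, fun x => ?_, ?_, ?_⟩
  · obtain ⟨x, rfl⟩ := hf x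
    obtain ⟨k, hk⟩ := h1 x
    exact ⟨k, _, hk, map_pow f x _⟩
  · rintro _ ⟨m, hm, rfl⟩ _ ⟨m', hm', rfl⟩
    exact ⟨_, h2 m hm m' hm', map_commutatorElement f m m'⟩
  · rintro _ ⟨m, hm, rfl⟩
    obtain ⟨k, hk, hk'⟩ := h3 m hm
    exact ⟨k, hk, _, hk', map_pow f m k⟩

/-- In a group with series `p`, abelian `p'`, `p`, an element with fewer than `p` steps on a chief
factor inside a `p`-subgroup centralises that factor. -/
theorem commutator_le_of_short [Finite G] [hp : Fact p.Prime] (hG : IsPAbelianP p G)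
    {U V : Subgroup G} (hc : IsChiefFactor U V) (hU : IsPGroup p U) {g : G}
    (hg : iterCommutator U (zpowers g) (p - 1) ≤ V) : ⁅U, zpowers g⁆ ≤ V := by
  classical
  obtain ⟨P₀, M, hP₀n, hMn, hP₀, hM1, hM2, hM3⟩ := hG
  have := hc.2.1
  have := hc.2.2.1
  obtain ⟨h1, h2, h3⟩ := H49.chief_map hc
  have := h1
  set f := QuotientGroup.mk' V with hf
  set W := U.map f with hW
  obtain ⟨hpow, hab⟩ := H49.chief_pow_mem hc hU
  have hWcomm : IsMulCommutative W := by
    rw [← commutator_self_eq_bot_iff, hW, ← map_commutator, Subgroup.map_eq_bot_iff, hf,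
      QuotientGroup.ker_mk']
    exact hab
  let _ : CommGroup W :=
    { (inferInstance : Group W) with mul_comm := fun a b => Subtype.ext (setLike_mul_comm a.2 b.2) }
  let φ : G →* MulAut W := (MulAut.conjNormal (H := W)).comp f
  let θ : MulAut W →* AddMonoid.End (Additive W) :=
    { toFun := fun e => MonoidHom.toAdditive e.toMonoidHom
      map_one' := rfl
      map_mul' := fun _ _ => rfl }
  have hθ : Function.Injective θ := fun e e' h =>
    MulEquiv.ext fun w => congrArg (fun z : AddMonoid.End (Additive W) => z (Additive.ofMul w)) h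
  have hker : ∀ x : G, φ x = 1 ↔ f x ∈ centralizer (W : Set (G ⧸ V)) := by
    intro x
    rw [mem_centralizer_iff, MulEquiv.ext_iff, Subtype.forall]
    refine forall₂_congr fun w hw => ?_
    rw [Subtype.ext_iff]
    show f x * w * (f x)⁻¹ = w ↔ _
    rw [mul_inv_eq_iff_eq_mul]
    exact eq_comm
  suffices hgoal : φ g = 1 by
    rw [commutator_comm, H49.commutator_le_iff_map, ← hf, ← hW,
      commutator_eq_bot_iff_le_centralizer, MonoidHom.map_zpowers]
    exact zpowers_le.mpr ((hker g).mp hgoal)
  -- the normal `p`-subgroup acts trivially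
  have hP₀W : ∀ x ∈ P₀, φ x = 1 := by
    intro x hx
    have : (P₀.map f).Normal := hP₀n.map f (QuotientGroup.mk'_surjective V)
    refine (hker x).mpr (H49.le_centralizer_of_minimal (hU.map f) h2 h3 (P₀.map f) ?_
      (mem_map_of_mem f hx))
    rintro _ ⟨y, hy, rfl⟩
    obtain ⟨k, hk⟩ := hP₀ ⟨y, hy⟩
    refine ⟨k, ?_⟩
    rw [← map_pow, show y ^ p ^ k = 1 by simpa using congrArg Subtype.val hk, map_one]
    exact one_mem _
  have hMcomm : ∀ m ∈ M, ∀ m' ∈ M, Commute (φ m) (φ m') := by
    intro m hm m' hm'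
    rw [← commutatorElement_eq_one_iff_commute, ← map_commutatorElement]
    exact hP₀W _ (hM2 m hm m' hm')
  -- exponent
  set N := ordCompl[p] (Nat.card G) with hN
  have hNcop : N.Coprime p :=
    (Nat.coprime_ordCompl hp.out Nat.card_pos.ne').symm
  have hexp : ∀ m ∈ M, φ m ^ N = 1 := by
    intro m hm
    obtain ⟨k, hk, hk'⟩ := hM3 m hm
    have e1 : φ m ^ k = 1 := by rw [← map_pow]; exact hP₀W _ hk'
    have e2 : φ m ^ Nat.card G = 1 := by rw [← map_pow, pow_card_eq_one', map_one]
    have d1 := orderOf_dvd_of_pow_eq_one e1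
    have d2 := orderOf_dvd_of_pow_eq_one e2
    refine orderOf_dvd_iff_pow_eq_one.mp ?_
    have d3 : (orderOf (φ m)).Coprime (p ^ (Nat.card G).factorization p) :=
      (hk.coprime_dvd_left d1).pow_right _
    refine d3.dvd_of_dvd_mul_left ?_
    rwa [hN, Nat.ordProj_mul_ordCompl_eq_self]
  -- the short element
  let ψ : G →* (AddMonoid.End (Additive W))ˣ := (θ.comp φ).toHomUnits
  have hψ : ∀ x, ((ψ x : AddMonoid.End (Additive W))) = θ (φ x) := fun x => rfl
  have hstep : ∀ (n : ℕ) (w : W), (((Additive.toMul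
      (((θ (φ g) - 1) ^ n) (Additive.ofMul w))) : W) : G ⧸ V) ∈
        iterCommutator W (zpowers (f g)) n := by
    intro n w
    induction n with
    | zero => exact w.2
    | succ n ih =>
      rw [pow_succ']
      generalize hv : ((θ (φ g) - 1) ^ n) (Additive.ofMul w) = v at ih
      show (((Additive.toMul ((θ (φ g) - 1) (((θ (φ g) - 1) ^ n) (Additive.ofMul w)))) : W) : G ⧸ V) ∈ _
      rw [hv]
      show f g * ((Additive.toMul v : W) : G ⧸ V) * (f g)⁻¹ / ((Additive.toMul v : W) : G ⧸ V) ∈ _
      rw [div_eq_mul_inv, H49.iter_succ, commutator_comm]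
      exact commutator_mem_commutator (mem_zpowers (f g)) ih
  have hW0 : iterCommutator W (zpowers (f g)) (p - 1) = ⊥ := by
    rw [← MonoidHom.map_zpowers, hW, ← H49.iter_map, Subgroup.map_eq_bot_iff, hf,
      QuotientGroup.ker_mk']
    exact hg
  have hshort : (θ (φ g) - 1) ^ (p - 1) = 0 := by
    refine DFunLike.ext _ _ fun v => ?_
    have h := hstep (p - 1) (Additive.toMul v)
    rw [hW0, Subgroup.mem_bot] at h
    exact Additive.toMul.injective (Subtype.ext h)
  have hp0 : (p : AddMonoid.End (Additive W)) = 0 := by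
    refine DFunLike.ext _ _ fun v => Additive.toMul.injective (Subtype.ext ?_)
    rw [AddMonoid.End.natCast_apply]
    show ((Additive.toMul v : W) : G ⧸ V) ^ p = 1
    obtain ⟨u, hu, hu'⟩ := (Additive.toMul v : W).2
    rw [← hu', ← map_pow]
    exact (QuotientGroup.eq_one_iff _).mpr (hpow u hu)
  have hgM : ∀ m ∈ M, Commute (φ g) (φ m) := by
    intro m hm
    have := commute_of_short (p := p) hp0 ((fun y => θ (φ y)) '' (M : Set G))
      (by rintro _ ⟨a, ha, rfl⟩ _ ⟨b, hb, rfl⟩; exact ((hMcomm a ha b hb).map θ).eq)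
      (ψ g) (by rw [hψ]; exact hshort)
      (by
        rintro _ ⟨a, ha, rfl⟩
        refine ⟨g * a * g⁻¹, hMn.conj_mem a ha g, ?_⟩
        rw [← map_inv ψ, hψ, hψ, ← map_mul θ, ← map_mul φ, ← map_mul θ, ← map_mul φ])
      hNcop (by rintro _ ⟨a, ha, rfl⟩; rw [← map_pow, hexp a ha, map_one]) _ ⟨m, hm, rfl⟩
    rw [hψ] at this
    exact hθ (by simpa only [map_mul] using this.eq)
  have hgp : φ g ^ p = 1 := by
    refine hθ ?_
    rw [map_pow, map_one]
    have h : (θ (φ g) - 1) ^ p = 0 :=
      pow_eq_zero_of_le (by omega) hshort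
    rcases subsingleton_or_nontrivial (AddMonoid.End (Additive W)) with hs | hs
    · exact Subsingleton.elim _ _
    have : CharP (AddMonoid.End (Additive W)) p :=
      (CharP.charP_iff_prime_eq_zero hp.out).mpr hp0
    rwa [sub_pow_char_of_commute (p := p) (Commute.one_right _), one_pow, sub_eq_zero] at h
  -- the operators commuting with `M`
  let Cg : Subgroup G := (centralizer (M.map φ : Set (MulAut W))).comap φ
  have hCg : ∀ x, x ∈ Cg ↔ ∀ m ∈ M, Commute (φ x) (φ m) := by
    intro x
    constructor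
    · intro hx m hm
      exact ((mem_centralizer_iff.mp hx) _ (mem_map_of_mem φ hm)).symm
    · rintro hx
      refine mem_centralizer_iff.mpr ?_
      rintro _ ⟨m, hm, rfl⟩
      exact (hx m hm).eq.symm
  have hgconj : ∀ y : G, y * g * y⁻¹ ∈ Cg := by
    refine fun y => (hCg _).mpr fun m hm => ?_
    have := (hgM _ (hMn.conj_mem m hm y⁻¹)).map (MulAut.conj (φ y)).toMonoidHom
    simpa [mul_assoc] using this
  set I := Cg.map φ
  set Z := (M.map φ).subgroupOf I
  have hZc : Z ≤ center I := by
    intro z hz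
    refine mem_center_iff.mpr fun w => Subtype.ext ?_
    obtain ⟨x, hx, hxw⟩ := w.2
    obtain ⟨m, hm, hmz⟩ := (hz : (z : MulAut W) ∈ M.map φ)
    show (w : MulAut W) * z = z * w
    rw [← hxw, show (z : MulAut W) = φ m from hmz.symm]
    exact ((hCg x).mp hx m hm).eq
  have : Z.Normal := ⟨fun n hn y => by
    rw [mem_center_iff.mp (hZc hn) y, mul_inv_cancel_right]; exact hn⟩
  have hZp : ¬ p ∣ Nat.card Z := by
    intro hd
    obtain ⟨z, hz⟩ := exists_prime_orderOf_dvd_card' p hd
    obtain ⟨m, hm, hmz⟩ := (z.2 : ((z : I) : MulAut W) ∈ M.map φ)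
    have h : ((z : I) : MulAut W) ^ N = 1 := by
      rw [show ((z : I) : MulAut W) = φ m from hmz.symm]; exact hexp m hm
    have h' := orderOf_dvd_of_pow_eq_one h
    rw [Subgroup.orderOf_coe, Subgroup.orderOf_coe, hz] at h'
    exact ((Nat.Prime.coprime_iff_not_dvd hp.out).mp hNcop.symm) h'
  have hIZ : IsPGroup p (I ⧸ Z) := by
    rintro ⟨⟨_, x, hx, rfl⟩⟩
    obtain ⟨k, hk⟩ := hM1 x
    refine ⟨k, (QuotientGroup.eq_one_iff _).mpr ?_⟩
    show φ x ^ p ^ k ∈ M.map φ
    exact ⟨_, hk, map_pow φ x _⟩
  obtain ⟨S⟩ : Nonempty (Sylow p I) := inferInstance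
  have hSn : (S : Subgroup I).Normal := by
    rw [← normalizer_eq_top_iff, eq_top_iff,
      ← Fusion.sylow_sup_eq_top S (Fusion.pResidual_le_of_quotient hIZ)]
    refine sup_le le_normalizer (le_trans hZc ?_)
    exact (center_le_centralizer _).trans (centralizer_le_normalizer _)
  let K : Subgroup G := ((S : Subgroup I).map I.subtype).comap φ
  have hgK : ∀ y : G, y * g * y⁻¹ ∈ K := by
    intro y
    let z : I := ⟨φ (y * g * y⁻¹), mem_map_of_mem φ (hgconj y)⟩
    refine ⟨z, ?_, rfl⟩
    have hz : z ^ p = 1 := by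
      refine Subtype.ext ?_
      show φ (y * g * y⁻¹) ^ p = 1
      rw [map_mul, map_mul, map_inv, conj_pow, hgp, mul_one, mul_inv_cancel]
    have hzp : IsPGroup p (zpowers z) := IsPGroup.of_card (n := (orderOf z).factorization p) (by
      rw [Nat.card_zpowers]
      rcases (Nat.dvd_prime hp.out).mp (orderOf_dvd_of_pow_eq_one hz) with h | h <;>
        simp [h, hp.out.factorization_self])
    have hsup : IsPGroup p ↥((S : Subgroup I) ⊔ zpowers z) :=
      IsPGroup.to_sup_of_normal_left S.isPGroup' hzp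
    exact (S.is_maximal' hsup le_sup_left).le (mem_sup_right (mem_zpowers z))
  have hR : normalClosure ({g} : Set G) ≤ K := by
    refine (Subgroup.closure_le K).mpr ?_
    rintro _ hx
    obtain ⟨a, rfl, hconj⟩ := Group.mem_conjugatesOfSet_iff.mp hx
    obtain ⟨y, rfl⟩ := isConj_iff.mp hconj
    exact hgK y
  have : ((normalClosure ({g} : Set G)).map f).Normal :=
    normalClosure_normal.map f (QuotientGroup.mk'_surjective V)
  refine (hker g).mpr (H49.le_centralizer_of_minimal (hU.map f) h2 h3
    ((normalClosure ({g} : Set G)).map f) ?_ (mem_map_of_mem f (subset_normalClosure rfl)))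
  rintro _ ⟨x, hx, rfl⟩
  obtain ⟨w, hw, hwx⟩ := hR hx
  obtain ⟨k, hk⟩ := S.isPGroup' ⟨w, hw⟩
  refine ⟨k, ?_⟩
  rw [← map_pow]
  refine (hker _).mp ?_
  rw [map_pow, ← hwx]
  simpa using congrArg (fun z : (S : Subgroup I) => ((z : I) : MulAut W)) hk

/-- Groups with series `p`, abelian `p'`, `p` are `p`-stable for odd `p`. -/
theorem pStable_of_pAbelianP [Finite G] [hp : Fact p.Prime] (hodd : p ≠ 2)
    (hG : IsPAbelianP p G) : IsNormalizerPStable p G := by
  intro P hP g hg hquad
  set L := normalizer (P : Set G) with hL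
  set C := (centralizer (P : Set G)).subgroupOf L
  set P' := P.subgroupOf L
  have : P'.Normal := normal_in_normalizer
  have hP' : IsPGroup p P' := hP.comap_subtype
  let R : Subgroup L := ⨅ (U : Subgroup L), ⨅ (V : Subgroup L), ⨅ (hc : IsChiefFactor U V),
    ⨅ (_ : U ≤ P'), haveI := hc.2.2.1
      (centralizer ((U.map (QuotientGroup.mk' V)) : Set (L ⧸ V))).comap (QuotientGroup.mk' V)
  have hmemR : ∀ x : L, x ∈ R ↔ H49.CentralBelow (zpowers x) P' := by
    intro x
    simp only [R, Subgroup.mem_iInf, H49.CentralBelow]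
    refine forall₂_congr fun U V => forall₂_congr fun hc hU => ?_
    have := hc.2.2.1
    rw [commutator_comm, H49.commutator_le_iff_map, commutator_eq_bot_iff_le_centralizer,
      MonoidHom.map_zpowers, zpowers_le]
    rfl
  have hRn : R.Normal := by
    refine normal_iInf_normal fun U => normal_iInf_normal fun V => normal_iInf_normal fun hc =>
      normal_iInf_normal fun _ => ?_
    have := hc.2.1
    have := hc.2.2.1
    have : (U.map (QuotientGroup.mk' V)).Normal :=
      Subgroup.Normal.map inferInstance _ (QuotientGroup.mk'_surjective _)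
    infer_instance
  have hgR : (⟨g, hg⟩ : L) ∈ R := by
    refine (hmemR _).mpr fun U V hc hU => ?_
    refine commutator_le_of_short (hG.of_injective L.subtype L.subtype_injective) hc
      (hP'.to_le hU) ?_
    have := hc.2.1
    refine le_trans (H49.iter_antitone U _ (show 2 ≤ p - 1 by have := hp.out.two_le; omega)) ?_
    refine le_trans (H49.iter_mono hU _ 2) ?_
    have e : (iterCommutator P' (zpowers (⟨g, hg⟩ : L)) 2).map L.subtype = ⊥ := by
      rw [H49.iter_map, map_subgroupOf_eq_of_le le_normalizer, MonoidHom.map_zpowers]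
      exact hquad
    rw [Subgroup.map_eq_bot_iff_of_injective _ L.subtype_injective] at e
    rw [e]
    exact bot_le
  have hle : R.map (QuotientGroup.mk' C) ≤ pCore p (L ⧸ C) := by
    have : (R.map (QuotientGroup.mk' C)).Normal := hRn.map _ (QuotientGroup.mk'_surjective C)
    refine Cores.le_pCore ?_
    rintro ⟨_, x, hx, rfl⟩
    obtain ⟨k, hk⟩ := Fusion.exists_pow_coprime (p := p) x
    refine ⟨k, Subtype.ext ?_⟩
    show QuotientGroup.mk' C x ^ p ^ k = 1
    rw [← map_pow]
    refine (QuotientGroup.eq_one_iff _).mpr ?_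
    refine mem_centralizer_iff.mpr fun y hy => ?_
    have := H49.commute_of_centralBelow hk P' inferInstance hP'
      ((hmemR _).mp (pow_mem hx _)) ⟨y, le_normalizer hy⟩ hy
    exact (congrArg Subtype.val this).symm
  exact hle (mem_map_of_mem _ hgR)

end Cfsg.Agent.H25
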