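import Cfsg.Agent.Fusion.PComplement

/-!
# A counting form of Burnside's transfer theorem
-/

set_option autoImplicit false

namespace Cfsg.Agent.H25

open Subgroup

universe u

variable {G : Type u} [Group G] [Finite G] {p : ℕ} [Fact p.Prime]

/-- If the order of an abelian Sylow `p`-subgroup `P` is not congruent to the order of a proper
subgroup modulo any other prime dividing `|G|`, then there is a normal `p`-complement. -/
theorem hasNormalPComplement_of_counting (P : Sylow p G) (hP : IsMulCommutative (P : Subgroup G))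
    (h : ∀ r : ℕ, r.Prime → r ∣ Nat.card G → r ≠ p → ∀ d : ℕ, d ∣ Nat.card P → d < Nat.card P →
      ¬ r ∣ Nat.card P - d) : HasNormalPComplement p G := by
  refine Fusion.hasNormalPComplement_of_normalizer_le_centralizer P ?_
  by_contra hle
  set N := normalizer ((P : Subgroup G) : Set G) with hN
  set C := (centralizer ((P : Subgroup G) : Set G)).subgroupOf N with hC
  have hPC : (P : Subgroup G).subgroupOf N ≤ C :=
    fun x hx => (le_centralizer_iff_isMulCommutative.mpr hP) hx
  have hidx : C.index ≠ 1 := by
    rw [Ne, index_eq_one, hC, subgroupOf_eq_top]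
    exact hle
  obtain ⟨r, hr, hrd⟩ := Nat.exists_prime_and_dvd hidx
  have := Fact.mk hr
  have hrp : r ≠ p := by
    rintro rfl
    exact (P.subtype le_normalizer).not_dvd_index
      (hrd.trans (index_dvd_of_le hPC))
  let R : Sylow r N := default
  obtain ⟨g, hgR, hgC⟩ : ∃ g ∈ (R : Subgroup N), g ∉ C := by
    by_contra hno
    push Not at hno
    exact R.not_dvd_index (hrd.trans (index_dvd_of_le hno))
  let Z : Subgroup N := zpowers g
  have hZ : IsPGroup r Z := R.isPGroup'.to_le (zpowers_le.mpr hgR)
  let _ : MulAction Z (P : Subgroup G) :=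
    { smul := fun z x => ⟨(z : N) * (x : G) * ((z : N) : G)⁻¹,
        (mem_normalizer_iff.mp (z : N).2 x).mp x.2⟩
      one_smul := fun x => Subtype.ext (by
        change ((1 : Z) : N) * (x : G) * (((1 : Z) : N) : G)⁻¹ = x
        simp)
      mul_smul := fun a b x => Subtype.ext (by
        change (((a * b : Z) : N) : G) * (x : G) * (((a * b : Z) : N) : G)⁻¹ =
          ((a : N) : G) * (((b : N) : G) * (x : G) * ((b : N) : G)⁻¹) * ((a : N) : G)⁻¹
        simp [mul_assoc]) }
  have hsm : ∀ (z : Z) (x : (P : Subgroup G)),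
      ((z • x : (P : Subgroup G)) : G) = ((z : N) : G) * (x : G) * ((z : N) : G)⁻¹ :=
    fun _ _ => rfl
  set F := (P : Subgroup G) ⊓ centralizer {((g : N) : G)} with hF
  have hfix : Nat.card (MulAction.fixedPoints Z (P : Subgroup G)) = Nat.card F := by
    refine Nat.card_congr
      { toFun := fun x => ⟨(x.1 : G), x.1.2, ?_⟩
        invFun := fun y => ⟨⟨y.1, y.2.1⟩, ?_⟩
        left_inv := fun x => rfl
        right_inv := fun y => rfl }
    · have h0 : (⟨g, mem_zpowers g⟩ : Z) • x.1 = x.1 := x.2 _
      have : ((g : N) : G) * (x.1 : G) * ((g : N) : G)⁻¹ = (x.1 : G) :=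
        (hsm ⟨g, mem_zpowers g⟩ x.1).symm.trans (Subtype.ext_iff.mp h0)
      change ((x.1 : (P : Subgroup G)) : G) ∈ centralizer {((g : N) : G)}
      rw [mem_centralizer_singleton_iff]
      exact (mul_inv_eq_iff_eq_mul.mp this).symm
    · intro z
      refine Subtype.ext ?_
      rw [hsm]
      have hy := mem_centralizer_singleton_iff.mp y.2.2
      obtain ⟨k, hk⟩ := mem_zpowers_iff.mp z.2
      rw [← hk, coe_zpow, mul_inv_eq_iff_eq_mul]
      exact (Commute.zpow_left (show Commute ((g : N) : G) y.1 from hy.symm) k).eq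
  have hlt : Nat.card F < Nat.card P := by
    refine lt_of_le_of_ne (card_le_of_le inf_le_left) fun he => hgC ?_
    intro x hx
    have h1 : F = (P : Subgroup G) := eq_of_le_of_card_ge inf_le_left he.ge
    rw [SetLike.mem_coe, ← h1] at hx
    exact mem_centralizer_singleton_iff.mp hx.2
  have hmod := hZ.card_modEq_card_fixedPoints (P : Subgroup G)
  rw [hfix] at hmod
  refine h r hr ?_ hrp _ (card_dvd_of_le inf_le_left) hlt ?_
  · exact hrd.trans ((index_dvd_card C).trans (card_subgroup_dvd_card N))
  · exact (Nat.modEq_iff_dvd' hlt.le).mp hmod.symm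

end Cfsg.Agent.H25
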