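import Cfsg.Agent.H25.ThompsonCriterion
import Cfsg.Agent.H49.KFunctor
import Cfsg.Agent.PGroups.Critical
import Cfsg.Prelude.Def_EvenType

/-!
Applications of Thompson's criterion.
-/

set_option autoImplicit false
set_option linter.unusedSectionVars false

namespace Cfsg.Agent.H25

open Subgroup

universe u

variable {p : ℕ} [hp : Fact p.Prime] {W : ∀ (Q : Type u) [Group Q], Subgroup Q}

/-- The local hypothesis only has to be checked on the quotients `K ⧸ R` of subgroups. -/
theorem locHyp_of_sections (hW : IsCharPFunctor.{u} p W) {G : Type u} [Group G] [Finite G]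
    (h : ∀ (K R : Subgroup G) [(R.subgroupOf K).Normal],
      centralizer (pCore p (↥K ⧸ R.subgroupOf K) : Set (↥K ⧸ R.subgroupOf K)) ≤
          pCore p (↥K ⧸ R.subgroupOf K) →
      HasNormalPComplement p ((↥K ⧸ R.subgroupOf K) ⧸ pCore p (↥K ⧸ R.subgroupOf K)) →
      IsPAbelianP p (↥K ⧸ R.subgroupOf K) →
      ∀ T : Sylow p (↥K ⧸ R.subgroupOf K), IsCoatom (T : Subgroup (↥K ⧸ R.subgroupOf K)) →
        (inducedFunctor W (T : Subgroup (↥K ⧸ R.subgroupOf K))).Normal) : LocHyp p W G := by
  intro X _ _ hX hC hQ hPA T hT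
  obtain ⟨K, f, hf⟩ := hX
  set R := f.ker.map K.subtype
  have e0 : R.subgroupOf K = f.ker := comap_map_eq_self_of_injective K.subtype_injective _
  have : (R.subgroupOf K).Normal := e0 ▸ f.normal_ker
  let e : (↥K ⧸ R.subgroupOf K) ≃* X :=
    (QuotientGroup.quotientMulEquivOfEq e0).trans (QuotientGroup.quotientKerEquivOfSurjective f hf)
  have hcore := Cores.pCore_map_mulEquiv (p := p) e.symm
  have hC' : centralizer (pCore p (↥K ⧸ R.subgroupOf K) : Set (↥K ⧸ R.subgroupOf K)) ≤
      pCore p (↥K ⧸ R.subgroupOf K) := by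
    intro y hy
    have h1 : e y ∈ centralizer (pCore p X : Set X) := by
      refine mem_centralizer_iff.mpr fun z hz => e.symm.injective ?_
      rw [map_mul, map_mul, e.symm_apply_apply]
      exact mem_centralizer_iff.mp hy _ (hcore ▸ mem_map_of_mem e.symm.toMonoidHom hz)
    have h2 : e.symm (e y) ∈ (pCore p X).map e.symm.toMonoidHom :=
      mem_map_of_mem e.symm.toMonoidHom (hC h1)
    rwa [e.symm_apply_apply, hcore] at h2
  have hQ' : HasNormalPComplement p
      ((↥K ⧸ R.subgroupOf K) ⧸ pCore p (↥K ⧸ R.subgroupOf K)) :=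
    (Fusion.hasNormalPComplement_congr (QuotientGroup.congr (pCore p X)
      (pCore p (↥K ⧸ R.subgroupOf K)) e.symm hcore)).mp hQ
  set T' := T.mapSurjective (f := e.symm.toMonoidHom) e.symm.surjective
  have hT' : IsCoatom (T' : Subgroup (↥K ⧸ R.subgroupOf K)) :=
    (OrderIso.isCoatom_iff (MulEquiv.mapSubgroup e.symm) _).mpr hT
  have := h K R hC' hQ' (hPA.of_surjective e.symm.toMonoidHom e.symm.surjective) T' hT'
  rw [show (T' : Subgroup (↥K ⧸ R.subgroupOf K)) = (T : Subgroup X).map e.symm.toMonoidHom from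
      Sylow.coe_mapSurjective _ _, inducedFunctor_map hW _ _ T.isPGroup'
    (e.symm.injective.comp (subtype_injective _))] at this
  have h3 := this.map e.toMonoidHom e.surjective
  rwa [Subgroup.map_map, show e.toMonoidHom.comp e.symm.toMonoidHom = MonoidHom.id X from
    MonoidHom.ext fun z => e.apply_symm_apply z, Subgroup.map_id] at h3

/-- If `U` controls strong fusion in a constrained group then `U` is normal. -/
theorem normal_of_controlsStrongFusion {X : Type u} [Group X] [Finite X] (U : Subgroup X)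
    (hC : centralizer (pCore p X : Set X) ≤ pCore p X) (hQ : pCore p X ≤ normalizer (U : Set X))
    (h : ControlsStrongFusion p U) : U.Normal := by
  obtain ⟨T, hUT, hT⟩ := h
  refine normalizer_eq_top_iff.mp (top_le_iff.mp fun g _ => ?_)
  obtain ⟨-, hfus⟩ := hT (pCore p X : Set X) (Cores.pCore_le_sylow T)
  obtain ⟨x, hx, hxe⟩ := hfus g (by
    rintro _ ⟨a, ha, rfl⟩
    exact Cores.pCore_le_sylow T ((inferInstance : (pCore p X).Normal).conj_mem a ha g))
  have h1 : x⁻¹ * g ∈ centralizer (pCore p X : Set X) := by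
    refine mem_centralizer_iff.mpr fun a ha => ?_
    calc a * (x⁻¹ * g) = x⁻¹ * (x * a * x⁻¹) * g := by group
      _ = x⁻¹ * g * a := by rw [← hxe a ha]; group
  simpa using mul_mem hx (hQ (hC h1))

/-- In a constrained group with series `p`, abelian `p'`, `p` and `p` odd, both K-infinity
subgroups of a Sylow subgroup are normal. -/
theorem kInfLower_normal {X : Type u} [Group X] [Finite X] (hodd : p ≠ 2)
    (hC : centralizer (pCore p X : Set X) ≤ pCore p X) (hPA : IsPAbelianP p X) (T : Sylow p X) :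
    (inducedFunctor kInfLower (T : Subgroup X)).Normal := by
  by_contra hn
  set Q := pCore p X with hQ
  have hQp : IsPGroup p Q := Cores.pCore_isPGroup
  obtain ⟨H, hH, -, hHQ, hHC⟩ := PGroups.exists_critical hQp
  have := hH
  set A := H.map Q.subtype with hA
  have hAQ : A ≤ Q := map_subtype_le _
  have hAn : A.Normal := ConjAct.normal_of_characteristic_of_normal
  have hzc : (H ⊓ centralizer (H : Set Q)).map Q.subtype ≤ H49.zc A := by
    rintro _ ⟨x, ⟨hx, hxc⟩, rfl⟩
    refine ⟨mem_map_of_mem _ hx, mem_centralizer_iff.mpr ?_⟩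
    rintro _ ⟨y, hy, rfl⟩
    exact congrArg Subtype.val (mem_centralizer_iff.mp hxc y hy)
  have hTA : ⁅Q, A⁆ ≤ H49.zc A := by
    refine le_trans ?_ hzc
    refine le_trans ?_ (map_mono hHQ)
    rw [map_commutator, ← MonoidHom.range_eq_map, range_subtype, commutator_comm]
  have hA2 : ⁅A, A⁆ ≤ centralizer (A : Set X) :=
    ((commutator_mono hAQ le_rfl).trans hTA).trans inf_le_right
  obtain ⟨g, hgT, hgQ, -, -, h3⟩ := H49.kInf_main (p := p) (T : Subgroup X) Q A
    (Cores.pCore_le_sylow T) hQp (fun N hN hNp => have := hN; Cores.le_pCore hNp)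
    hAQ hTA hA2 (Or.inl hn)
  obtain ⟨U, V, hc, hUA, hq, hnon⟩ := h3
    (fun φ hφ hfix => PGroups.mulAut_eq_one_of_fixed hQp H hHC φ hφ
      fun x hx => hfix x (mem_map_of_mem _ hx)) hC
  refine hnon (commutator_le_of_short hPA hc (hQp.to_le (hUA.trans hAQ)) ?_)
  have := hc.2.1
  exact le_trans (H49.iter_antitone U _ (show 2 ≤ p - 1 by have := hp.out.two_le; omega)) hq

end Cfsg.Agent.H25
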