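import Cfsg.Agent.H25.ShortAction
import Cfsg.Agent.Fusion.Frobenius
import Cfsg.Agent.Components.PLocal
import Cfsg.Agent.Coprime.Action
import Cfsg.Prelude.Def_ConjugacyFunctors

/-!
Thompson's normal p-complement criterion for isomorphism-invariant p-group functors.
-/

set_option autoImplicit false
set_option linter.unusedSectionVars false

namespace Cfsg.Agent.H25

open Subgroup
open scoped commutatorElement

universe u

variable {p : ℕ} [hp : Fact p.Prime] {W : ∀ (Q : Type u) [Group Q], Subgroup Q}

theorem inducedFunctor_map (hW : IsCharPFunctor.{u} p W) {G H : Type u} [Group G] [Group H]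
    [Finite G] (f : G →* H) (P : Subgroup G) (hP : IsPGroup p P)
    (hf : Function.Injective (f.comp P.subtype)) :
    inducedFunctor W (P.map f) = (inducedFunctor W P).map f := by
  let e : P ≃* (P.map f) := MulEquiv.ofBijective (f.subgroupMap P)
    ⟨fun a b h => hf (congrArg Subtype.val h), MonoidHom.subgroupMap_surjective f P⟩
  rw [inducedFunctor, inducedFunctor, ← hW.2 P (P.map f) hP e, Subgroup.map_map, Subgroup.map_map]
  rfl

theorem inducedFunctor_ne_bot (hW : IsCharPFunctor.{u} p W) {G : Type u} [Group G] [Finite G]
    {P : Subgroup G} (hP : IsPGroup p P) (hne : P ≠ ⊥) : inducedFunctor W P ≠ ⊥ := by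
  rw [inducedFunctor, Ne, Subgroup.map_eq_bot_iff_of_injective _ P.subtype_injective]
  exact hW.1 P hP ((nontrivial_iff_ne_bot P).mpr hne)

theorem normalizer_le_normalizer_inducedFunctor (hW : IsCharPFunctor.{u} p W) {G : Type u}
    [Group G] [Finite G] {P : Subgroup G} (hP : IsPGroup p P) :
    normalizer (P : Set G) ≤ normalizer ((inducedFunctor W P : Subgroup G) : Set G) := by
  intro x hx
  refine Coprime.mem_normalizer_of_map_conj ?_
  rw [← inducedFunctor_map hW _ P hP ((MulAut.conj x).injective.comp P.subtype_injective),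
    Coprime.map_conj_eq hx]

/-- The local hypothesis of Thompson's criterion, on the sections of `G`. -/
def LocHyp (p : ℕ) (W : ∀ (Q : Type u) [Group Q], Subgroup Q) (G : Type u) [Group G] : Prop :=
  ∀ (X : Type u) [Group X] [Finite X], (∃ (K : Subgroup G) (f : K →* X), Function.Surjective f) →
    centralizer (pCore p X : Set X) ≤ pCore p X →
    HasNormalPComplement p (X ⧸ pCore p X) →
    IsPAbelianP p X → ∀ T : Sylow p X, IsCoatom (T : Subgroup X) →
      (inducedFunctor W (T : Subgroup X)).Normal

theorem LocHyp.subgroup {G : Type u} [Group G] (h : LocHyp p W G) (H : Subgroup G) :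
    LocHyp p W H := by
  intro X _ _ hX
  obtain ⟨K, f, hf⟩ := hX
  exact h X ⟨K.map H.subtype,
    f.comp (K.equivMapOfInjective H.subtype H.subtype_injective).symm.toMonoidHom,
    hf.comp (MulEquiv.surjective _)⟩

theorem LocHyp.of_surjective {G H : Type u} [Group G] [Group H] (h : LocHyp p W G) (φ : G →* H)
    (hφ : Function.Surjective φ) : LocHyp p W H := by
  intro X _ _ hX
  obtain ⟨K, f, hf⟩ := hX
  refine h X ⟨K.comap φ, f.comp (φ.subgroupComap K), hf.comp fun y => ?_⟩
  obtain ⟨x, hx⟩ := hφ y
  exact ⟨⟨x, show φ x ∈ K by rw [hx]; exact y.2⟩, Subtype.ext hx⟩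

/-- The statement proved by induction on the order of the group. -/
private def Crit (p : ℕ) [Fact p.Prime] (W : ∀ (Q : Type u) [Group Q], Subgroup Q) (n : ℕ) : Prop :=
  ∀ (G : Type u) [Group G] [Finite G], Nat.card G = n → ∀ S : Sylow p G,
    HasNormalPComplement p (normalizer ((inducedFunctor W (S : Subgroup G) : Subgroup G) : Set G)) →
    LocHyp p W G → HasNormalPComplement p G

private theorem proper_subgroup (hW : IsCharPFunctor.{u} p W) {G : Type u} [Group G] [Finite G]
    (ih : ∀ m < Nat.card G, Crit p W m) (hloc : LocHyp p W G) {H P : Subgroup G}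
    (hH : H ≠ ⊤) (hPH : P ≤ H) (hP : IsPGroup p P) (hidx : ¬ p ∣ P.relIndex H)
    (hN : HasNormalPComplement p (normalizer ((inducedFunctor W P : Subgroup G) : Set G))) :
    HasNormalPComplement p H := by
  have hcard : Nat.card H < Nat.card G :=
    lt_of_le_of_ne (Subgroup.card_le_card_group _) fun h => hH (eq_top_of_card_eq _ h)
  obtain ⟨T, hT⟩ : ∃ T : Sylow p H, (T : Subgroup H) = P.subgroupOf H :=
    ⟨hP.comap_subtype.toSylow hidx, rfl⟩
  refine ih _ hcard H rfl T ?_ (hloc.subgroup H)
  have e : (inducedFunctor W (T : Subgroup H)).map H.subtype = inducedFunctor W P := by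
    rw [← inducedFunctor_map hW _ _ T.isPGroup' (H.subtype_injective.comp (subtype_injective _)),
      hT, map_subgroupOf_eq_of_le hPH]
  let F := normalizer ((inducedFunctor W (T : Subgroup H) : Subgroup H) : Set H)
  have hle : F.map H.subtype ≤ normalizer ((inducedFunctor W P : Subgroup G) : Set G) := by
    rw [← e]
    exact le_normalizer_map _
  exact (Fusion.hasNormalPComplement_congr
    (F.equivMapOfInjective H.subtype H.subtype_injective)).mpr
      (Fusion.hasNormalPComplement_of_le hN hle)

/-- In a group with `G/O_p(G)` having a normal `p`-complement in which a Sylow subgroup is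
maximal, the series `p`, abelian `p'`, `p` exists. -/
theorem isPAbelianP_of_coatom {G : Type u} [Group G] [Finite G]
    (h : HasNormalPComplement p (G ⧸ pCore p G)) (S : Sylow p G)
    (hS : IsCoatom (S : Subgroup G)) : IsPAbelianP p G := by
  classical
  set Q := pCore p G with hQ
  set f := QuotientGroup.mk' Q with hf
  have hfs : Function.Surjective f := QuotientGroup.mk'_surjective Q
  set K := pResidual p (G ⧸ Q) with hK
  have hKp : ¬ p ∣ Nat.card K := Fusion.hasNormalPComplement_iff_pResidual.mp h
  set S' := (S : Subgroup G).map f with hS'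
  have hS'p : IsPGroup p S' := S.isPGroup'.map f
  have hS'K : S' ≤ normalizer (K : Set (G ⧸ Q)) := by
    rw [normalizer_eq_top]; exact le_top
  have hdisj : ∀ x ∈ K, x ∈ S' → x = 1 := by
    intro x hxK hxS
    obtain ⟨k, hk⟩ := hS'p ⟨x, hxS⟩
    have h1 : x ^ p ^ k = 1 := by simpa using congrArg Subtype.val hk
    have h2 := (K.orderOf_dvd_natCard hxK)
    have h3 : (orderOf x).Coprime p :=
      ((hp.out.coprime_iff_not_dvd.mpr hKp).symm).coprime_dvd_left h2
    exact orderOf_eq_one_iff.mp
      (Nat.eq_one_of_dvd_coprimes (h3.pow_right k) dvd_rfl (orderOf_dvd_of_pow_eq_one h1))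
  -- a nontrivial invariant subgroup of `K` is `K`
  have hmin : ∀ L : Subgroup (G ⧸ Q), L ≤ K → S' ≤ normalizer (L : Set (G ⧸ Q)) → L ≠ ⊥ → L = K := by
    intro L hLK hSL hL
    have hle : (S : Subgroup G) ≤ (L ⊔ S').comap f :=
      (le_comap_map f _).trans (comap_mono le_sup_right)
    rcases eq_or_lt_of_le hle with he | hlt
    · refine absurd (le_bot_iff.mp fun x hx => ?_) hL
      obtain ⟨y, rfl⟩ := hfs x
      have : y ∈ (S : Subgroup G) := he ▸ (mem_sup_left hx : f y ∈ L ⊔ S')
      exact hdisj _ (hLK hx) (mem_map_of_mem f this)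
    · refine le_antisymm hLK fun x hx => ?_
      have htop : L ⊔ S' = ⊤ :=
        comap_injective hfs ((hS.2 _ hlt).trans (comap_top f).symm)
      obtain ⟨l, hl, s, hs, rfl⟩ := (Coprime.mem_sup_iff (H := S') (N := L) hSL).mp
        (htop ▸ mem_top x : x ∈ L ⊔ S')
      have : s ∈ K := by simpa using mul_mem (inv_mem (hLK hl)) hx
      rw [hdisj s this hs, mul_one]
      exact hl
  have hKab : ∀ a ∈ K, ∀ b ∈ K, ⁅a, b⁆ = 1 := by
    by_contra hne
    have hne' : ⁅K, K⁆ ≠ ⊥ := fun h0 => hne fun a ha b hb => by
      simpa [h0] using commutator_mem_commutator ha hb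
    have hKne : K ≠ ⊥ := fun h0 => hne' (by rw [h0, commutator_bot_left])
    obtain ⟨q, hq, hqd⟩ := Nat.exists_prime_and_dvd
      (fun h1 => hKne (Subgroup.card_eq_one.mp h1))
    have : Fact q.Prime := ⟨hq⟩
    obtain ⟨n, hn⟩ := IsPGroup.iff_card.mp hS'p
    have hsolv : Group.IsSolvable S' := by
      have := hS'p.isNilpotent
      infer_instance
    have hcop : (Nat.card S').Coprime (Nat.card K) := by
      rw [hn]; exact (hp.out.coprime_iff_not_dvd.mpr hKp).pow_left n
    obtain ⟨P, hP⟩ := Coprime.exists_invariant_sylow hS'K hcop (Or.inl hsolv) q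
    have hPne : (P : Subgroup K).map K.subtype ≠ ⊥ := by
      rw [Ne, Subgroup.map_eq_bot_iff_of_injective _ K.subtype_injective]
      exact P.ne_bot_of_dvd_card hqd
    have hPK := hmin _ (map_subtype_le _) hP hPne
    have hKq : IsPGroup q K := hPK ▸ P.isPGroup'.map K.subtype
    have hcomm := hmin ⁅K, K⁆ (commutator_le_right K K) (by rw [normalizer_eq_top]; exact le_top) hne'
    have := hKq.isNilpotent
    have : Nontrivial K := (nontrivial_iff_ne_bot K).mpr hKne
    refine (Group.IsSolvable.commutator_lt_top_of_nontrivial ↥K).ne ?_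
    apply Subgroup.map_injective (f := K.subtype) K.subtype_injective
    rw [commutator_def, map_commutator, ← MonoidHom.range_eq_map, range_subtype, hcomm]
  refine ⟨Q, K.comap f, inferInstance, inferInstance, Cores.pCore_isPGroup, fun x => ?_,
    fun m hm m' hm' => ?_, fun m hm => ?_⟩
  · obtain ⟨k, hk⟩ := Fusion.exists_pow_mem_pResidual (p := p) (f x)
    exact ⟨k, by rwa [Subgroup.mem_comap, map_pow]⟩
  · have := hKab _ hm _ hm'
    rw [← map_commutatorElement] at this
    exact (QuotientGroup.eq_one_iff _).mp this
  · refine ⟨Nat.card K, (hp.out.coprime_iff_not_dvd.mpr hKp).symm, ?_⟩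
    have : f m ^ Nat.card K = 1 :=
      orderOf_dvd_iff_pow_eq_one.mp (K.orderOf_dvd_natCard hm)
    rw [← map_pow] at this
    exact (QuotientGroup.eq_one_iff _).mp this

private theorem crit (hW : IsCharPFunctor.{u} p W) : ∀ n, Crit p W n := by
  intro n
  induction n using Nat.strong_induction_on with
  | _ n ih =>
    intro G _ _ hn S hN hloc
    subst hn
    by_contra hG
    have hp2 := hp.out
    have hsub : ∀ H : Subgroup G, H ≠ ⊤ → (S : Subgroup G) ≤ H → HasNormalPComplement p H :=
      fun H hH hSH => proper_subgroup hW ih hloc hH hSH S.isPGroup'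
        (fun hd => S.not_dvd_index (hd.trans (relIndex_dvd_index_of_le hSH))) hN
    -- a `p`-local subgroup without normal complement exists
    obtain ⟨H₀, hH₀, hH₀ne, hH₀N⟩ : ∃ H : Subgroup G, IsPGroup p H ∧ H ≠ ⊥ ∧
        ¬ HasNormalPComplement p (normalizer (H : Set G)) := by
      by_contra hc
      push Not at hc
      exact hG (Fusion.frobenius_local.mpr hc)
    obtain ⟨H, ⟨hHp, hHne, hHN⟩, hmax⟩ := Set.exists_max_image
      {H : Subgroup G | IsPGroup p H ∧ H ≠ ⊥ ∧ ¬ HasNormalPComplement p (normalizer (H : Set G))}
      (fun H => (Nat.card (normalizer (H : Set G))).factorization p) (Set.toFinite _)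
      ⟨H₀, hH₀, hH₀ne, hH₀N⟩
    set N := normalizer (H : Set G) with hNdef
    have hNtop : N = ⊤ := by
      by_contra hNtop
      obtain ⟨P₁, hP₁⟩ := IsPGroup.exists_le_sylow (hHp.comap_subtype (K := N))
      set P := (P₁ : Subgroup N).map N.subtype with hP
      have hPp : IsPGroup p P := P₁.isPGroup'.map _
      have hPN : P ≤ N := map_subtype_le _
      have hPidx : ¬ p ∣ P.relIndex N := by
        rw [relIndex, hP, subgroupOf, comap_map_eq_self_of_injective N.subtype_injective]
        exact P₁.not_dvd_index
      have hHP : H ≤ P := by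
        rw [← map_subgroupOf_eq_of_le (le_normalizer : H ≤ N)]
        exact map_mono hP₁
      obtain ⟨S₁, hS₁⟩ := hPp.exists_le_sylow
      have hPne : P ≠ ⊥ := fun h0 => hHne (le_bot_iff.mp (h0 ▸ hHP))
      rcases eq_or_lt_of_le hS₁ with he | hlt
      · obtain ⟨g, hg⟩ := MulAction.exists_smul_eq G S S₁
        have hPe : P = (S : Subgroup G).map (MulAut.conj g).toMonoidHom := by
          rw [he, ← hg]; rfl
        refine hHN (proper_subgroup hW ih hloc hNtop hPN hPp hPidx ?_)
        rw [hPe, inducedFunctor_map hW _ _ S.isPGroup'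
          ((MulAut.conj g).injective.comp (subtype_injective _)),
          ← map_equiv_normalizer_eq _ (MulAut.conj g)]
        exact (Fusion.hasNormalPComplement_congr
          ((normalizer _).equivMapOfInjective _ (MulAut.conj g).injective)).mp hN
      · have hgrow : P < (S₁ : Subgroup G) ⊓ normalizer (P : Set G) := by
          refine lt_of_le_of_ne (le_inf hS₁ le_normalizer) fun he => ?_
          have := S₁.isPGroup'.isNilpotent
          have hlt' := (Group.normalizerCondition_of_isNilpotent (G := S₁)) (P.subgroupOf S₁)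
            (lt_top_iff_ne_top.mpr fun ht => hlt.not_ge (subgroupOf_eq_top.mp ht))
          refine hlt'.ne ?_
          rw [← subgroupOf_normalizer_eq hS₁]
          conv_lhs => rw [he]
          rw [inf_subgroupOf_left]
        have hWP : IsPGroup p ↥(inducedFunctor W P) := hPp.to_le (map_subtype_le _)
        refine hHN (proper_subgroup hW ih hloc hNtop hPN hPp hPidx ?_)
        by_contra hbad
        have hle := hmax (inducedFunctor W P) ⟨hWP, inducedFunctor_ne_bot hW hPp hPne, hbad⟩
        obtain ⟨a, ha⟩ := IsPGroup.iff_card.mp hPp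
        obtain ⟨b, hb⟩ := IsPGroup.iff_card.mp
          (S₁.isPGroup'.to_le (inf_le_left : (S₁ : Subgroup G) ⊓ normalizer (P : Set G) ≤ _))
        have hab : a < b := by
          have := Set.ncard_lt_ncard (SetLike.coe_ssubset_coe.mpr hgrow) (Set.toFinite _)
          rw [← Nat.card_coe_set_eq, ← Nat.card_coe_set_eq] at this
          simp only [SetLike.coe_sort_coe, ha, hb] at this
          exact (Nat.pow_lt_pow_iff_right hp2.one_lt).mp this
        have h1 : p ^ b ∣ Nat.card (normalizer ((inducedFunctor W P : Subgroup G) : Set G)) :=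
          hb ▸ card_dvd_of_le (inf_le_right.trans (normalizer_le_normalizer_inducedFunctor hW hPp))
        have h2 := (hp2.pow_dvd_iff_le_factorization Nat.card_pos.ne').mp h1
        have h3 : (Nat.card N).factorization p = a := by
          have := P₁.card_eq_multiplicity
          rw [← card_map_of_injective N.subtype_injective, ← hP, ha] at this
          exact ((Nat.pow_right_injective hp2.two_le) this).symm
        omega
    have hHn : H.Normal := normalizer_eq_top_iff.mp hNtop
    set Q := pCore p G with hQ
    have hQne : Q ≠ ⊥ := fun h0 => hHne (le_bot_iff.mp (h0 ▸ Cores.le_pCore hHp))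
    have hQp : IsPGroup p Q := Cores.pCore_isPGroup
    have hQS : Q ≤ (S : Subgroup G) := Cores.pCore_le_sylow S
    have hWS : IsPGroup p ↥(inducedFunctor W (S : Subgroup G)) :=
      S.isPGroup'.to_le (map_subtype_le _)
    have htop : ∀ H : Subgroup G, H = ⊤ → HasNormalPComplement p H → False := by
      rintro H rfl h
      exact hG ((Fusion.hasNormalPComplement_congr Subgroup.topEquiv).mp h)
    have hQS' : Q ≠ (S : Subgroup G) := by
      intro he
      refine htop _ (top_le_iff.mp ?_) hN
      refine le_trans ?_ (normalizer_le_normalizer_inducedFunctor hW S.isPGroup')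
      rw [← he, normalizer_eq_top]
    -- the quotient by `O_p(G)` has a normal complement
    have hquot : HasNormalPComplement p (G ⧸ Q) := by
      set f := QuotientGroup.mk' Q with hf
      have hfs : Function.Surjective f := QuotientGroup.mk'_surjective Q
      have : Nontrivial Q := (nontrivial_iff_ne_bot Q).mpr hQne
      have hlt : Nat.card (G ⧸ Q) < Nat.card G := by
        have h1 := Subgroup.card_eq_card_quotient_mul_card_subgroup Q
        have h2 : 1 < Nat.card Q := Finite.one_lt_card
        have h3 : 0 < Nat.card (G ⧸ Q) := Nat.card_pos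
        rw [h1]; exact lt_mul_of_one_lt_right h3 h2
      set S' := S.mapSurjective hfs with hS'
      refine ih _ hlt (G ⧸ Q) rfl S' ?_ (hloc.of_surjective f hfs)
      set T := inducedFunctor W (S' : Subgroup (G ⧸ Q))
      set H₁ := T.comap f with hH₁
      have hTp : IsPGroup p T := S'.isPGroup'.to_le (map_subtype_le _)
      have hH₁p : IsPGroup p H₁ := by
        refine hTp.comap_of_ker_isPGroup f ?_
        rw [hf, QuotientGroup.ker_mk']
        exact hQp
      have hSnorm : (S : Subgroup G) ≤ normalizer (H₁ : Set G) := by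
        rw [hH₁, ← comap_normalizer_eq_of_surjective _ hfs]
        refine le_trans (le_comap_map f _) (comap_mono ?_)
        exact le_trans le_normalizer (normalizer_le_normalizer_inducedFunctor hW S'.isPGroup')
      have hne : normalizer (H₁ : Set G) ≠ ⊤ := by
        intro ht
        have : H₁.Normal := normalizer_eq_top_iff.mp ht
        have h4 : H₁ = Q := le_antisymm (Cores.le_pCore hH₁p)
          (by rw [hH₁]; intro x hx; rw [Subgroup.mem_comap, show f x = 1 from (QuotientGroup.eq_one_iff x).mpr hx]; exact one_mem _)
        have h5 : T = ⊥ := by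
          rw [← map_comap_eq_self_of_surjective hfs T, ← hH₁, h4, Subgroup.map_eq_bot_iff, hf,
            QuotientGroup.ker_mk']
        refine inducedFunctor_ne_bot hW S'.isPGroup' (fun h6 => hQS' (le_antisymm hQS ?_)) h5
        have : (S : Subgroup G).map f = ⊥ := h6
        rwa [Subgroup.map_eq_bot_iff, hf, QuotientGroup.ker_mk'] at this
      have h7 := hsub _ hne hSnorm
      have h8 : (normalizer (H₁ : Set G)).map f = normalizer (T : Set (G ⧸ Q)) := by
        rw [hH₁, ← comap_normalizer_eq_of_surjective _ hfs, map_comap_eq_self_of_surjective hfs]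
      rw [← h8]
      exact Fusion.hasNormalPComplement_of_surjective h7 _ (MonoidHom.subgroupMap_surjective f _)
    -- no normal subgroup of order prime to `p`
    have hcore : pPrimeCore p G = ⊥ := by
      by_contra hR
      set R := pPrimeCore p G with hRdef
      set f := QuotientGroup.mk' R with hf
      have hfs : Function.Surjective f := QuotientGroup.mk'_surjective R
      have : Nontrivial R := (nontrivial_iff_ne_bot R).mpr hR
      have hlt : Nat.card (G ⧸ R) < Nat.card G := by
        have h1 := Subgroup.card_eq_card_quotient_mul_card_subgroup R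
        have h2 : 1 < Nat.card R := Finite.one_lt_card
        have h3 : 0 < Nat.card (G ⧸ R) := Nat.card_pos
        rw [h1]; exact lt_mul_of_one_lt_right h3 h2
      refine hG (Fusion.hasNormalPComplement_of_quotient_normal R
        Cores.not_dvd_card_pPrimeCore ?_)
      refine ih _ hlt (G ⧸ R) rfl (S.mapSurjective hfs) ?_ (hloc.of_surjective f hfs)
      rw [Sylow.coe_mapSurjective, inducedFunctor_map hW f _ S.isPGroup' (by
          intro a b hab
          have h4 : (a : G)⁻¹ * b ∈ R := QuotientGroup.eq.mp hab
          have h5 : (a : G)⁻¹ * b = 1 := by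
            have := (Cores.disjoint_of_isPGroup_of_coprime S.isPGroup'
              (Cores.coprime_card_pPrimeCore (p := p) (G := G))).le
              ⟨(show (a : G)⁻¹ * b ∈ (S : Subgroup G) from mul_mem (inv_mem a.2) b.2), h4⟩
            exact Subgroup.mem_bot.mp this
          exact Subtype.ext (inv_mul_eq_one.mp h5)),
        ← Components.map_normalizer_of_coprime R Cores.coprime_card_pPrimeCore hWS]
      exact Fusion.hasNormalPComplement_of_surjective hN _ (MonoidHom.subgroupMap_surjective f _)
    have hsolv : IsPSolvable p G := by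
      refine Cores.isPSolvable_of_normal_of_quotient Q (Cores.isPSolvable_of_isPGroup hQp) ?_
      set K := pResidual p (G ⧸ Q)
      exact Cores.isPSolvable_of_normal_of_quotient K
        (Cores.isPSolvable_of_coprime ((hp2.coprime_iff_not_dvd.mpr
          (Fusion.hasNormalPComplement_iff_pResidual.mp hquot)).symm))
        (Cores.isPSolvable_of_isPGroup Fusion.isPGroup_quotient_pResidual)
    have hC : centralizer (Q : Set G) ≤ Q := Cores.centralizer_pCore_le hsolv hcore
    have hcoatom : IsCoatom (S : Subgroup G) := by
      refine ⟨fun ht => hG ?_, fun M hlt => ?_⟩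
      · refine Fusion.hasNormalPComplement_of_isPGroup ?_
        have := S.isPGroup'
        rw [ht] at this
        exact this.of_equiv Subgroup.topEquiv
      · by_contra hM
        have hMc := hsub M hM hlt.le
        have hMp : IsPGroup p M := by
          intro x
          obtain ⟨k, hk⟩ := Fusion.exists_pow_coprime (p := p) x
          refine ⟨k, ?_⟩
          have hcentral : ((x ^ p ^ k : M) : G) ∈ centralizer (Q : Set G) := by
            refine mem_centralizer_iff.mpr fun q hq => ?_
            have := Fusion.commute_of_hasNormalPComplement hMc (Q := Q.subgroupOf M)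
              (hQ := hQp.comap_subtype) (g := x ^ p ^ k) hk (x := ⟨q, hlt.le (hQS hq)⟩) hq
            exact (congrArg Subtype.val this).symm
          obtain ⟨j, hj⟩ := hQp ⟨_, hC hcentral⟩
          have h1 : ((x ^ p ^ k : M)) ^ p ^ j = 1 := Subtype.ext (by simpa using congrArg Subtype.val hj)
          exact orderOf_eq_one_iff.mp (Nat.eq_one_of_dvd_coprimes (hk.pow_right j) dvd_rfl
            (orderOf_dvd_of_pow_eq_one h1))
        exact hlt.ne (S.is_maximal' hMp hlt.le).symm
    have hsurj : ∃ (K : Subgroup G) (f : K →* G), Function.Surjective f :=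
      ⟨⊤, (⊤ : Subgroup G).subtype, fun y => ⟨⟨y, trivial⟩, rfl⟩⟩
    have := hloc G hsurj hC hquot (isPAbelianP_of_coatom hquot S hcoatom) S hcoatom
    exact htop _ (normalizer_eq_top_iff.mpr this) hN

/-- **Thompson's normal `p`-complement criterion** in functor form. -/
theorem thompson_criterion (hW : IsCharPFunctor.{u} p W) {G : Type u} [Group G] [Finite G]
    (S : Sylow p G)
    (hN : HasNormalPComplement p (normalizer ((inducedFunctor W (S : Subgroup G) : Subgroup G) : Set G)))
    (hloc : LocHyp p W G) : HasNormalPComplement p G :=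
  crit hW _ G rfl S hN hloc

end Cfsg.Agent.H25
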